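import Cfsg.Agent.SymDesignPG.Recog

/-!
# The design of a 2-transitive group with an intransitive subgroup of index the degree

Blocks are the cosets of `H`, a point lies on the block of `g` iff it lies in `g O` for an orbit
`O` of `H`. If `H` is unfaithful on `O`, the recognition theorem applies.
-/

set_option autoImplicit false
set_option linter.style.haveILetI false
set_option linter.unusedVariables false
set_option linter.unusedSectionVars false

namespace Cfsg.Agent.SymDesignPG

open Finset MulAction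

section Orbits

variable {U α : Type*} [Group U] [MulAction U α]

theorem orbitQuot_two (s : Set α) (hs : ∀ (u : U) x, u • x ∈ s ↔ x ∈ s) {a b : α} (ha : a ∈ s)
    (hb : b ∉ s) (h2 : Nat.card (MulAction.orbitRel.Quotient U α) = 2) {x y : α}
    (hxy : x ∈ s ↔ y ∈ s) : x ∈ MulAction.orbit U y := by
  have hne : ∀ x y : α, x ∈ s → y ∉ s →
      (Quotient.mk'' x : MulAction.orbitRel.Quotient U α) ≠ Quotient.mk'' y := by
    intro x y hx hy h
    obtain ⟨u, rfl⟩ := (Quotient.eq''.1 h : x ∈ MulAction.orbit U y)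
    exact hy ((hs u y).1 hx)
  suffices h : (Quotient.mk'' x : MulAction.orbitRel.Quotient U α) = Quotient.mk'' y from
    Quotient.eq''.1 h
  by_cases hy : y ∈ s
  · exact ((Nat.card_eq_two_iff' (Quotient.mk'' b : MulAction.orbitRel.Quotient U α)).1 h2).unique
      (hne x b (hxy.2 hy) hb) (hne y b hy hb)
  · exact ((Nat.card_eq_two_iff' (Quotient.mk'' a : MulAction.orbitRel.Quotient U α)).1 h2).unique
      (hne a x ha fun h => hy (hxy.1 h)).symm (hne a y ha hy).symm

theorem orbitQuot_card_two (s : Set α) (hs : ∀ (u : U) x, u • x ∈ s ↔ x ∈ s) {a b : α}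
    (ha : a ∈ s) (hb : b ∉ s) (hin : ∀ x ∈ s, x ∈ MulAction.orbit U a)
    (hout : ∀ x, x ∉ s → x ∈ MulAction.orbit U b) :
    Nat.card (MulAction.orbitRel.Quotient U α) = 2 := by
  rw [Nat.card_eq_two_iff' (Quotient.mk'' b : MulAction.orbitRel.Quotient U α)]
  refine ⟨Quotient.mk'' a, fun h => ?_, fun c => ?_⟩
  · obtain ⟨u, rfl⟩ := (Quotient.eq''.1 h : a ∈ MulAction.orbit U b)
    exact hb ((hs u b).1 ha)
  · induction c using Quotient.inductionOn' with | _ x =>
    intro hx
    by_cases hxs : x ∈ s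
    · exact Quotient.eq''.2 (hin x hxs)
    · exact absurd (Quotient.eq''.2 (hout x hxs)) hx

end Orbits

variable {G Ω : Type*} [Group G] [MulAction G Ω]

/-- Incidence between a point and a coset of `H`. -/
def cosetInc (H : Subgroup G) (O : Set Ω) (p : Ω) (l : G ⧸ H) : Prop :=
  ∃ g : G, (g : G ⧸ H) = l ∧ g⁻¹ • p ∈ O

theorem cosetInc_mk {H : Subgroup G} {O : Set Ω} (hO : ∀ h ∈ H, ∀ x ∈ O, h • x ∈ O) (p : Ω)
    (g : G) : cosetInc H O p (g : G ⧸ H) ↔ g⁻¹ • p ∈ O := by
  refine ⟨fun ⟨g', hg', hp⟩ => ?_, fun hp => ⟨g, rfl, hp⟩⟩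
  have := hO _ (inv_mem (QuotientGroup.eq.1 hg')) _ hp
  simpa [mul_smul] using this

theorem cosetInc_smul {H : Subgroup G} {O : Set Ω} (hO : ∀ h ∈ H, ∀ x ∈ O, h • x ∈ O) (g : G)
    (p : Ω) (l : G ⧸ H) : cosetInc H O (g • p) (g • l) ↔ cosetInc H O p l := by
  induction l using QuotientGroup.induction_on with | _ x =>
  rw [MulAction.Quotient.smul_coe, smul_eq_mul, cosetInc_mk hO, cosetInc_mk hO]
  simp [mul_smul]

section Counting

variable [Finite G] [Fintype Ω] {H : Subgroup G} [Fintype (G ⧸ H)] {O : Set Ω}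
  (h2 : MulAction.IsMultiplyPretransitive G Ω 2) (hidx : H.index = Nat.card Ω)
  (hO : ∀ h ∈ H, ∀ x ∈ O, h • x ∈ O) (hk : 2 ≤ Nat.card O) (hkv : Nat.card O + 2 ≤ Nat.card Ω)

include hO in
theorem card_block (l : G ⧸ H) : Nat.card {p // cosetInc H O p l} = Nat.card O := by
  induction l using QuotientGroup.induction_on with | _ g =>
  exact Nat.card_congr ((MulAction.toPerm g⁻¹).subtypeEquiv fun p => cosetInc_mk hO p g)

include h2 hidx hO in
theorem card_through (p : Ω) : Nat.card {l // cosetInc H O p l} = Nat.card O := by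
  classical
  have := h2
  haveI : MulAction.IsPretransitive G Ω :=
    MulAction.isPretransitive_of_is_two_pretransitive
  have hconst : ∀ q : Ω, Nat.card {l // cosetInc H O q l} = Nat.card {l // cosetInc H O p l} := by
    intro q
    obtain ⟨g, rfl⟩ := MulAction.exists_smul_eq G p q
    exact (Nat.card_congr ((MulAction.toPerm g).subtypeEquiv fun l =>
      (cosetInc_smul hO g p l).symm)).symm
  have h := sum_card_bipartiteAbove_eq_sum_card_bipartiteBelow
    (r := cosetInc H O) (s := (univ : Finset Ω)) (t := (univ : Finset (G ⧸ H)))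
  rw [sum_const_nat (m := Nat.card {l // cosetInc H O p l}) fun q _ => ?_,
    sum_const_nat (m := Nat.card O) fun l _ => ?_, card_univ, card_univ] at h
  · have hn : Fintype.card (G ⧸ H) = Fintype.card Ω := by
      rw [← Nat.card_eq_fintype_card, ← Nat.card_eq_fintype_card]; exact hidx
    rw [hn] at h
    exact Nat.eq_of_mul_eq_mul_left (Fintype.card_pos_iff.2 ⟨p⟩) h
  · rw [← card_block hO l, Nat.card_eq_fintype_card, Fintype.card_subtype]
    rfl
  · rw [← hconst q, Nat.card_eq_fintype_card, Fintype.card_subtype]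
    rfl

include h2 hidx hO in
theorem card_through₂ {p q : Ω} (hpq : p ≠ q) :
    Nat.card {l // cosetInc H O p l ∧ cosetInc H O q l} * (Nat.card Ω - 1)
      = Nat.card O * (Nat.card O - 1) ∧
    ∀ p' q', p' ≠ q' → Nat.card {l // cosetInc H O p' l ∧ cosetInc H O q' l} =
      Nat.card {l // cosetInc H O p l ∧ cosetInc H O q l} := by
  classical
  have hconst : ∀ p' q', p' ≠ q' → Nat.card {l // cosetInc H O p' l ∧ cosetInc H O q' l} =
      Nat.card {l // cosetInc H O p l ∧ cosetInc H O q l} := by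
    intro p' q' hne
    obtain ⟨g, rfl, rfl⟩ := MulAction.is_two_pretransitive_iff.1 h2 hpq hne
    exact (Nat.card_congr ((MulAction.toPerm g).subtypeEquiv fun l =>
      (and_congr (cosetInc_smul hO g p l) (cosetInc_smul hO g q l)).symm)).symm
  refine ⟨?_, hconst⟩
  have h := sum_card_bipartiteAbove_eq_sum_card_bipartiteBelow
    (r := cosetInc H O) (s := univ.erase p)
    (t := univ.filter fun l => cosetInc H O p l)
  rw [sum_const_nat (m := Nat.card {l // cosetInc H O p l ∧ cosetInc H O q l}) fun r hr => ?_,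
    sum_const_nat (m := Nat.card O - 1) fun l hl => ?_, card_erase_of_mem (mem_univ p),
    card_univ] at h
  · rw [Nat.card_eq_fintype_card (α := Ω), mul_comm, h, ← card_through h2 hidx hO p]
    congr 1
    rw [Nat.card_eq_fintype_card, Fintype.card_subtype]
  · simp only [mem_filter, mem_univ, true_and] at hl
    rw [← card_block hO l, Nat.card_eq_fintype_card, Fintype.card_subtype,
      ← card_erase_of_mem (show p ∈ univ.filter fun r => cosetInc H O r l by simp [hl])]
    congr 1
    ext r
    simp [bipartiteBelow, and_comm]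
  · rw [← hconst p r (ne_of_mem_erase hr).symm, Nat.card_eq_fintype_card, Fintype.card_subtype]
    congr 1
    ext l
    simp [bipartiteAbove]

include h2 hidx hO hk hkv in
theorem exists_lam : ∃ lam < Nat.card O,
    (∀ p q : Ω, p ≠ q → Nat.card {l // cosetInc H O p l ∧ cosetInc H O q l} = lam) ∧
    ∀ l l' : G ⧸ H, l ≠ l' → Nat.card {p // cosetInc H O p l ∧ cosetInc H O p l'} = lam := by
  classical
  obtain ⟨p, q, hpq⟩ : ∃ p q : Ω, p ≠ q := by
    have : 1 < Fintype.card Ω := by rw [← Nat.card_eq_fintype_card]; omega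
    exact Fintype.exists_pair_of_one_lt_card this
  obtain ⟨hlam, hpair⟩ := card_through₂ h2 hidx hO hpq
  set lam := Nat.card {l // cosetInc H O p l ∧ cosetInc H O q l}
  set k := Nat.card O
  set n := Nat.card Ω
  refine ⟨lam, ?_, hpair, fun l l' hll => ?_⟩
  · by_contra hcon
    push Not at hcon
    have h1 : k * (n - 1) ≤ k * (k - 1) := hlam ▸ Nat.mul_le_mul_right _ hcon
    have := Nat.le_of_mul_le_mul_left h1 (by omega)
    omega
  set B := univ.filter fun r => cosetInc H O r l with hB
  set T := (univ : Finset (G ⧸ H)).erase l with hT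
  let mm : G ⧸ H → ℕ := fun X => (B.filter fun r => cosetInc H O r X).card
  have hBk : B.card = k := by
    rw [← Fintype.card_subtype, ← Nat.card_eq_fintype_card]
    exact card_block hO l
  have hthrough : ∀ r, (univ.filter fun X => cosetInc H O r X).card = k := fun r => by
    rw [← Fintype.card_subtype, ← Nat.card_eq_fintype_card]
    exact card_through h2 hidx hO r
  have hthrough₂ : ∀ r s, r ≠ s →
      (univ.filter fun X => cosetInc H O r X ∧ cosetInc H O s X).card = lam := fun r s hrs => by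
    rw [← Fintype.card_subtype, ← Nat.card_eq_fintype_card]
    exact hpair r s hrs
  have h1 : ∑ X ∈ T, mm X = k * (k - 1) := by
    have h := sum_card_bipartiteAbove_eq_sum_card_bipartiteBelow
      (r := cosetInc H O) (s := B) (t := T)
    rw [sum_const_nat (m := k - 1) fun r hr => ?_, hBk] at h
    · exact h.symm
    · rw [← hthrough r, ← card_erase_of_mem (s := univ.filter fun X => cosetInc H O r X) (a := l)
        (by simpa [B] using hr)]
      congr 1
      ext X
      simp [bipartiteAbove, T]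
  have h2' : ∑ X ∈ T, mm X * mm X = k * (k - 1) * lam := by
    have h := sum_card_bipartiteAbove_eq_sum_card_bipartiteBelow
      (r := fun (rs : Ω × Ω) X => cosetInc H O rs.1 X ∧ cosetInc H O rs.2 X)
      (s := B ×ˢ B) (t := T)
    have hX : ∀ X ∈ T, ((B ×ˢ B).bipartiteBelow
        (fun (rs : Ω × Ω) X => cosetInc H O rs.1 X ∧ cosetInc H O rs.2 X) X).card
          = mm X * mm X := by
      intro X _
      rw [← card_product]
      congr 1
      ext ⟨r, s⟩
      simp [bipartiteBelow, mem_product]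
      tauto
    rw [← sum_congr rfl hX, ← h, sum_product, sum_const_nat (m := (k - 1) + (k - 1) * (lam - 1))
      fun r hr => ?_, hBk, mul_assoc]
    · congr 1
      rcases Nat.eq_zero_or_pos lam with h0 | h0
      · rw [h0] at hlam
        rw [zero_mul] at hlam
        rcases Nat.mul_eq_zero.1 hlam.symm with h' | h' <;> omega
      · obtain ⟨lam', hlam'⟩ := Nat.exists_eq_add_of_le h0
        rw [hlam', Nat.add_sub_cancel_left]
        ring
    · rw [← add_sum_erase _ _ hr, sum_const_nat (m := lam - 1) fun s hs => ?_,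
        card_erase_of_mem hr, hBk]
      · congr 1
        rw [← hthrough r, ← card_erase_of_mem (s := univ.filter fun X => cosetInc H O r X) (a := l)
          (by simpa [B] using hr)]
        congr 1
        ext X
        simp [bipartiteAbove, T]
      · rw [← hthrough₂ r s (ne_of_mem_erase hs).symm,
          ← card_erase_of_mem (s := univ.filter fun X => cosetInc H O r X ∧ cosetInc H O s X)
            (a := l) (by
              have h1 := mem_of_mem_erase hs
              simp only [B, mem_filter, mem_univ, true_and] at hr h1 ⊢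
              exact ⟨hr, h1⟩)]
        congr 1
        ext X
        simp [bipartiteAbove, T]
  have hTcard : T.card = n - 1 := by
    rw [hT, card_erase_of_mem (mem_univ l), card_univ, ← Nat.card_eq_fintype_card]
    exact congrArg (· - 1) hidx
  have hz : ∑ X ∈ T, ((mm X : ℤ) - lam) ^ 2 = 0 := by
    have e : ∀ X ∈ T, ((mm X : ℤ) - lam) ^ 2
        = ((mm X * mm X : ℕ) : ℤ) - 2 * (lam : ℤ) * (mm X : ℤ) + (lam : ℤ) * lam :=
      fun X _ => by push_cast; ring
    have hl : ((lam : ℤ)) * ((n - 1 : ℕ) : ℤ) = ((k * (k - 1) : ℕ) : ℤ) := by exact_mod_cast hlam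
    rw [sum_congr rfl e, sum_add_distrib, sum_sub_distrib, ← Nat.cast_sum, h2', ← mul_sum,
      ← Nat.cast_sum, h1, sum_const, hTcard, nsmul_eq_mul]
    push_cast at hl ⊢
    linear_combination (lam : ℤ) * hl
  have := (sum_eq_zero_iff_of_nonneg fun X _ => sq_nonneg _).1 hz l'
    (by simp [T, Ne.symm hll])
  rw [sq_eq_zero_iff, sub_eq_zero, Nat.cast_inj] at this
  rw [← this, Nat.card_eq_fintype_card, Fintype.card_subtype]
  change _ = (B.filter _).card
  rw [hB, filter_filter]

end Counting

theorem exists_psl {G Ω : Type*} [Group G] [Finite G] [MulAction G Ω] [FaithfulSMul G Ω] [Finite Ω]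
    (h2 : MulAction.IsMultiplyPretransitive G Ω 2) (H : Subgroup G) (hidx : H.index = Nat.card Ω)
    (hnt : ¬ MulAction.IsPretransitive H Ω) (hfix : ∀ a : Ω, ∃ h : H, h • a ≠ a)
    (hunf : ∃ a : Ω, ∃ h : H, h ≠ 1 ∧ ∀ b ∈ MulAction.orbit H a, h • b = b) :
    ∃ (m : ℕ) (F : Type) (_ : Field F) (_ : Fintype F), 2 ≤ m ∧
      Nat.card Ω = (Fintype.card F ^ (m + 1) - 1) / (Fintype.card F - 1) ∧
      ∃ N : Subgroup G, N.Normal ∧
        Nonempty (N ≃* Matrix.ProjectiveSpecialLinearGroup (Fin (m + 1)) F) ∧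
        Subgroup.centralizer (N : Set G) = ⊥ := by
  classical
  letI : Fintype G := Fintype.ofFinite G
  letI : Fintype Ω := Fintype.ofFinite Ω
  letI : Fintype (G ⧸ H) := Fintype.ofFinite _
  obtain ⟨a, h₀, hh₀, hfix₀⟩ := hunf
  set O : Set Ω := MulAction.orbit H a
  have hO : ∀ h ∈ H, ∀ x ∈ O, h • x ∈ O := fun h hh x hx =>
    MulAction.mem_orbit_of_mem_orbit (⟨h, hh⟩ : H) hx
  have hOiff : ∀ (u : H) x, u • x ∈ O ↔ x ∈ O := fun u x =>
    ⟨fun h => by simpa using MulAction.mem_orbit_of_mem_orbit u⁻¹ h,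
      MulAction.mem_orbit_of_mem_orbit u⟩
  have hk : 2 ≤ Nat.card O := by
    obtain ⟨h, hh⟩ := hfix a
    have : 1 < Nat.card O := Finite.one_lt_card_iff_nontrivial.2
      ⟨⟨h • a, MulAction.mem_orbit a h⟩, ⟨a, MulAction.mem_orbit_self a⟩, by simpa using hh⟩
    omega
  obtain ⟨b, hb⟩ : ∃ b, b ∉ O := by
    by_contra hcon
    push Not at hcon
    exact hnt ⟨fun x y => MulAction.orbit_eq_iff.1
      ((MulAction.orbit_eq_iff.2 (hcon y)).trans (MulAction.orbit_eq_iff.2 (hcon x)).symm)⟩
  have hkv : Nat.card O + 2 ≤ Nat.card Ω := by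
    obtain ⟨h, hh⟩ := hfix b
    have hb' : h • b ∉ O := fun e => hb ((hOiff h b).1 e)
    have hs : O.toFinset ∪ {b, h • b} ⊆ univ := subset_univ _
    have h1 := card_le_card hs
    rw [card_union_of_disjoint (by simp [hb, hb']), card_pair (Ne.symm hh), card_univ,
      Set.toFinset_card, ← Nat.card_eq_fintype_card, ← Nat.card_eq_fintype_card] at h1
    exact h1
  obtain ⟨lam, hlam, hlam₂, hlam₂'⟩ := exists_lam h2 hidx hO hk hkv
  have := h2
  haveI : MulAction.IsPretransitive G Ω := MulAction.isPretransitive_of_is_two_pretransitive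
  let D : SymDesign G Ω (G ⧸ H) :=
    { I := cosetInc H O
      smul_iff := cosetInc_smul hO
      v := Nat.card Ω
      k := Nat.card O
      lam := lam
      card_pts_univ := Nat.card_eq_fintype_card.symm
      card_blks_univ := Nat.card_eq_fintype_card.symm.trans hidx
      card_blks := card_through h2 hidx hO
      card_pts := card_block hO
      card_blks₂ := hlam₂
      card_pts₂ := hlam₂'
      lam_lt := hlam
      two_le_k := hk
      k_le := hkv
      faithful := fun g hg => eq_of_smul_eq_smul fun p : Ω => by rw [hg p, one_smul] }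
  -- the base block
  set l₀ : G ⧸ H := ((1 : G) : G ⧸ H)
  have hI₀ : ∀ p, D.I p l₀ ↔ p ∈ O := fun p => by
    change cosetInc H O p _ ↔ _
    rw [cosetInc_mk hO, inv_one, one_smul]
  have hstab : ∀ g : G, g • l₀ = l₀ ↔ g ∈ H := fun g => by
    rw [MulAction.Quotient.smul_coe, smul_eq_mul, mul_one, QuotientGroup.eq, mul_one, inv_mem_iff]
  have hblk : ∀ B B' : G ⧸ H, ∃ g : G, g • B = B' := MulAction.exists_smul_eq G
  have hn : 1 < Fintype.card Ω := by rw [← Nat.card_eq_fintype_card]; omega
  -- point stabilizers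
  have hout : ∀ (p : Ω) B B', ¬ D.I p B → ¬ D.I p B' → ∃ g : G, g • p = p ∧ g • B = B' := by
    intro p B B' hB hB'
    set U := MulAction.stabilizer G p
    have hU : ∀ (u : U) l, u • l ∈ {l | D.I p l} ↔ l ∈ {l | D.I p l} := fun u l => by
      have := D.smul_iff (u : G) p l
      rwa [show (u : G) • p = p from u.2] at this
    obtain ⟨q, hq⟩ := Fintype.exists_ne_of_one_lt_card hn p
    have hP : Nat.card (MulAction.orbitRel.Quotient U Ω) = 2 := by
      refine orbitQuot_card_two ({p} : Set Ω) (fun u x => ?_) (a := p) (b := q) rfl hq ?_ ?_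
      · simp only [Set.mem_singleton_iff]
        constructor
        · intro h
          exact MulAction.injective (u : G) (h.trans u.2.symm)
        · rintro rfl
          exact u.2
      · rintro x rfl
        exact MulAction.mem_orbit_self x
      · intro x hx
        obtain ⟨g, hg, hgq⟩ := MulAction.is_two_pretransitive_iff.1 h2 hq.symm (Ne.symm hx)
        exact ⟨⟨g, hg⟩, hgq⟩
    rw [D.orbits_card_eq U] at hP
    obtain ⟨l, hl⟩ : ∃ l, D.I p l := by
      obtain ⟨l, hl⟩ := card_pos.1 (by rw [D.blks_card]; have := D.two_le_k; omega :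
        0 < (D.blks p).card)
      exact ⟨l, D.mem_blks.1 hl⟩
    obtain ⟨u, hu⟩ := orbitQuot_two {l | D.I p l} hU hl hB hP (x := B') (y := B)
      (by simp [hB, hB'])
    exact ⟨u, u.2, hu⟩
  have hout2 : ∀ (B : G ⧸ H) (x y : Ω), ¬ D.I x B → ¬ D.I y B →
      ∃ g : G, g • B = B ∧ g • x = y := by
    intro B x y hx hy
    obtain ⟨g, hg⟩ := MulAction.exists_smul_eq G x y
    have hgB : ¬ D.I y (g • B) := fun h => hx ((D.smul_iff g x B).1 (hg.symm ▸ h))
    obtain ⟨u, hu, hu'⟩ := hout y (g • B) B hgB hy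
    exact ⟨u * g, by rw [mul_smul, hu'], by rw [mul_smul, hg, hu]⟩
  -- the stabilizer of the base block
  have hblk₂ : ∀ E E' : G ⧸ H, E ≠ l₀ → E' ≠ l₀ → ∃ g : G, g • l₀ = l₀ ∧ g • E = E' := by
    intro E E' hE hE'
    have hP : Nat.card (MulAction.orbitRel.Quotient H Ω) = 2 := by
      refine orbitQuot_card_two O hOiff (MulAction.mem_orbit_self a) hb (fun x hx => hx)
        fun x hx => ?_
      obtain ⟨g, hg, hgx⟩ := hout2 l₀ b x (fun h => hb ((hI₀ b).1 h)) fun h => hx ((hI₀ x).1 h)
      exact ⟨⟨g, (hstab g).1 hg⟩, hgx⟩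
    rw [D.orbits_card_eq H] at hP
    have hfix₀' : ∀ u : H, u • l₀ = l₀ := fun u => (hstab u).2 u.2
    obtain ⟨u, hu⟩ := orbitQuot_two ({l₀} : Set (G ⧸ H)) (fun u x => by
      simp only [Set.mem_singleton_iff]
      constructor
      · intro h
        exact MulAction.injective u (h.trans (hfix₀' u).symm)
      · rintro rfl
        exact hfix₀' u) (a := l₀) (b := E) rfl hE hP (x := E') (y := E)
      (by simp [hE, hE'])
    exact ⟨u, hfix₀' u, hu⟩
  have A : Axial D :=
    { two_trans := fun p q p' q' h h' => MulAction.is_two_pretransitive_iff.1 h2 h h'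
      blk_trans := hblk
      out_trans := hout2
      blk_trans₂ := fun B E E' hE hE' => by
        obtain ⟨g, rfl⟩ := hblk l₀ B
        obtain ⟨s, hs, hs'⟩ := hblk₂ (g⁻¹ • E) (g⁻¹ • E')
          (fun h => hE (by rw [← h, smul_inv_smul])) (fun h => hE' (by rw [← h, smul_inv_smul]))
        exact ⟨g * s * g⁻¹, by simp [mul_smul, hs], by simp [mul_smul, hs']⟩
      exists_axial := ⟨l₀, h₀, D.mem_ker.2 fun p hp => hfix₀ p ((hI₀ p).1 hp),
        fun h => hh₀ (Subtype.ext h)⟩ }
  have S : Homog D.dual := ⟨pspace_dual A, star_dual_transitive A⟩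
  obtain ⟨m, F, i₁, i₂, hm, hcard, hN⟩ := S.recognise
  exact ⟨m, F, i₁, i₂, hm, hidx.symm.trans hcard, hN⟩

end Cfsg.Agent.SymDesignPG
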