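import Mathlib

/-!
# Finite Moufang division algebras are fields (Artin–Zorn)

A finite additive group with a biadditive product without zero divisors, a two-sided unit and the
left and right Moufang laws is commutative and associative. The proof avoids Artin's theorem: a
hypothetical non-commuting pair spans an associative twisted polynomial algebra, a field by
Wedderburn.
-/

set_option autoImplicit false
set_option linter.style.haveILetI false

namespace Cfsg.Agent.SymDesignPG

/-- A Moufang division algebra structure on an additive group. -/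
structure AltDiv (W : Type*) [AddCommGroup W] where
  /-- the product -/
  m : W →+ W →+ W
  /-- the unit -/
  e : W
  one_mul : ∀ x, m e x = x
  mul_one : ∀ x, m x e = x
  no_zero : ∀ x y, m x y = 0 → x = 0 ∨ y = 0
  moufL : ∀ x y z, m (m x (m y x)) z = m x (m y (m x z))
  moufR : ∀ x y z, m z (m (m x y) x) = m (m (m z x) y) x

namespace AltDiv

set_option linter.unusedSectionVars false

variable {W : Type*} [AddCommGroup W] (R : AltDiv W)

/-- The associator. -/
def asc (x y z : W) : W := R.m (R.m x y) z - R.m x (R.m y z)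

/-- Powers. -/
def pw (x : W) : ℕ → W
  | 0 => R.e
  | n + 1 => R.m x (pw x n)

theorem altL (x z : W) : R.m (R.m x x) z = R.m x (R.m x z) := by
  have h := R.moufL x R.e z
  rwa [R.one_mul, R.one_mul] at h

theorem altR (x z : W) : R.m z (R.m x x) = R.m (R.m z x) x := by
  have h := R.moufR x R.e z
  rwa [R.mul_one, R.mul_one] at h

theorem asc_left (x z : W) : R.asc x x z = 0 := by rw [asc, R.altL, sub_self]

theorem asc_right (x z : W) : R.asc z x x = 0 := by rw [asc, R.altR, sub_self]

theorem asc_swap12 (x y z : W) : R.asc y x z = - R.asc x y z := by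
  have h := R.asc_left (x + y) z
  have h1 := R.asc_left x z
  have h2 := R.asc_left y z
  simp only [asc, map_add, AddMonoidHom.add_apply] at h h1 h2 ⊢
  rw [eq_neg_iff_add_eq_zero]
  calc _ = (R.m (R.m x x) z + R.m (R.m y x) z + (R.m (R.m x y) z + R.m (R.m y y) z)
        - (R.m x (R.m x z) + R.m x (R.m y z) + (R.m y (R.m x z) + R.m y (R.m y z))))
        - (R.m (R.m x x) z - R.m x (R.m x z)) - (R.m (R.m y y) z - R.m y (R.m y z)) := by abel
    _ = 0 := by
      rw [h1, h2, sub_zero, sub_zero]
      convert h using 1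
      abel

theorem asc_swap23 (x y z : W) : R.asc x z y = - R.asc x y z := by
  have h := R.asc_right (y + z) x
  have h1 := R.asc_right y x
  have h2 := R.asc_right z x
  simp only [asc, map_add, AddMonoidHom.add_apply] at h h1 h2 ⊢
  rw [eq_neg_iff_add_eq_zero]
  calc _ = (R.m (R.m x y) y + R.m (R.m x z) y + (R.m (R.m x y) z + R.m (R.m x z) z)
        - (R.m x (R.m y y) + R.m x (R.m z y) + (R.m x (R.m y z) + R.m x (R.m z z))))
        - (R.m (R.m x y) y - R.m x (R.m y y)) - (R.m (R.m x z) z - R.m x (R.m z z)) := by abel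
    _ = 0 := by
      rw [h1, h2, sub_zero, sub_zero]
      convert h using 1

theorem asc_cyc (x y z : W) : R.asc x y z = R.asc y z x := by
  rw [R.asc_swap23 y x z, R.asc_swap12 x y z, neg_neg]

theorem asc_flex (x y : W) : R.asc x y x = 0 := by
  rw [R.asc_cyc, R.asc_right]

theorem flex (x y : W) : R.m (R.m x y) x = R.m x (R.m y x) := sub_eq_zero.1 (R.asc_flex x y)

/-- Teichmüller's identity. -/
theorem teich (a b c d : W) :
    R.m a (R.asc b c d) + R.m (R.asc a b c) d
      = R.asc (R.m a b) c d - R.asc a (R.m b c) d + R.asc a b (R.m c d) := by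
  simp only [asc, map_sub, AddMonoidHom.sub_apply]
  abel

/-- The middle Moufang law. -/
theorem middle (a b z : W) : R.m (R.m a b) (R.m z a) = R.m (R.m a (R.m b z)) a := by
  -- `Xa = (ab, z, a)`
  have h1 := R.teich z a a b
  rw [R.asc_left, map_zero, R.asc_right, map_zero, AddMonoidHom.zero_apply, zero_add] at h1
  have h2 := R.teich a a b z
  rw [R.asc_left, map_zero, AddMonoidHom.zero_apply, add_zero] at h2
  have h3 := R.teich b z a a
  rw [R.asc_right, map_zero, zero_add, R.asc_right, zero_sub] at h3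
  -- express all associators in a normal form
  have e1 : R.asc (R.m z a) a b = R.asc a b (R.m z a) := R.asc_cyc _ _ _
  have e2 : R.asc z (R.m a a) b = R.asc (R.m a a) b z := R.asc_cyc _ _ _
  have e3 : R.asc z a (R.m a b) = R.asc a (R.m a b) z := R.asc_cyc _ _ _
  rw [e1, e2, e3] at h1
  have e4 : R.asc b (R.m z a) a = R.asc a b (R.m z a) := (R.asc_cyc _ _ _).symm
  have e5 : R.asc b z (R.m a a) = R.asc (R.m a a) b z := (R.asc_cyc _ _ _).symm
  have e6 : R.asc b z a = R.asc a b z := (R.asc_cyc _ _ _).symm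
  rw [e4, e5, e6] at h3
  have e7 : R.asc (R.m a b) z a = R.asc a (R.m a b) z := (R.asc_cyc _ _ _)|>.trans
    ((R.asc_cyc _ _ _))
  have hXa : R.m (R.asc a b z) a = R.asc (R.m a b) z a := by
    rw [h3, e7]
    calc -R.asc a b (R.m z a) + R.asc (R.m a a) b z
        = -R.asc a b (R.m z a) + R.asc (R.m a a) b z + 0 := (add_zero _).symm
      _ = R.asc a (R.m a b) z := by rw [h1]; abel
  calc R.m (R.m a b) (R.m z a) = R.m (R.m (R.m a b) z) a - R.asc (R.m a b) z a := by
        rw [asc]; abel
    _ = R.m (R.m a (R.m b z)) a := by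
        rw [← hXa, asc, map_sub, AddMonoidHom.sub_apply]; abel

theorem pw_mul_and (x : W) : ∀ n, (∀ z, R.m (R.pw x n) z = (R.m x)^[n] z) ∧
    ∀ z, R.m (R.pw x (n + 1)) z = (R.m x)^[n + 1] z
  | 0 => ⟨fun z => R.one_mul z, fun z => by simp [pw, R.mul_one]⟩
  | n + 1 => by
    obtain ⟨h1, h2⟩ := pw_mul_and x n
    refine ⟨h2, fun z => ?_⟩
    have hx : R.m (R.pw x n) x = R.m x (R.pw x n) := by
      rw [h1]
      clear h1 h2
      induction n with
      | zero => simp [pw, R.mul_one]
      | succ n ih => rw [Function.iterate_succ_apply', ih]; rfl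
    show R.m (R.m x (R.m x (R.pw x n))) z = _
    rw [← hx, R.moufL, h1, Function.iterate_succ_apply', ← Function.iterate_succ_apply,
      Function.iterate_succ_apply']

/-- Left multiplication by a power. -/
theorem pw_mul (x : W) (n : ℕ) (z : W) : R.m (R.pw x n) z = (R.m x)^[n] z :=
  (R.pw_mul_and x n).1 z

theorem iterate_pw (x : W) (n l : ℕ) : (R.m x)^[n] (R.pw x l) = R.pw x (n + l) := by
  induction n with
  | zero => simp
  | succ n ih => rw [Function.iterate_succ_apply', ih, Nat.succ_add]; rfl

theorem pw_mul_pw (x : W) (n l : ℕ) : R.m (R.pw x n) (R.pw x l) = R.pw x (n + l) := by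
  rw [R.pw_mul, R.iterate_pw]

theorem pw_one (x : W) : R.pw x 1 = x := by simp [pw, R.mul_one]

theorem pw_mul_right_and (x : W) : ∀ n, (∀ z, R.m z (R.pw x n) = (R.m.flip x)^[n] z) ∧
    ∀ z, R.m z (R.pw x (n + 1)) = (R.m.flip x)^[n + 1] z
  | 0 => ⟨fun z => R.mul_one z, fun z => by simp [pw, R.mul_one]⟩
  | n + 1 => by
    obtain ⟨h1, h2⟩ := pw_mul_right_and x n
    refine ⟨h2, fun z => ?_⟩
    have hx : R.pw x (n + 1 + 1) = R.m (R.m x (R.pw x n)) x := by
      have ha : R.m x (R.pw x n) = R.pw x (n + 1) := rfl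
      have hb : R.m (R.pw x (n + 1)) x = R.m (R.pw x (n + 1)) (R.pw x 1) := by rw [R.pw_one]
      rw [ha, hb, R.pw_mul_pw]
    rw [hx, R.moufR, h1, Function.iterate_succ_apply', Function.iterate_succ_apply]
    rfl

/-- Right multiplication by a power. -/
theorem pw_mul_right (x : W) (n : ℕ) (z : W) : R.m z (R.pw x n) = (R.m.flip x)^[n] z :=
  (R.pw_mul_right_and x n).1 z

theorem mul_pw_mul_pw (z x : W) (n l : ℕ) :
    R.m (R.m z (R.pw x n)) (R.pw x l) = R.m z (R.pw x (n + l)) := by
  rw [R.pw_mul_right, R.pw_mul_right, R.pw_mul_right, ← Function.iterate_add_apply, add_comm]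

theorem pw_pw_mul (z x : W) (n l : ℕ) :
    R.m (R.pw x n) (R.m (R.pw x l) z) = R.m (R.pw x (n + l)) z := by
  rw [R.pw_mul, R.pw_mul, R.pw_mul, ← Function.iterate_add_apply]

variable [Finite W]

theorem inj_left {x : W} (hx : x ≠ 0) : Function.Injective (R.m x) := by
  rw [injective_iff_map_eq_zero]
  exact fun y hy => (R.no_zero x y hy).resolve_left hx

theorem exists_period {x : W} (hx : x ≠ 0) : ∃ N, 0 < N ∧ R.pw x N = R.e := by
  obtain ⟨i, j, hij, h⟩ := Finite.exists_ne_map_eq_of_infinite (fun i : ℕ => R.pw x i)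
  have key : ∀ a b, a < b → R.pw x a = R.pw x b → ∃ N, 0 < N ∧ R.pw x N = R.e := by
    intro a b hab he
    refine ⟨b - a, by omega, ?_⟩
    have h2 : (R.m x)^[a] R.e = (R.m x)^[a] (R.pw x (b - a)) := by
      rw [R.iterate_pw, show a + (b - a) = b by omega, ← he]
      exact (R.iterate_pw x a 0)
    exact ((R.inj_left hx).iterate a h2).symm
  rcases Nat.lt_or_ge i j with h' | h'
  · exact key i j h' h
  · exact key j i (by omega) h.symm

/-- The span of the powers of `x`. -/
def powSpan (x : W) : AddSubgroup W := AddSubgroup.closure (Set.range (R.pw x))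

theorem pw_mem (x : W) (n : ℕ) : R.pw x n ∈ R.powSpan x :=
  AddSubgroup.subset_closure ⟨n, rfl⟩

theorem self_mem (x : W) : x ∈ R.powSpan x := by
  conv => arg 2; rw [← R.pw_one x]
  exact R.pw_mem x 1

omit [Finite W] in
theorem powSpan_ind {x : W} {p : W → Prop} (hp : ∀ n, p (R.pw x n)) (h0 : p 0)
    (hadd : ∀ a b, p a → p b → p (a + b)) (hneg : ∀ a, p a → p (-a)) {a : W}
    (ha : a ∈ R.powSpan x) : p a := by
  refine AddSubgroup.closure_induction (p := fun a _ => p a) ?_ h0 (fun a b _ _ => hadd a b)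
    (fun a _ => hneg a) ha
  rintro _ ⟨n, rfl⟩
  exact hp n

theorem powSpan_mul_mem {x a b : W} (ha : a ∈ R.powSpan x) (hb : b ∈ R.powSpan x) :
    R.m a b ∈ R.powSpan x := by
  refine R.powSpan_ind (p := fun a => R.m a b ∈ R.powSpan x) ?_ (by simp)
    (fun a a' h h' => by simpa using add_mem h h') (fun a h => by simpa using h) ha
  intro n
  refine R.powSpan_ind (p := fun b => R.m (R.pw x n) b ∈ R.powSpan x) ?_ (by simp)
    (fun a a' h h' => by simpa using add_mem h h') (fun a h => by simpa using h) hb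
  intro l
  rw [R.pw_mul_pw]
  exact R.pw_mem x _

theorem powSpan_assoc_left {x a b : W} (ha : a ∈ R.powSpan x) (hb : b ∈ R.powSpan x) (v : W) :
    R.m a (R.m b v) = R.m (R.m a b) v := by
  refine R.powSpan_ind (p := fun a => R.m a (R.m b v) = R.m (R.m a b) v) ?_ (by simp)
    (fun a a' h h' => by simp [h, h']) (fun a h => by simp [h]) ha
  intro n
  refine R.powSpan_ind (p := fun b => R.m (R.pw x n) (R.m b v) = R.m (R.m (R.pw x n) b) v) ?_
    (by simp) (fun a a' h h' => by simp [h, h']) (fun a h => by simp [h]) hb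
  intro l
  rw [R.pw_pw_mul, R.pw_mul_pw]

theorem powSpan_assoc_right {x a b : W} (ha : a ∈ R.powSpan x) (hb : b ∈ R.powSpan x) (v : W) :
    R.m v (R.m a b) = R.m (R.m v a) b := by
  refine R.powSpan_ind (p := fun a => R.m v (R.m a b) = R.m (R.m v a) b) ?_ (by simp)
    (fun a a' h h' => by simp [h, h']) (fun a h => by simp [h]) ha
  intro n
  refine R.powSpan_ind (p := fun b => R.m v (R.m (R.pw x n) b) = R.m (R.m v (R.pw x n)) b) ?_
    (by simp) (fun a a' h h' => by simp [h, h']) (fun a h => by simp [h]) hb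
  intro l
  rw [R.pw_mul_pw, R.mul_pw_mul_pw]

theorem powSpan_comm {x a b : W} (ha : a ∈ R.powSpan x) (hb : b ∈ R.powSpan x) :
    R.m a b = R.m b a := by
  refine R.powSpan_ind (p := fun a => R.m a b = R.m b a) ?_ (by simp)
    (fun a a' h h' => by simp [h, h']) (fun a h => by simp [h]) ha
  intro n
  refine R.powSpan_ind (p := fun b => R.m (R.pw x n) b = R.m b (R.pw x n)) ?_
    (by simp) (fun a a' h h' => by simp [h, h']) (fun a h => by simp [h]) hb
  intro l
  rw [R.pw_mul_pw, R.pw_mul_pw, add_comm]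

/-- If `y x = c y` with `c` in the span of the powers of `x`, then `c = x`. -/
theorem eq_of_twist {x y c : W} (hy : y ≠ 0) (hc : c ∈ R.powSpan x)
    (hcy : R.m y x = R.m c y) :
    R.m x y = R.m y x ∧ ∀ w, R.m (R.m x y) w = R.m x (R.m y w) := by
  classical
  set K := R.powSpan x with hK
  have hflexK : ∀ d ∈ K, ∀ d' ∈ K, ∀ v, R.m (R.m d v) d' = R.m d (R.m v d') := by
    intro d hd d' hd' v
    refine R.powSpan_ind (p := fun d => R.m (R.m d v) d' = R.m d (R.m v d')) ?_ (by simp)
      (fun a a' h h' => by simp [h, h']) (fun a h => by simp [h]) hd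
    intro n
    refine R.powSpan_ind
      (p := fun d' => R.m (R.m (R.pw x n) v) d' = R.m (R.pw x n) (R.m v d')) ?_
      (by simp) (fun a a' h h' => by simp [h, h']) (fun a h => by simp [h]) hd'
    intro l
    simp only [R.pw_mul, R.pw_mul_right]
    have hc1 : Function.Commute (R.m x) (R.m.flip x) := fun u => (R.flex x u).symm
    exact ((hc1.iterate_left n).iterate_right l v).symm
  have hKτ : ∀ d ∈ K, ∃ d' ∈ K, R.m y d = R.m d' y := by
    intro d hd
    refine R.powSpan_ind (p := fun d => ∃ d' ∈ K, R.m y d = R.m d' y) ?_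
      ⟨0, zero_mem K, by simp⟩ ?_ ?_ hd
    · intro n
      induction n with
      | zero => exact ⟨R.e, R.pw_mem x 0, by simp [pw, R.mul_one, R.one_mul]⟩
      | succ n ih =>
        obtain ⟨d', hd', h⟩ := ih
        refine ⟨R.m d' c, R.powSpan_mul_mem hd' hc, ?_⟩
        have h1 : R.pw x (n + 1) = R.m (R.pw x n) x := by
          conv_rhs => arg 2; rw [← R.pw_one x]
          rw [R.pw_mul_pw]
        rw [h1, R.powSpan_assoc_right (R.pw_mem x n) (R.self_mem x), h,
          hflexK d' hd' x (R.self_mem x), hcy, R.powSpan_assoc_left hd' hc]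
    · rintro a b ⟨a', ha', h⟩ ⟨b', hb', h'⟩
      exact ⟨a' + b', add_mem ha' hb', by simp [h, h']⟩
    · rintro a ⟨a', ha', h⟩
      exact ⟨-a', neg_mem ha', by simp [h]⟩
  choose! τ hτK hτ using hKτ
  have hτinj : ∀ d ∈ K, ∀ d' ∈ K, τ d = τ d' → d = d' := by
    intro d hd d' hd' h
    refine R.inj_left hy ?_
    rw [hτ d hd, hτ d' hd', h]
  have hcancel : ∀ a b, R.m a y = R.m b y → a = b := by
    intro a b h
    have : R.m (a - b) y = 0 := by simp [h]
    exact sub_eq_zero.1 ((R.no_zero _ _ this).resolve_right hy)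
  have hτsurj : ∀ d ∈ K, ∃ d' ∈ K, τ d' = d := by
    intro d hd
    have hfin : Finite K := inferInstance
    obtain ⟨⟨d', hd'⟩, h⟩ := (Finite.injective_iff_surjective (f := fun a : K =>
      (⟨τ a, hτK a a.2⟩ : K))).1 (fun a b h => Subtype.ext (hτinj a a.2 b b.2
        (congrArg Subtype.val h))) ⟨d, hd⟩
    exact ⟨d', hd', congrArg Subtype.val h⟩
  have hτmul : ∀ a ∈ K, ∀ b ∈ K, τ (R.m a b) = R.m (τ a) (τ b) := by
    intro a ha b hb
    refine hcancel _ _ ?_
    rw [← hτ _ (R.powSpan_mul_mem ha hb), R.powSpan_assoc_right ha hb, hτ a ha,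
      hflexK _ (hτK a ha) b hb y, hτ b hb, R.powSpan_assoc_left (hτK a ha) (hτK b hb)]
  -- `y^i (d y^l) = τ^i d y^(i+l)`
  have hstep : ∀ d ∈ K, ∀ l, R.m y (R.m d (R.pw y l)) = R.m (τ d) (R.pw y (l + 1)) := by
    intro d hd l
    cases l with
    | zero => simp [pw, R.mul_one, hτ d hd]
    | succ l =>
      show R.m y (R.m d (R.m y (R.pw y l))) = _
      rw [← R.moufL, ← R.flex, hτ d hd]
      rw [show R.m (R.m (τ d) y) y = R.m (τ d) (R.pw y 2) by simp [pw, R.mul_one, R.altR],
        R.mul_pw_mul_pw, show 2 + l = l + 1 + 1 by omega]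
  have hit : ∀ i, ∀ d ∈ K, τ^[i] d ∈ K := by
    intro i
    induction i with
    | zero => exact fun d hd => hd
    | succ i ih => intro d hd; rw [Function.iterate_succ_apply']; exact hτK _ (ih d hd)
  have hsteps : ∀ i, ∀ d ∈ K, ∀ l,
      R.m (R.pw y i) (R.m d (R.pw y l)) = R.m (τ^[i] d) (R.pw y (i + l)) := by
    intro i
    induction i with
    | zero => intro d _ l; simp [pw, R.one_mul]
    | succ i ih =>
      intro d hd l
      rw [R.pw_mul, Function.iterate_succ_apply', ← R.pw_mul, ih d hd l, hstep _ (hit i d hd),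
        Function.iterate_succ_apply', show i + 1 + l = i + l + 1 by omega]
  have hitmul : ∀ i, ∀ a ∈ K, ∀ b ∈ K, τ^[i] (R.m a b) = R.m (τ^[i] a) (τ^[i] b) := by
    intro i
    induction i with
    | zero => simp
    | succ i ih =>
      intro a ha b hb
      rw [Function.iterate_succ_apply', ih a ha b hb, hτmul _ (hit i a ha) _ (hit i b hb),
        ← Function.iterate_succ_apply' (f := τ), ← Function.iterate_succ_apply' (f := τ)]
  have hitsurj : ∀ i, ∀ d ∈ K, ∃ d' ∈ K, τ^[i] d' = d := by
    intro i
    induction i with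
    | zero => exact fun d hd => ⟨d, hd, rfl⟩
    | succ i ih =>
      intro d hd
      obtain ⟨d1, h1, rfl⟩ := hτsurj d hd
      obtain ⟨d2, h2, rfl⟩ := ih d1 h1
      exact ⟨d2, h2, Function.iterate_succ_apply' τ i d2⟩
  obtain ⟨N, hN, hyN⟩ := R.exists_period hy
  have hper : ∀ l t, R.pw y (l + N * t) = R.pw y l := by
    intro l t
    induction t with
    | zero => simp
    | succ t ih =>
      rw [show l + N * (t + 1) = (l + N * t) + N by ring, ← R.pw_mul_pw, hyN, R.mul_one, ih]
  -- the product of monomials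
  have hprod : ∀ b ∈ K, ∀ d ∈ K, ∀ i l,
      R.m (R.m b (R.pw y i)) (R.m d (R.pw y l)) = R.m (R.m b (τ^[i] d)) (R.pw y (i + l)) := by
    intro b hb d hd i l
    obtain ⟨b', hb', rfl⟩ := hitsurj i b hb
    have h1 : R.m (R.pw y i) b' = R.m (τ^[i] b') (R.pw y i) := by
      have := hsteps i b' hb' 0
      simpa [pw, R.mul_one] using this
    set l' := l + N * i - i with hl'
    have hNi : i ≤ N * i := Nat.le_mul_of_pos_left i hN
    have h2 : R.m d (R.pw y l) = R.m (R.m d (R.pw y l')) (R.pw y i) := by
      rw [R.mul_pw_mul_pw, show l' + i = l + N * i by omega, hper]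
    rw [← h1, h2, R.middle, R.powSpan_assoc_left hb' hd,
      hsteps i _ (R.powSpan_mul_mem hb' hd) l', R.mul_pw_mul_pw, hitmul i b' hb' d hd,
      show i + l' + i = i + l + N * i by omega, hper]
  -- the span of the monomials
  set gen : Set W := {w | ∃ b ∈ K, ∃ i, R.m b (R.pw y i) = w} with hgen
  set S : AddSubgroup W := AddSubgroup.closure gen with hS
  have hind : ∀ {p : W → Prop}, (∀ b ∈ K, ∀ i, p (R.m b (R.pw y i))) → p 0 →
      (∀ a b, p a → p b → p (a + b)) → (∀ a, p a → p (-a)) → ∀ {w}, w ∈ S → p w := by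
    intro p hp h0 hadd hneg w hw
    refine AddSubgroup.closure_induction (p := fun a _ => p a) ?_ h0 (fun a b _ _ => hadd a b)
      (fun a _ => hneg a) hw
    rintro _ ⟨b, hb, i, rfl⟩
    exact hp b hb i
  have hSmul : ∀ u ∈ S, ∀ w ∈ S, R.m u w ∈ S := by
    intro u hu w hw
    refine hind (p := fun u => R.m u w ∈ S) ?_ (by simp)
      (fun a a' h h' => by simpa using add_mem h h') (fun a h => by simpa using h) hu
    intro b hb i
    refine hind (p := fun w => R.m (R.m b (R.pw y i)) w ∈ S) ?_ (by simp)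
      (fun a a' h h' => by simpa using add_mem h h') (fun a h => by simpa using h) hw
    intro d hd l
    rw [hprod b hb d hd]
    exact AddSubgroup.subset_closure ⟨_, R.powSpan_mul_mem hb (hit i d hd), _, rfl⟩
  have hSassoc : ∀ u ∈ S, ∀ w ∈ S, ∀ r ∈ S, R.m (R.m u w) r = R.m u (R.m w r) := by
    intro u hu w hw r hr
    refine hind (p := fun u => R.m (R.m u w) r = R.m u (R.m w r)) ?_ (by simp)
      (fun a a' h h' => by simp [h, h']) (fun a h => by simp [h]) hu
    intro b hb i
    refine hind (p := fun w => R.m (R.m (R.m b (R.pw y i)) w) r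
      = R.m (R.m b (R.pw y i)) (R.m w r)) ?_ (by simp)
      (fun a a' h h' => by simp [h, h']) (fun a h => by simp [h]) hw
    intro d hd l
    refine hind (p := fun r => R.m (R.m (R.m b (R.pw y i)) (R.m d (R.pw y l))) r
      = R.m (R.m b (R.pw y i)) (R.m (R.m d (R.pw y l)) r)) ?_ (by simp)
      (fun a a' h h' => by simp [h, h']) (fun a h => by simp [h]) hr
    intro g hg r
    rw [hprod b hb d hd, hprod d hd g hg, hprod _ (R.powSpan_mul_mem hb (hit i d hd)) g hg,
      hprod b hb _ (R.powSpan_mul_mem hd (hit l g hg)), hitmul i d hd _ (hit l g hg),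
      ← Function.iterate_add_apply, ← R.powSpan_assoc_left hb (hit i d hd), add_assoc]
  have hxS : x ∈ S :=
    AddSubgroup.subset_closure ⟨x, R.self_mem x, 0, R.mul_one x⟩
  have hyS : y ∈ S :=
    AddSubgroup.subset_closure ⟨R.e, R.pw_mem x 0, 1, by rw [R.one_mul, R.pw_one]⟩
  have heS : R.e ∈ S :=
    AddSubgroup.subset_closure ⟨R.e, R.pw_mem x 0, 0, R.one_mul _⟩
  have hy0 : R.e ≠ 0 := fun h => hy (by rw [← R.one_mul y, h, map_zero, AddMonoidHom.zero_apply])
  letI : Mul S := ⟨fun a b => ⟨R.m a b, hSmul a a.2 b b.2⟩⟩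
  letI : One S := ⟨⟨R.e, heS⟩⟩
  letI : Ring S :=
    { (inferInstance : AddCommGroup S), (inferInstance : Mul S), (inferInstance : One S) with
      mul_assoc := fun a b c => Subtype.ext (hSassoc a a.2 b b.2 c c.2)
      one_mul := fun a => Subtype.ext (R.one_mul a)
      mul_one := fun a => Subtype.ext (R.mul_one a)
      zero_mul := fun a => Subtype.ext (show R.m 0 (a : W) = 0 by simp)
      mul_zero := fun a => Subtype.ext (show R.m (a : W) 0 = 0 by simp)
      left_distrib := fun a b c => Subtype.ext (show R.m (a : W) ((b : W) + c) = _ from map_add _ _ _)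
      right_distrib := fun a b c => Subtype.ext
        (show R.m ((a : W) + b) (c : W) = R.m (a : W) c + R.m (b : W) c by simp) }
  haveI : Nontrivial S := ⟨⟨1, 0, fun h => hy0 (congrArg Subtype.val h)⟩⟩
  haveI : NoZeroDivisors S := ⟨fun {a b} h => by
    rcases R.no_zero a b (congrArg Subtype.val h) with h | h
    · exact Or.inl (Subtype.ext h)
    · exact Or.inr (Subtype.ext h)⟩
  haveI : IsDomain S := NoZeroDivisors.to_isDomain S
  letI : Field S := (Finite.isDomain_to_isField S).toField
  haveI : Finite Sˣ := inferInstance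
  obtain ⟨w, hw⟩ := IsCyclic.exists_generator (α := Sˣ)
  refine ⟨congrArg Subtype.val (mul_comm (⟨x, hxS⟩ : S) ⟨y, hyS⟩), fun v => ?_⟩
  by_cases hx : x = 0
  · simp [hx]
  have hpow : ∀ u : S, u ≠ 0 → ∃ n : ℕ, (u : W) = R.pw (w : S) n := by
    intro u hu
    obtain ⟨n, hn⟩ := mem_powers_iff_mem_zpowers.2 (hw (Units.mk0 u hu))
    have h' : ∀ n : ℕ, (((w : S) ^ n : S) : W) = R.pw (w : S) n := by
      intro n
      induction n with
      | zero => rfl
      | succ n ih =>
        rw [pow_succ']
        show R.m ((w : S) : W) (((w : S) ^ n : S) : W) = R.m _ _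
        rw [ih]
    refine ⟨n, ?_⟩
    rw [← h', ← Units.val_pow_eq_pow_val]
    exact congrArg (fun a : Sˣ => ((a : S) : W)) hn.symm
  obtain ⟨i, hi⟩ := hpow ⟨x, hxS⟩ (fun h => hx (congrArg Subtype.val h))
  obtain ⟨l, hl⟩ := hpow ⟨y, hyS⟩ (fun h => hy (congrArg Subtype.val h))
  rw [show x = R.pw ((w : S) : W) i from hi, show y = R.pw ((w : S) : W) l from hl,
    R.pw_pw_mul, R.pw_mul_pw]

/-- Commutativity. -/
theorem comm (x y : W) : R.m x y = R.m y x := by
  classical
  by_cases hy : y = 0
  · simp [hy]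
  by_cases hx : x = 0
  · simp [hx]
  set K := R.powSpan x
  have : Fintype K := Fintype.ofFinite K
  letI : Mul K := ⟨fun a b => ⟨R.m a b, R.powSpan_mul_mem a.2 b.2⟩⟩
  letI : One K := ⟨⟨R.e, R.pw_mem x 0⟩⟩
  letI : CommRing K :=
    { (inferInstance : AddCommGroup K), (inferInstance : Mul K), (inferInstance : One K) with
      mul_assoc := fun a b c => Subtype.ext (R.powSpan_assoc_left a.2 b.2 c).symm
      one_mul := fun a => Subtype.ext (R.one_mul a)
      mul_one := fun a => Subtype.ext (R.mul_one a)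
      mul_comm := fun a b => Subtype.ext (R.powSpan_comm a.2 b.2)
      zero_mul := fun a => Subtype.ext (show R.m 0 (a : W) = 0 by simp)
      mul_zero := fun a => Subtype.ext (show R.m (a : W) 0 = 0 by simp)
      left_distrib := fun a b c => Subtype.ext (show R.m (a : W) ((b : W) + c) = _ from map_add _ _ _)
      right_distrib := fun a b c => Subtype.ext
        (show R.m ((a : W) + b) (c : W) = R.m (a : W) c + R.m (b : W) c by simp) }
  have hy0 : R.e ≠ 0 := fun h => hy (by rw [← R.one_mul y, h, map_zero, AddMonoidHom.zero_apply])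
  haveI : Nontrivial K := ⟨⟨1, 0, fun h => hy0 (congrArg Subtype.val h)⟩⟩
  haveI : NoZeroDivisors K := ⟨fun {a b} h => by
    rcases R.no_zero a b (congrArg Subtype.val h) with h | h
    · exact Or.inl (Subtype.ext h)
    · exact Or.inr (Subtype.ext h)⟩
  haveI : IsDomain K := NoZeroDivisors.to_isDomain K
  letI : Field K := Fintype.fieldOfDomain K
  -- `K` acts on the left; `v ↦ v x` is `K`-linear and a root of `∏ (X - c)`
  letI : SMul K W := ⟨fun c v => R.m (c : W) v⟩
  letI : Module K W := Module.ofMinimalAxioms (R := K) (M := W)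
    (fun c v w => map_add (R.m (c : W)) v w)
    (fun c d v => by
      show R.m ((c : W) + d) v = R.m (c : W) v + R.m (d : W) v
      simp)
    (fun c d v => (R.powSpan_assoc_left c.2 d.2 v).symm)
    (fun v => R.one_mul v)
  have hflexK : ∀ c : K, ∀ v, R.m (R.m (c : W) v) x = R.m (c : W) (R.m v x) := by
    intro c v
    refine R.powSpan_ind (p := fun c => R.m (R.m c v) x = R.m c (R.m v x)) ?_ (by simp)
      (fun a a' h h' => by simp [h, h']) (fun a h => by simp [h]) c.2
    intro n
    simp only [R.pw_mul]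
    have hc1 : Function.Commute (R.m x) (R.m.flip x) := fun u => (R.flex x u).symm
    exact (hc1.iterate_left n v).symm
  let B : Module.End K W :=
    { toFun := fun v => R.m v x
      map_add' := fun v w => by simp
      map_smul' := fun c v => hflexK c v }
  have hB : B ^ Fintype.card K = B := by
    have h1 : ∀ n : ℕ, ∀ v, (B ^ n) v = R.m v (R.pw x n) := by
      intro n v
      rw [R.pw_mul_right, Module.End.pow_apply]
      rfl
    have h2 : ((⟨x, R.self_mem x⟩ : K) ^ Fintype.card K : K) = ⟨x, R.self_mem x⟩ :=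
      FiniteField.pow_card _
    have h3 : ∀ n : ℕ, (((⟨x, R.self_mem x⟩ : K) ^ n : K) : W) = R.pw x n := by
      intro n
      induction n with
      | zero => rfl
      | succ n ih =>
        rw [pow_succ']
        show R.m x ((((⟨x, R.self_mem x⟩ : K) ^ n : K)) : W) = R.m _ _
        rw [ih]
    ext v
    rw [h1, ← h3, h2]
    rfl
  set xK : K := ⟨x, R.self_mem x⟩
  by_contra hcon
  have hBx : B - algebraMap K (Module.End K W) xK ≠ 0 := by
    intro h
    have h1 : (B - algebraMap K (Module.End K W) xK) y = 0 := by rw [h]; rfl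
    rw [LinearMap.sub_apply, Module.algebraMap_end_apply, sub_eq_zero] at h1
    exact hcon h1.symm
  -- some other factor has a kernel
  have hprod : Polynomial.aeval B ((Polynomial.X : Polynomial K) ^ Fintype.card K - Polynomial.X)
      = 0 := by simp [hB]
  have hfac : ((Polynomial.X : Polynomial K) ^ Fintype.card K - Polynomial.X)
      = ∏ c : K, (Polynomial.X - Polynomial.C c) := by
    have hq : 1 < Fintype.card K := Fintype.one_lt_card
    have hm : ((Polynomial.X : Polynomial K) ^ Fintype.card K - Polynomial.X).Monic :=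
      Polynomial.monic_X_pow_sub (by rw [Polynomial.degree_X]; exact_mod_cast hq)
    have hr := FiniteField.roots_X_pow_card_sub_X K
    have hd := FiniteField.X_pow_card_sub_X_natDegree_eq K hq
    have hp := Polynomial.prod_multiset_X_sub_C_of_monic_of_roots_card_eq hm
      (by rw [hr, hd]; rfl)
    rw [hr] at hp
    exact hp.symm
  rw [hfac] at hprod
  obtain ⟨c, hc, v, hv, hcv⟩ : ∃ c : K, c ≠ xK ∧ ∃ v, v ≠ 0 ∧ R.m v x = R.m (c : W) v := by
    by_contra hno
    push Not at hno
    have hinj : ∀ c : K, c ≠ xK → Function.Injective (B - algebraMap K (Module.End K W) c) := by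
      intro c hc
      rw [injective_iff_map_eq_zero]
      intro v hv
      rw [LinearMap.sub_apply, Module.algebraMap_end_apply, sub_eq_zero] at hv
      by_contra hv0
      exact hno c hc v hv0 hv
    rw [← Finset.mul_prod_erase Finset.univ _ (Finset.mem_univ xK), mul_comm, map_mul] at hprod
    refine hBx ?_
    have hgen : ∀ s : Finset K, xK ∉ s → Function.Injective
        (Polynomial.aeval B (∏ c ∈ s, (Polynomial.X - Polynomial.C c))) := by
      intro s
      induction s using Finset.induction with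
      | empty => intro _ a b h; simpa using h
      | @insert a t hat ih =>
        intro hs
        rw [Finset.mem_insert, not_or] at hs
        rw [Finset.prod_insert hat, map_mul]
        simp only [Module.End.mul_eq_comp, LinearMap.coe_comp]
        refine Function.Injective.comp ?_ (ih hs.2)
        simpa using hinj a (Ne.symm hs.1)
    have hi := hgen (Finset.univ.erase xK) (Finset.notMem_erase _ _)
    ext v
    refine hi ?_
    rw [LinearMap.zero_apply, map_zero, ← Module.End.mul_apply]
    have := congrArg (fun f : Module.End K W => f v) hprod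
    simpa using this
  have h1 := (R.eq_of_twist hv c.2 hcv).1
  rw [hcv] at h1
  refine hc (Subtype.ext ?_)
  have h2 : R.m ((c : W) - x) v = 0 := by simp [h1]
  exact sub_eq_zero.1 ((R.no_zero _ _ h2).resolve_right hv)

/-- Associativity. -/
theorem assoc (x y z : W) : R.m (R.m x y) z = R.m x (R.m y z) := by
  by_cases hy : y = 0
  · simp [hy]
  exact (R.eq_of_twist hy (R.self_mem x) (R.comm y x)).2 z

end AltDiv

end Cfsg.Agent.SymDesignPG
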