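import Mathlib

/-!
# Symmetric designs with a group of automorphisms

Points `P`, blocks `L`, both acted on by `G`. Only counting: dual design, fixed points of an
automorphism, orbits of a subgroup.
-/

set_option autoImplicit false
set_option linter.style.haveILetI false

namespace Cfsg.Agent.SymDesignPG

open Finset MulAction

/-- A symmetric design, with a faithful group of automorphisms. -/
structure SymDesign (G P L : Type*) [Group G] [MulAction G P] [MulAction G L] [Fintype P]
    [Fintype L] where
  /-- incidence -/
  I : P → L → Prop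
  smul_iff : ∀ (g : G) p l, I (g • p) (g • l) ↔ I p l
  /-- number of points -/
  v : ℕ
  /-- block size -/
  k : ℕ
  /-- pair count -/
  lam : ℕ
  card_pts_univ : Fintype.card P = v
  card_blks_univ : Fintype.card L = v
  card_blks : ∀ p, Nat.card {l // I p l} = k
  card_pts : ∀ l, Nat.card {p // I p l} = k
  card_blks₂ : ∀ p p', p ≠ p' → Nat.card {l // I p l ∧ I p' l} = lam
  card_pts₂ : ∀ l l', l ≠ l' → Nat.card {p // I p l ∧ I p l'} = lam
  lam_lt : lam < k
  two_le_k : 2 ≤ k
  k_le : k + 2 ≤ v
  faithful : ∀ g : G, (∀ p : P, g • p = p) → g = 1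

variable {G P L : Type*} [Group G] [MulAction G P] [MulAction G L] [Fintype P] [Fintype L]

namespace SymDesign

open scoped Classical in
/-- The points of a block. -/
noncomputable def pts (D : SymDesign G P L) (l : L) : Finset P := univ.filter fun p => D.I p l

open scoped Classical in
/-- The blocks through a point. -/
noncomputable def blks (D : SymDesign G P L) (p : P) : Finset L := univ.filter fun l => D.I p l

variable (D : SymDesign G P L)
include D

@[simp] theorem mem_pts {p : P} {l : L} : p ∈ D.pts l ↔ D.I p l := by simp [pts]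

@[simp] theorem mem_blks {p : P} {l : L} : l ∈ D.blks p ↔ D.I p l := by simp [blks]

theorem pts_card (l : L) : (D.pts l).card = D.k := by
  classical
  rw [← D.card_pts l, Nat.card_eq_fintype_card, Fintype.card_subtype]
  rfl

theorem blks_card (p : P) : (D.blks p).card = D.k := by
  classical
  rw [← D.card_blks p, Nat.card_eq_fintype_card, Fintype.card_subtype]
  rfl

theorem pts_inter_card [DecidableEq P] {l l' : L} (h : l ≠ l') :
    (D.pts l ∩ D.pts l').card = D.lam := by
  classical
  rw [← D.card_pts₂ l l' h, Nat.card_eq_fintype_card, Fintype.card_subtype]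
  congr 1
  ext p
  simp

theorem blks_inter_card [DecidableEq L] {p p' : P} (h : p ≠ p') :
    (D.blks p ∩ D.blks p').card = D.lam := by
  classical
  rw [← D.card_blks₂ p p' h, Nat.card_eq_fintype_card, Fintype.card_subtype]
  congr 1
  ext l
  simp

theorem block_ext {l l' : L} (h : ∀ p, D.I p l → D.I p l') : l = l' := by
  classical
  by_contra hne
  have h1 := D.pts_inter_card hne
  rw [inter_eq_left.2 (fun p hp => D.mem_pts.2 (h p (D.mem_pts.1 hp))), D.pts_card] at h1
  exact absurd h1 (by have := D.lam_lt; omega)

theorem point_ext {p p' : P} (h : ∀ l, D.I p l → D.I p' l) : p = p' := by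
  classical
  by_contra hne
  have h1 := D.blks_inter_card hne
  rw [inter_eq_left.2 (fun l hl => D.mem_blks.2 (h l (D.mem_blks.1 hl))), D.blks_card] at h1
  exact absurd h1 (by have := D.lam_lt; omega)

theorem faithful_blks (g : G) (h : ∀ l : L, g • l = l) : g = 1 :=
  D.faithful g fun p => (D.point_ext fun l hl => by
    have h1 := (D.smul_iff g p l).2 hl
    rwa [h l] at h1).symm

/-- The dual design. -/
def dual : SymDesign G L P where
  I l p := D.I p l
  smul_iff g l p := D.smul_iff g p l
  v := D.v
  k := D.k
  lam := D.lam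
  card_pts_univ := D.card_blks_univ
  card_blks_univ := D.card_pts_univ
  card_blks := D.card_pts
  card_pts := D.card_blks
  card_blks₂ := D.card_pts₂
  card_pts₂ := D.card_blks₂
  lam_lt := D.lam_lt
  two_le_k := D.two_le_k
  k_le := D.k_le
  faithful := D.faithful_blks

theorem pts_smul [DecidableEq P] (g : G) (l : L) :
    D.pts (g • l) = (D.pts l).image (g • ·) := by
  ext p
  simp only [mem_pts, mem_image]
  constructor
  · intro h
    refine ⟨g⁻¹ • p, ?_, smul_inv_smul g p⟩
    rw [← D.smul_iff g, smul_inv_smul]
    exact h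
  · rintro ⟨a, ha, rfl⟩
    exact (D.smul_iff g a l).2 ha

/-- `λ (v - 1) = k (k - 1)`. -/
theorem lam_mul : D.lam * (D.v - 1) = D.k * (D.k - 1) := by
  classical
  obtain ⟨p⟩ : Nonempty P := Fintype.card_pos_iff.1 (by
    rw [D.card_pts_univ]; have := D.k_le; omega)
  have h := sum_card_bipartiteAbove_eq_sum_card_bipartiteBelow
    (r := fun q l => D.I q l) (s := univ.erase p) (t := D.blks p)
  have h1 : ∀ q ∈ univ.erase p, ((D.blks p).bipartiteAbove (fun q l => D.I q l) q).card = D.lam := by
    intro q hq
    rw [← D.blks_inter_card (ne_of_mem_erase hq).symm]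
    congr 1
    ext l
    simp [bipartiteAbove]
  have h2 : ∀ l ∈ D.blks p,
      ((univ.erase p).bipartiteBelow (fun q l => D.I q l) l).card = D.k - 1 := by
    intro l hl
    rw [← D.pts_card l, ← card_erase_of_mem (D.mem_pts.2 (D.mem_blks.1 hl))]
    congr 1
    ext q
    simp [bipartiteBelow, and_comm]
  rw [sum_const_nat h1, sum_const_nat h2, card_erase_of_mem (mem_univ p), card_univ,
    D.card_pts_univ, D.blks_card] at h
  rw [mul_comm, h]

theorem lam_pos : 1 ≤ D.lam := by
  have h := D.lam_mul
  have h2 := D.two_le_k
  rcases Nat.eq_zero_or_pos D.lam with h0 | h0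
  · rw [h0, zero_mul] at h
    rcases Nat.mul_eq_zero.1 h.symm with h3 | h3 <;> omega
  · exact h0

theorem lam_mul' : (D.lam : ℤ) * ((D.v : ℤ) - 1) = (D.k : ℤ) * ((D.k : ℤ) - 1) := by
  have h := D.lam_mul
  have h2 := D.two_le_k
  have h3 := D.k_le
  zify [show 1 ≤ D.v by omega, show 1 ≤ D.k by omega] at h
  linarith

/-- Some block contains two given points. -/
theorem exists_block {p p' : P} (h : p ≠ p') : ∃ l, D.I p l ∧ D.I p' l := by
  classical
  obtain ⟨l, hl⟩ := card_pos.1 (by rw [D.blks_inter_card h]; exact D.lam_pos :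
    0 < (D.blks p ∩ D.blks p').card)
  simp only [mem_inter, mem_blks] at hl
  exact ⟨l, hl⟩

theorem pts_sdiff_card [DecidableEq P] {l l' : L} (h : l ≠ l') :
    (D.pts l \ D.pts l').card = D.k - D.lam := by
  rw [card_sdiff, inter_comm, D.pts_card, D.pts_inter_card h]

/-- A point outside a block and another block. -/
theorem exists_pt_not {l l' : L} (h : l ≠ l') : ∃ p, D.I p l ∧ ¬ D.I p l' := by
  by_contra hcon
  push Not at hcon
  exact h (D.block_ext hcon)

/-- **Parker**: as many fixed points as fixed blocks. -/
theorem fixed_card_eq (g : G) :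
    Nat.card {p : P // g • p = p} = Nat.card {l : L // g • l = l} := by
  classical
  rw [Nat.card_eq_fintype_card, Nat.card_eq_fintype_card, Fintype.card_subtype,
    Fintype.card_subtype]
  set fp := (univ.filter fun p : P => g • p = p).card
  set fl := (univ.filter fun l : L => g • l = l).card
  have h := sum_card_bipartiteAbove_eq_sum_card_bipartiteBelow
    (r := fun p l => D.I p l ∧ D.I (g • p) l) (s := (univ : Finset P)) (t := (univ : Finset L))
  have hA : ∀ p : P, ((univ : Finset L).bipartiteAbove (fun p l => D.I p l ∧ D.I (g • p) l) p).card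
      = if g • p = p then D.k else D.lam := by
    intro p
    split_ifs with hp
    · rw [← D.blks_card p]
      congr 1
      ext l
      simp [bipartiteAbove, hp]
    · rw [← D.blks_inter_card (Ne.symm hp)]
      congr 1
      ext l
      simp [bipartiteAbove]
  have hB : ∀ l : L, ((univ : Finset P).bipartiteBelow (fun p l => D.I p l ∧ D.I (g • p) l) l).card
      = if g • l = l then D.k else D.lam := by
    intro l
    have hset : (univ : Finset P).bipartiteBelow (fun p l => D.I p l ∧ D.I (g • p) l) l
        = D.pts l ∩ D.pts (g⁻¹ • l) := by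
      ext p
      have := D.smul_iff g p (g⁻¹ • l)
      rw [smul_inv_smul] at this
      simp [bipartiteBelow, this]
    rw [hset]
    split_ifs with hl
    · rw [show g⁻¹ • l = l from inv_smul_eq_iff.2 hl.symm, inter_self, D.pts_card]
    · exact D.pts_inter_card fun he => hl (eq_inv_smul_iff.1 he)
  simp only [hA, hB, sum_ite, sum_const, smul_eq_mul] at h
  have eP := card_filter_add_card_filter_not (s := (univ : Finset P)) (fun p => g • p = p)
  have eL := card_filter_add_card_filter_not (s := (univ : Finset L)) (fun l => g • l = l)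
  rw [card_univ, D.card_pts_univ] at eP
  rw [card_univ, D.card_blks_univ] at eL
  have hlt := D.lam_lt
  nlinarith

/-- A subgroup has as many orbits on points as on blocks. -/
theorem orbits_card_eq [Finite G] (U : Subgroup G) :
    Nat.card (MulAction.orbitRel.Quotient U P) = Nat.card (MulAction.orbitRel.Quotient U L) := by
  classical
  have : Fintype U := Fintype.ofFinite U
  have hP := MulAction.sum_card_fixedBy_eq_card_orbits_mul_card_group U P
  have hL := MulAction.sum_card_fixedBy_eq_card_orbits_mul_card_group U L
  have hs : ∀ u : U, Fintype.card (MulAction.fixedBy P u) = Fintype.card (MulAction.fixedBy L u) := by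
    intro u
    have := D.fixed_card_eq (u : G)
    rw [Nat.card_eq_fintype_card, Nat.card_eq_fintype_card] at this
    exact this
  rw [sum_congr rfl fun u _ => hs u, hL] at hP
  rw [Nat.card_eq_fintype_card, Nat.card_eq_fintype_card]
  exact (Nat.eq_of_mul_eq_mul_right Fintype.card_pos hP).symm

end SymDesign

/-- A finite set, invariant under `U`, all of whose orbits have size `m`, has size divisible
by `m`. -/
theorem dvd_card_of_orbits {α : Type*} [MulAction G α] (U : Subgroup G) (s : Finset α)
    (hs : ∀ u ∈ U, ∀ x ∈ s, u • x ∈ s) (m : ℕ)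
    (hm : ∀ x ∈ s, Nat.card (MulAction.orbit U x) = m) : m ∣ s.card := by
  classical
  rw [card_eq_sum_card_image (fun x => MulAction.orbit U x) s]
  refine dvd_sum fun O hO => ?_
  obtain ⟨x, hx, rfl⟩ := mem_image.1 hO
  refine dvd_of_eq ?_
  rw [← hm x hx, Nat.card_coe_set_eq, ← Set.ncard_coe_finset]
  congr 1
  ext y
  simp only [coe_filter, Set.mem_setOf_eq]
  constructor
  · rintro ⟨u, rfl⟩
    exact ⟨hs u u.2 x hx, MulAction.orbit_eq_iff.2 ⟨u, rfl⟩⟩
  · rintro ⟨_, h⟩
    exact MulAction.orbit_eq_iff.1 h

end Cfsg.Agent.SymDesignPG
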