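import Cfsg.Agent.SymDesignPG.Shear

/-!
# The vector space of translations

The translations with a given axis form a vector space over a finite field, whose one-dimensional
subspaces are the groups of translations with a given centre.
-/

set_option autoImplicit false
set_option linter.style.haveILetI false
set_option linter.unusedVariables false

namespace Cfsg.Agent.SymDesignPG

open Finset MulAction

variable {G P L : Type*} [Group G] [MulAction G P] [MulAction G L] [Fintype P] [Fintype L]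
  [Fintype G] {D : SymDesign G P L} {S : Homog D} {z : L} {O : P} {z₁ : L}

section

set_option linter.unusedSectionVars false

variable (hO : ¬ D.I O z) (hO₁ : D.I O z₁)
include hO hO₁

/-- The endomorphisms of a direction respecting every family of shears out of it. -/
def scal (a : P) : Subring (AddMonoid.End (Tr.dir S z a)) where
  carrier := {k | ∀ b (hb : D.I b z) (hb₁ : D.I b z₁), ∀ f ∈ shearFam hO hO₁ a b hb hb₁,
    f.comp (k : Tr.dir S z a →+ Tr.dir S z a) ∈ shearFam hO hO₁ a b hb hb₁}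
  mul_mem' := fun {j k} hj hk b hb hb₁ f hf => hk b hb hb₁ _ (hj b hb hb₁ f hf)
  one_mem' := fun b hb hb₁ f hf => hf
  add_mem' := fun {j k} hj hk b hb hb₁ f hf => by
    change f.comp ((j : Tr.dir S z a →+ Tr.dir S z a) + k) ∈ _
    have e : f.comp ((j : Tr.dir S z a →+ Tr.dir S z a) + k) =
        f.comp (j : Tr.dir S z a →+ Tr.dir S z a) + f.comp (k : Tr.dir S z a →+ Tr.dir S z a) :=
      AddMonoidHom.ext fun x => map_add f _ _
    exact e ▸ add_mem (hj b hb hb₁ f hf) (hk b hb hb₁ f hf)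
  zero_mem' := fun b hb hb₁ f hf => by
    change f.comp (0 : Tr.dir S z a →+ Tr.dir S z a) ∈ _
    rw [AddMonoidHom.comp_zero]
    exact zero_mem _
  neg_mem' := fun {k} hk b hb hb₁ f hf => by
    change f.comp (-(k : Tr.dir S z a →+ Tr.dir S z a)) ∈ _
    have : f.comp (-(k : Tr.dir S z a →+ Tr.dir S z a)) = -f.comp k :=
      AddMonoidHom.ext fun x => map_neg f _
    rw [this]
    exact neg_mem (hk b hb hb₁ f hf)

/-- The elations with axis `z₁` fixing `z`. -/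
def shearGrp (S : Homog D) : Subgroup G where
  carrier := {g | ∃ b, D.I b z ∧ D.I b z₁ ∧ g ∈ D.elation b z₁}
  one_mem' := by
    have hne : z ≠ z₁ := fun h => hO (h ▸ hO₁)
    have := D.lam_pos
    classical
    obtain ⟨b, hb⟩ := card_pos.1 (show 0 < (D.pts z ∩ D.pts z₁).card by
      rw [D.pts_inter_card hne]; omega)
    rw [mem_inter, SymDesign.mem_pts, SymDesign.mem_pts] at hb
    exact ⟨b, hb.1, hb.2, one_mem _⟩
  mul_mem' := by
    rintro g h ⟨b, hb, hb₁, hg⟩ ⟨c, hc, hc₁, hh⟩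
    by_cases h1 : g * h = 1
    · exact ⟨b, hb, hb₁, h1 ▸ one_mem _⟩
    obtain ⟨d, hd₁, hgh⟩ := S.elation_mul hb₁ hc₁ hg hh
    have hgz : (g * h) • z = z := by
      rw [mul_smul, D.mem_star.1 hh.1 z hc, D.mem_star.1 hg.1 z hb]
    exact ⟨d, S.fixed_axis hgh hd₁ h1 hgz (fun h => hO (h ▸ hO₁)), hd₁, hgh⟩
  inv_mem' := by
    rintro g ⟨b, hb, hb₁, hg⟩
    exact ⟨b, hb, hb₁, inv_mem hg⟩

theorem exists_axis_through {a b : P} (ha : D.I a z) (hb : D.I b z) (hab : a ≠ b) :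
    ∃ z₂, D.I O z₂ ∧ D.I a z₂ ∧ ¬ D.I b z₂ := by
  by_contra hcon
  push Not at hcon
  have hOa : O ≠ a := fun h => hO (h ▸ ha)
  have hb' : b ∈ D.line O a := D.mem_line.2 fun w h1 h2 => hcon w h1 h2
  exact hO (D.line_I hOa (D.right_mem_line O a) hb' hab ha hb (D.left_mem_line O a))

variable {a : P} (ha : D.I a z) (ha₁ : ¬ D.I a z₁)
include ha ha₁

theorem exists_base : ∃ (x : Tr.dir S z a), x ≠ 0 := by
  have : 1 < Nat.card (Tr.dir S z a) := by rw [Tr.card_dir ha]; exact S.two_le_q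
  exact exists_ne_zero_of_one_lt this
where
  exists_ne_zero_of_one_lt (h : 1 < Nat.card (Tr.dir S z a)) : ∃ x : Tr.dir S z a, x ≠ 0 := by
    by_contra hcon
    push Not at hcon
    have : Subsingleton (Tr.dir S z a) := ⟨fun u v => by rw [hcon u, hcon v]⟩
    rw [Nat.card_of_subsingleton 0] at h
    omega

theorem notMem_sub {x : Tr.dir S z a} (hx : x ≠ 0) : x.1 ∉ Tr.sub hO hO₁ := fun h =>
  hx (Subtype.ext (Tr.dir_inf_sub hO hO₁ ha ha₁ x.2 h))

theorem scal_isField : IsField (scal (S := S) hO hO₁ a) ∧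
    ∀ x y : Tr.dir S z a, x ≠ 0 →
      ∃ k ∈ scal hO hO₁ a, (k : Tr.dir S z a →+ Tr.dir S z a) x = y := by
  classical
  have hne : z ≠ z₁ := fun h => hO (h ▸ hO₁)
  obtain ⟨b, hb'⟩ := card_pos.1 (show 0 < (D.pts z ∩ D.pts z₁).card by
    rw [D.pts_inter_card hne]; exact D.lam_pos)
  rw [mem_inter, SymDesign.mem_pts, SymDesign.mem_pts] at hb'
  obtain ⟨hb, hb₁⟩ := hb'
  have hab : a ≠ b := fun h => ha₁ (h ▸ hb₁)
  obtain ⟨z₂, hO₂, ha₂, hb₂⟩ := exists_axis_through hO hO₁ ha hb hab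
  obtain ⟨x₀, hx₀⟩ := exists_base (S := S) hO hO₁ ha ha₁
  obtain ⟨y₀, hy₀⟩ : ∃ y : Tr.dir S z b, y ≠ 0 := by
    by_contra hcon
    push Not at hcon
    have h1 : Nat.card (Tr.dir S z b) = D.q := Tr.card_dir hb
    have : Subsingleton (Tr.dir S z b) := ⟨fun u v => by rw [hcon u, hcon v]⟩
    rw [Nat.card_of_subsingleton 0] at h1
    have := S.two_le_q
    omega
  have hreg := shearFam_reg (S := S) hO hO₁ ha ha₁ hb hb₁
  have hpair := shear_pair (S := S) hO hO₁ hO₂ ha ha₁ hb hb₁ ha₂ hb₂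
  obtain ⟨E, hE, hEx⟩ := hreg x₀ hx₀ y₀
  have hE0 : E ≠ 0 := fun h => hy₀ (by rw [← hEx, h, AddMonoidHom.zero_apply])
  obtain ⟨K, hK, hKsurj, hKmem⟩ := exists_field_shear hO hO₁ hO₂ ha ha₁ hb hb₁ ha₂ hb₂ hE hE0
  have hEinj : ∀ u v, E u = E v → u = v := fun u v he => by
    by_contra hne
    exact hE0 (hpair.eq_zero hE (sub_ne_zero.2 hne) (by rw [map_sub, he, sub_self]))
  have hle : scal hO hO₁ a = K := by
    ext k
    constructor
    · intro hk
      obtain ⟨k', hk', hkk⟩ := hKsurj _ (hk b hb hb₁ E hE)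
      have e : (k : Tr.dir S z a →+ Tr.dir S z a) = k' :=
        AddMonoidHom.ext fun u => hEinj _ _ (DFunLike.congr_fun hkk u)
      exact (show k = k' from e) ▸ hk'
    · intro hk c hc hc₁ f hf
      by_cases hcb : c = b
      · subst hcb
        obtain ⟨k', hk', rfl⟩ := hKsurj f hf
        exact hKmem _ (K.mul_mem hk' hk)
      obtain ⟨g₀, hg₀, hE'⟩ := hE
      obtain ⟨g₂, hg₂, hf'⟩ := hf
      obtain ⟨g₁, hg₁, hEk⟩ := hKmem _ hk
      obtain ⟨g₃, hg₃, hg₃x⟩ := exists_shear (S := S) hO hO₁ hc hc₁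
        (notMem_sub hO hO₁ ha ha₁ hx₀) (f ((k : Tr.dir S z a →+ Tr.dir S z a) x₀)).2
      have hH : g₀ * g₂ ∈ shearGrp (z := z) (z₁ := z₁) hO hO₁ S :=
        mul_mem ⟨b, hb, hb₁, hg₀⟩ ⟨c, hc, hc₁, hg₂⟩
      obtain ⟨d, hd, hd₁, hgd⟩ := hH
      have hH' : g₁ * g₃ ∈ shearGrp (z := z) (z₁ := z₁) hO hO₁ S :=
        mul_mem ⟨b, hb, hb₁, hg₁⟩ ⟨c, hc, hc₁, hg₃⟩
      obtain ⟨d', hd', hd'₁, hgd'⟩ := hH'
      have e0 : ∀ u : Tr.dir S z a, shear (g₀ * g₂) u.1 = (E u).1 + (f u).1 := fun u => by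
        rw [shear_mul hO hO₁ hb hb₁ hc hc₁ hg₀ hg₂, AddMonoidHom.add_apply, hE', hf']
      have e1 : ∀ u : Tr.dir S z a, shear (g₁ * g₃) u.1 =
          (E ((k : Tr.dir S z a →+ Tr.dir S z a) u)).1 + shear g₃ u.1 := fun u => by
        rw [shear_mul hO hO₁ hb hb₁ hc hc₁ hg₁ hg₃, AddMonoidHom.add_apply, ← hEk]
        rfl
      have hgd2 : g₁ * g₃ ∈ D.elation d z₁ := by
        have h2 : shear (S := S) (z := z) (g₁ * g₃) x₀.1 ∈ Tr.dir S z d := by
          rw [e1, hg₃x, ← e0]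
          exact shear_mem_dir hO hO₁ hd hgd _
        by_cases hz : shear (S := S) (z := z) (g₁ * g₃) x₀.1 = 0
        · rw [shear_inj hO hO₁ hd' hd'₁ hd hd₁ hgd' (one_mem _) (notMem_sub hO hO₁ ha ha₁ hx₀)
            (by rw [hz, shear_one hO hO₁, AddMonoidHom.zero_apply])]
          exact one_mem _
        · rw [← Tr.dir_unique hd' (shear_mem_dir hO hO₁ hd' hgd' _) h2 hz]
          exact hgd'
      have hinj : Function.Injective (shearMap (S := S) hO hO₁ a hd hgd) := by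
        refine (injective_iff_map_eq_zero _).2 fun u hu => by_contra fun hu0 => ?_
        have h1 : g₀ * g₂ = 1 := shear_inj hO hO₁ hd hd₁ hd hd₁ hgd (one_mem _)
          (notMem_sub hO hO₁ ha ha₁ hu0)
          (by rw [shear_one hO hO₁, AddMonoidHom.zero_apply]; exact congrArg Subtype.val hu)
        have h2 := e0 x₀
        rw [h1, shear_one hO hO₁, AddMonoidHom.zero_apply, eq_comm,
          ← neg_eq_iff_add_eq_zero] at h2
        have h3 : (E x₀).1 = 0 := Tr.eq_zero_of_dir hb (E x₀).2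
          (by rw [← neg_mem_iff, h2]; exact (f x₀).2) (Ne.symm hcb)
        exact hy₀ (by rw [← hEx]; exact Subtype.ext h3)
      obtain ⟨-, hsurj⟩ := (Nat.bijective_iff_injective_and_card _).2
        ⟨hinj, by rw [Tr.card_dir ha, Tr.card_dir hd]⟩
      refine ⟨g₃, hg₃, fun x => ?_⟩
      obtain ⟨y, hy⟩ := hsurj ⟨_, shear_mem_dir hO hO₁ hd hgd2 x.1⟩
      have hy' : shear (g₀ * g₂) y.1 = shear (g₁ * g₃) x.1 := congrArg Subtype.val hy
      rw [e0, e1] at hy'
      replace hy' : (E y).1 - (E ((k : Tr.dir S z a →+ Tr.dir S z a) x)).1 =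
          shear g₃ x.1 - (f y).1 := by
        rw [sub_eq_sub_iff_add_eq_add, hy', add_comm]
      have hmem : (E y).1 - (E ((k : Tr.dir S z a →+ Tr.dir S z a) x)).1 ∈ Tr.dir S z c := by
        rw [hy']
        exact sub_mem (shear_mem_dir hO hO₁ hc hg₃ _) (f y).2
      have h4 := Tr.eq_zero_of_dir hb (sub_mem (E y).2 (E _).2) hmem (Ne.symm hcb)
      rw [h4, eq_comm, sub_eq_zero] at hy'
      rw [sub_eq_zero] at h4
      rw [hy']
      exact congrArg (fun v => (f v).1) (hEinj _ _ (Subtype.ext h4)).symm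
  refine ⟨hle ▸ hK, fun x y hx => ?_⟩
  obtain ⟨f, hf, hfx⟩ := hreg x hx (E y)
  obtain ⟨k, hk, rfl⟩ := hKsurj f hf
  exact ⟨k, hle ▸ hk, hEinj _ _ hfx⟩

theorem exists_lift (x₀ : Tr.dir S z a) (hx₀ : x₀ ≠ 0) (w : Tr.sub (S := S) hO hO₁) :
    ∃ g ∈ shearGrp (z := z) (z₁ := z₁) hO hO₁ S, shear (S := S) g x₀.1 = w.1 := by
  by_cases hw : w.1 = 0
  · exact ⟨1, one_mem _, by rw [shear_one hO hO₁, hw, AddMonoidHom.zero_apply]⟩
  obtain ⟨b, hb, hwb⟩ := Tr.exists_dir w.1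
  have hb₁ : D.I b z₁ := (Tr.I_pt_iff hO hO₁ hb hwb hw).1 w.2
  obtain ⟨g, hg, hgw⟩ := exists_shear hO hO₁ hb hb₁ (notMem_sub hO hO₁ ha ha₁ hx₀) hwb
  exact ⟨g, ⟨b, hb, hb₁, hg⟩, hgw⟩

end

set_option maxHeartbeats 1000000 in
/-- A structure of a vector space over a finite field on the translations. -/
theorem exists_coord (hO : ¬ D.I O z) :
    ∃ (m : ℕ) (F : Type) (_ : Field F) (_ : Fintype F) (e : (Fin m → F) ≃+ Tr S z),
      2 ≤ m ∧ Fintype.card F = D.q ∧ ∀ v : Fin m → F, v ≠ 0 → ∀ u : Fin m → F,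
        (∃ c, D.I c z ∧ e v ∈ Tr.dir S z c ∧ e u ∈ Tr.dir S z c) ↔ ∃ α : F, u = α • v := by
  classical
  -- the frame
  obtain ⟨a, ha'⟩ := card_pos.1 (show 0 < (D.pts z).card by
    rw [D.pts_card]; have := D.two_le_k; omega)
  have ha : D.I a z := D.mem_pts.1 ha'
  obtain ⟨z₁, hO₁, ha₁⟩ : ∃ z₁, D.I O z₁ ∧ ¬ D.I a z₁ := by
    by_contra hcon
    push Not at hcon
    exact hO ((D.point_ext hcon).symm ▸ ha : D.I O z)
  obtain ⟨hKf, hKreg⟩ := scal_isField (S := S) hO hO₁ ha ha₁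
  obtain ⟨x₀, hx₀⟩ := exists_base (S := S) hO hO₁ ha ha₁
  set K := scal (S := S) hO hO₁ a
  let W := Tr.sub (S := S) hO hO₁
  choose lift hlift hliftx using exists_lift (S := S) hO hO₁ ha ha₁ x₀ hx₀
  have huniq : ∀ g ∈ shearGrp (z := z) (z₁ := z₁) hO hO₁ S, ∀ h ∈ shearGrp hO hO₁ S,
      shear (S := S) (z := z) g x₀.1 = shear h x₀.1 → g = h :=
    fun g ⟨b, hb, hb₁, hg⟩ h ⟨c, hc, hc₁, hh⟩ =>
      shear_inj hO hO₁ hb hb₁ hc hc₁ hg hh (notMem_sub hO hO₁ ha ha₁ hx₀)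
  have hshear_mul : ∀ g ∈ shearGrp (z := z) (z₁ := z₁) hO hO₁ S, ∀ h ∈ shearGrp hO hO₁ S,
      shear (S := S) (z := z) (g * h) = shear g + shear h :=
    fun g ⟨b, hb, hb₁, hg⟩ h ⟨c, hc, hc₁, hh⟩ => shear_mul hO hO₁ hb hb₁ hc hc₁ hg hh
  have hlift_add : ∀ v w : W, lift (v + w) = lift v * lift w := fun v w =>
    huniq _ (hlift _) _ (mul_mem (hlift v) (hlift w)) (by
      rw [hshear_mul _ (hlift v) _ (hlift w), AddMonoidHom.add_apply, hliftx, hliftx, hliftx]
      rfl)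
  have hmemW : ∀ g ∈ shearGrp (z := z) (z₁ := z₁) hO hO₁ S, ∀ t, shear (S := S) g t ∈ W :=
    fun g ⟨b, hb, hb₁, hg⟩ t => Tr.dir_le_sub hO hO₁ hb hb₁ (shear_mem_dir hO hO₁ hb hg t)
  -- scalars
  let φ : K → Tr.dir S z a := fun k => (k.1 : Tr.dir S z a →+ Tr.dir S z a) x₀
  have hcomp : ∀ (μ : K) (g : G), g ∈ shearGrp (z := z) (z₁ := z₁) hO hO₁ S →
      ∃ g' ∈ shearGrp hO hO₁ S, ∀ x : Tr.dir S z a,
        shear (S := S) g' x.1 = shear g ((μ.1 : Tr.dir S z a →+ Tr.dir S z a) x).1 := by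
    rintro μ g ⟨b, hb, hb₁, hg⟩
    obtain ⟨g', hg', hgg⟩ := μ.2 b hb hb₁ _ (shearMap_mem hO hO₁ a hb hb₁ hg)
    exact ⟨g', ⟨b, hb, hb₁, hg'⟩, fun x => (hgg x).symm⟩
  let sm : K → W → W := fun μ w => ⟨shear (lift w) (φ μ).1, hmemW _ (hlift w) _⟩
  have hsm : ∀ (μ : K) (w : W) (x : Tr.dir S z a),
      shear (S := S) (lift (sm μ w)) x.1 =
        shear (lift w) ((μ.1 : Tr.dir S z a →+ Tr.dir S z a) x).1 := by
    intro μ w
    obtain ⟨g', hg', hgx⟩ := hcomp μ _ (hlift w)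
    intro x
    rw [huniq _ (hlift _) _ hg' (by rw [hliftx, hgx]), hgx]
  letI : Field K := hKf.toField
  have hmul : ∀ μ ν : K, φ (μ * ν) = (μ.1 : Tr.dir S z a →+ Tr.dir S z a) (φ ν) := fun _ _ => rfl
  letI : Module K W :=
    { smul := sm
      one_smul := fun w => Subtype.ext (hliftx w)
      mul_smul := fun μ ν w => Subtype.ext (by
        change shear (lift w) (φ (μ * ν)).1 = shear (lift (sm ν w)) (φ μ).1
        rw [hsm, mul_comm μ ν, hmul])
      smul_zero := fun μ => Subtype.ext (by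
        change shear (lift 0) (φ μ).1 = 0
        rw [huniq _ (hlift 0) 1 (one_mem _) (by rw [hliftx, shear_one hO hO₁]; rfl),
          shear_one hO hO₁, AddMonoidHom.zero_apply])
      smul_add := fun μ v w => Subtype.ext (by
        change shear (lift (v + w)) (φ μ).1 = shear (lift v) (φ μ).1 + shear (lift w) (φ μ).1
        rw [hlift_add, hshear_mul _ (hlift v) _ (hlift w), AddMonoidHom.add_apply])
      add_smul := fun μ ν w => Subtype.ext (by
        change shear (lift w) ((φ μ).1 + (φ ν).1) = shear (lift w) (φ μ).1 + shear (lift w) (φ ν).1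
        rw [map_add])
      zero_smul := fun w => Subtype.ext (map_zero (shear (lift w))) }
  have hφ0 : ∀ k : K, φ k = 0 → k = 0 := by
    intro k hk
    by_contra hk0
    obtain ⟨j, hj⟩ := hKf.mul_inv_cancel hk0
    refine hx₀ ?_
    have h1 : φ (j * k) = x₀ := by rw [mul_comm, hj]; rfl
    rw [← h1, hmul, hk, map_zero]
  let ι : K × W →+ Tr S z := AddMonoidHom.mk' (fun u => (φ u.1).1 + u.2.1) fun u v => by
    change ((φ u.1).1 + (φ v.1).1) + (u.2.1 + v.2.1) = _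
    abel
  have hιinj : Function.Injective ι := (injective_iff_map_eq_zero ι).2 fun ⟨κ, w⟩ h => by
    have h1 : (φ κ).1 = 0 := Tr.dir_inf_sub hO hO₁ ha ha₁ (φ κ).2 (by
      rw [show (φ κ).1 = -w.1 from eq_neg_of_add_eq_zero_left h]
      exact neg_mem w.2)
    have h2 : (φ κ).1 + w.1 = 0 := h
    rw [h1, zero_add] at h2
    exact Prod.ext (hφ0 κ (Subtype.ext h1)) (Subtype.ext h2)
  have hιsurj : Function.Surjective ι := fun t => by
    obtain ⟨x, hx, hxw⟩ := Tr.exists_decomp hO hO₁ ha ha₁ t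
    obtain ⟨k, hk, hkx⟩ := hKreg x₀ ⟨x, hx⟩ hx₀
    refine ⟨(⟨k, hk⟩, ⟨t - x, hxw⟩), ?_⟩
    change (k x₀).1 + (t - x) = t
    rw [show (k x₀).1 = x from congrArg Subtype.val hkx, add_sub_cancel]
  let ιe : K × W ≃+ Tr S z := AddEquiv.ofBijective ι ⟨hιinj, hιsurj⟩
  -- multiples keep the centre
  have hdir : ∀ u : K × W, ∃ c, D.I c z ∧ ∀ μ : K, ι (μ • u) ∈ Tr.dir S z c := by
    rintro ⟨κ, w⟩
    by_cases hκ : κ = 0
    · obtain ⟨b, hb, hb₁, hg⟩ := hlift w
      refine ⟨b, hb, fun μ => ?_⟩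
      change (φ (μ * κ)).1 + shear (lift w) (φ μ).1 ∈ _
      rw [hκ, mul_zero, show φ 0 = 0 from rfl, AddSubgroup.coe_zero, zero_add]
      exact shear_mem_dir hO hO₁ hb hg _
    obtain ⟨b, hb, hb₁, hg⟩ := hlift (κ⁻¹ • w)
    have hgz := elation_fix hO hO₁ hb hg
    refine ⟨lift (κ⁻¹ • w) • a, (D.I_smul_left hgz).2 ha, fun μ => ?_⟩
    have e : (μ • w : W).1 = shear (lift (κ⁻¹ • w)) (φ (μ * κ)).1 := by
      conv_lhs => rw [show μ • w = (μ * κ) • (κ⁻¹ • w) by
        rw [smul_smul, mul_assoc, mul_inv_cancel₀ hκ, mul_one]]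
      rfl
    change (φ (μ * κ)).1 + (μ • w : W).1 ∈ _
    rw [e, add_comm, Tr.mem_dir, shear_val hgz]
    have := D.elation_conj (g := lift (κ⁻¹ • w)) (Tr.mem_dir.1 (φ (μ * κ)).2)
    rwa [hgz] at this
  have hφbij : Function.Bijective φ :=
    ⟨fun j k h => sub_eq_zero.1 (hφ0 _ (show φ j - φ k = 0 from sub_eq_zero.2 h)), fun y => by
      obtain ⟨k, hk, hkx⟩ := hKreg x₀ y hx₀
      exact ⟨⟨k, hk⟩, hkx⟩⟩
  haveI : Finite K := Finite.of_injective φ hφbij.1
  haveI : Fintype K := Fintype.ofFinite K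
  have hKcard : Fintype.card K = D.q := by
    rw [← Nat.card_eq_fintype_card, Nat.card_congr (Equiv.ofBijective φ hφbij), Tr.card_dir ha]
  have hline : ∀ v : K × W, v ≠ 0 → ∀ u,
      (∃ c, D.I c z ∧ ι v ∈ Tr.dir S z c ∧ ι u ∈ Tr.dir S z c) ↔ ∃ α : K, u = α • v := by
    intro v hv u
    obtain ⟨c, hc, hcv⟩ := hdir v
    constructor
    · rintro ⟨c', hc', hv', hu'⟩
      have hv0 : ι v ≠ 0 := fun h => hv (hιinj (h.trans (map_zero ι).symm))
      have hcc : c = c' := Tr.dir_unique hc (by simpa using hcv 1) hv' hv0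
      let f : K → Tr.dir S z c := fun α => ⟨ι (α • v), hcv α⟩
      obtain ⟨-, hsurj⟩ := (Nat.bijective_iff_injective_and_card f).2 ⟨fun α β h =>
        smul_left_injective K hv (hιinj (congrArg Subtype.val h)), by
          rw [Nat.card_eq_fintype_card, hKcard, Tr.card_dir hc]⟩
      obtain ⟨α, hα⟩ := hsurj ⟨ι u, hcc ▸ hu'⟩
      exact ⟨α, (hιinj (congrArg Subtype.val hα)).symm⟩
    · rintro ⟨α, rfl⟩
      exact ⟨c, hc, by simpa using hcv 1, hcv α⟩
  -- move the field to `Type`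
  obtain ⟨F, ⟨eK⟩⟩ : ∃ F : Type, Nonempty (K ≃ F) := by
    obtain ⟨n, ⟨e⟩⟩ := Finite.exists_equiv_fin K
    exact ⟨Fin n, ⟨e⟩⟩
  letI : Field F := eK.symm.field
  letI : Fintype F := Fintype.ofEquiv K eK
  let σ : F ≃+* K := eK.symm.ringEquiv
  letI : Module F (K × W) := Module.compHom _ σ.toRingHom
  haveI : Module.Finite F (K × W) := Module.Finite.of_finite
  let B := Module.finBasis F (K × W)
  refine ⟨Module.finrank F (K × W), F, inferInstance, inferInstance,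
    B.equivFun.symm.toAddEquiv.trans ιe, ?_, ?_, fun v hv u => ?_⟩
  · -- two independent vectors
    have hne : z ≠ z₁ := fun h => hO (h ▸ hO₁)
    obtain ⟨b, hb'⟩ := card_pos.1 (show 0 < (D.pts z ∩ D.pts z₁).card by
      rw [D.pts_inter_card hne]; exact D.lam_pos)
    rw [mem_inter, SymDesign.mem_pts, SymDesign.mem_pts] at hb'
    obtain ⟨y, hy⟩ : ∃ y : Tr.dir S z b, y ≠ 0 := by
      by_contra hcon
      push Not at hcon
      have h1 : Nat.card (Tr.dir S z b) = D.q := Tr.card_dir hb'.1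
      have : Subsingleton (Tr.dir S z b) := ⟨fun u v => by rw [hcon u, hcon v]⟩
      rw [Nat.card_of_subsingleton 0] at h1
      have := S.two_le_q
      omega
    have hli : LinearIndependent F
        ![((1 : K), (0 : W)), ((0 : K), (⟨y.1, Tr.dir_le_sub hO hO₁ hb'.1 hb'.2 y.2⟩ : W))] := by
      rw [LinearIndependent.pair_iff]
      intro s t hst
      have e : σ s • ((1 : K), (0 : W)) +
        σ t • ((0 : K), (⟨y.1, Tr.dir_le_sub hO hO₁ hb'.1 hb'.2 y.2⟩ : W)) = 0 := hst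
      simp only [Prod.smul_mk, Prod.mk_add_mk, smul_eq_mul, mul_one, mul_zero, add_zero, smul_zero,
        zero_add, Prod.mk_eq_zero, smul_eq_zero] at e
      refine ⟨(map_eq_zero σ).1 e.1, ?_⟩
      rcases e.2 with h | h
      · exact (map_eq_zero σ).1 h
      · exact absurd (show y = 0 from Subtype.ext (congrArg Subtype.val h :)) hy
    simpa using hli.fintype_card_le_finrank
  · rw [← hKcard]
    exact Fintype.card_congr eK.symm
  · have hv' : B.equivFun.symm v ≠ 0 := fun h => hv ((map_eq_zero_iff _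
      B.equivFun.symm.injective).1 h)
    refine (hline _ hv' (B.equivFun.symm u)).trans ?_
    constructor
    · rintro ⟨α, hα⟩
      refine ⟨σ.symm α, B.equivFun.symm.injective ?_⟩
      rw [map_smul, hα]
      change α • B.equivFun.symm v = σ (σ.symm α) • B.equivFun.symm v
      rw [RingEquiv.apply_symm_apply]
    · rintro ⟨α, rfl⟩
      refine ⟨σ α, ?_⟩
      rw [map_smul]
      rfl

end Cfsg.Agent.SymDesignPG
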