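import Cfsg.Agent.SymDesignPG.Space

/-!
# Elations

In a projective space in which the stabilizer of a point and all hyperplanes through it is
transitive on the other hyperplanes, all elation groups are full and the translation groups are
abelian and regular.
-/

set_option autoImplicit false
set_option linter.style.haveILetI false

namespace Cfsg.Agent.SymDesignPG

open Finset MulAction

variable {G P L : Type*} [Group G] [MulAction G P] [MulAction G L] [Fintype P] [Fintype L]

namespace SymDesign

/-- The elations with centre `a` and axis `z`. -/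
def elation (D : SymDesign G P L) (a : P) (z : L) : Subgroup G := D.star a ⊓ D.ker z

/-- The translations with axis `z`. -/
def transl (D : SymDesign G P L) (z : L) : Subgroup G :=
  Subgroup.closure {u | ∃ c, D.I c z ∧ u ∈ D.elation c z}

variable (D : SymDesign G P L)
include D

theorem elation_ker {a : P} {z : L} {g : G} (hg : g ∈ D.elation a z) : g ∈ D.ker z := hg.2

theorem elation_star {a : P} {z : L} {g : G} (hg : g ∈ D.elation a z) : g ∈ D.star a := hg.1

theorem elation_line {a : P} {z : L} {g : G} (hg : g ∈ D.elation a z) (x : P) :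
    g • x ∈ D.line a x := D.star_mem_line hg.1 x

theorem elation_conj {a : P} {z : L} {g h : G} (hh : h ∈ D.elation a z) :
    g * h * g⁻¹ ∈ D.elation (g • a) (g • z) :=
  ⟨D.dual.ker_conj hh.1, D.ker_conj hh.2⟩

theorem not_I_smul {z : L} {g : G} (hg : g ∈ D.ker z) {x : P} (hx : ¬ D.I x z) :
    ¬ D.I (g • x) z := fun h => hx ((D.I_smul_left (D.ker_fix hg)).1 h)

end SymDesign

/-- A projective space with transitive point kernels. -/
structure Homog (D : SymDesign G P L) : Prop extends PSpace D where
  trans : ∀ (a : P) (z z' : L), ¬ D.I a z → ¬ D.I a z' → ∃ g ∈ D.star a, g • z = z'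

namespace Homog

set_option linter.unusedSectionVars false

variable {D : SymDesign G P L} (S : Homog D)
include S

/-- An elation fixing a point off its axis is trivial. -/
theorem rigid {a x : P} {z : L} {g : G} (hg : g ∈ D.elation a z) (ha : D.I a z) (hx : ¬ D.I x z)
    (hgx : g • x = x) : g = 1 := by
  have hax : a ≠ x := fun h => hx (h ▸ ha)
  have key : ∀ x y, ¬ D.I x z → g • x = x → y ∉ D.line a x → g • y = y := by
    intro x y hx hgx hy
    have hax : a ≠ x := fun h => hx (h ▸ ha)
    have hay : a ≠ y := fun h => hy (h ▸ D.left_mem_line a x)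
    have hxy : x ≠ y := fun h => hy (h ▸ D.right_mem_line a x)
    obtain ⟨w, hw, hwl⟩ := S.meet x y hxy z
    have hgw : g • w = w := D.mem_ker.1 hg.2 w hw
    have hwx : w ≠ x := fun h => hx (h ▸ hw)
    have h1 : D.line x w = D.line x y := D.line_eq hxy (D.left_mem_line x y) hwl hwx.symm
    have h2 : g • y ∈ D.line x y := by
      have h := (D.smul_mem_line g).2 (show y ∈ D.line x w from h1 ▸ D.right_mem_line x y)
      rw [hgx, hgw, h1] at h
      exact h
    have h3 : g • y ∈ D.line a y := D.star_mem_line hg.1 y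
    by_contra hne
    have h4 : D.line (g • y) y = D.line x y := D.line_eq hxy h2 (D.right_mem_line x y) hne
    have h5 : D.line (g • y) y = D.line a y := D.line_eq hay h3 (D.right_mem_line a y) hne
    have h6 : x ∈ D.line a y := h5 ▸ h4.symm ▸ D.left_mem_line x y
    have h7 : D.line a x = D.line a y := D.line_eq hay (D.left_mem_line a y) h6 hax
    exact hy (h7 ▸ D.right_mem_line a y)
  refine D.faithful g fun y => ?_
  by_cases hy : y ∈ D.line a x
  · by_cases hyz : D.I y z
    · exact D.mem_ker.1 hg.2 y hyz
    · obtain ⟨c, hcz, hc⟩ := S.exists_off hax z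
      refine key c y hcz (key x c hx hgx hc) fun hy' => hc ?_
      have hay : a ≠ y := fun h => hyz (h ▸ ha)
      have hac : a ≠ c := fun h => hc (h ▸ D.left_mem_line a x)
      have h1 : D.line a y = D.line a x := D.line_eq hax (D.left_mem_line a x) hy hay
      have h2 : D.line a y = D.line a c := D.line_eq hac (D.left_mem_line a c) hy' hay
      exact h1 ▸ h2.symm ▸ D.right_mem_line a c
  · exact key x y hx hgx hy

/-- Two elations agreeing at a point off the axis are equal. -/
theorem elation_eq {a x : P} {z : L} {g h : G} (hg : g ∈ D.elation a z) (hh : h ∈ D.elation a z)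
    (ha : D.I a z) (hx : ¬ D.I x z) (he : g • x = h • x) : g = h := by
  have := S.rigid (mul_mem (inv_mem hh) hg) ha hx (by rw [mul_smul, he, inv_smul_smul])
  exact (inv_mul_eq_one.1 this).symm

variable [Fintype G]

open scoped Classical in
theorem elation_card_le {a : P} {z : L} (ha : D.I a z) :
    (univ.filter fun g => g ∈ D.elation a z).card ≤ D.q := by
  obtain ⟨x, hx⟩ : ∃ x, ¬ D.I x z := by
    obtain ⟨b, hb⟩ := S.toPSpace.exists_ne a
    obtain ⟨c, hc, -⟩ := S.exists_off hb z
    exact ⟨c, hc⟩
  have hax : a ≠ x := fun h => hx (h ▸ ha)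
  refine (card_le_card_of_injOn (t := (D.line a x).erase a) (fun g => g • x) ?_ ?_).trans ?_
  · intro g hg
    simp only [coe_filter, mem_univ, true_and, Set.mem_ofPred_eq] at hg
    exact mem_coe.2 (mem_erase.2
      ⟨fun h : g • x = a => D.not_I_smul hg.2 hx (by rw [h]; exact ha), D.elation_line hg x⟩)
  · intro g hg h hh he
    simp only [coe_filter, mem_univ, true_and, Set.mem_ofPred_eq] at hg hh
    exact S.elation_eq hg hh ha hx he
  · rw [card_erase_of_mem (D.left_mem_line a x), S.q_spec hax]
    omega

/-- An element of the star of `a` moving every hyperplane off `a` is an elation. -/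
theorem exists_axis {a : P} {h : G} (hh : h ∈ D.star a) (h1 : h ≠ 1)
    (hfpf : ∀ w, ¬ D.I a w → h • w ≠ w) : ∃ z, D.I a z ∧ h ∈ D.elation a z := by
  classical
  set F := univ.filter fun p : P => h • p = p with hF
  have hFcard : F.card = D.k := by
    have hc := D.fixed_card_eq h
    rw [Nat.card_eq_fintype_card, Nat.card_eq_fintype_card, Fintype.card_subtype,
      Fintype.card_subtype] at hc
    rw [hF, hc, ← D.blks_card a]
    congr 1
    ext w
    simp only [mem_filter, mem_univ, true_and, SymDesign.mem_blks]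
    exact ⟨fun hw => by_contra fun h' => hfpf w h' hw, fun hw => D.mem_star.1 hh w hw⟩
  have haF : h • a = a := D.star_fix hh
  obtain ⟨x₀, hx₀⟩ : ∃ x, h • x ≠ x := by
    by_contra hcon
    push Not at hcon
    exact h1 (D.faithful h hcon)
  have hmeet : ∀ b c, b ≠ c → ∃ d ∈ D.line b c, d ∈ F := by
    intro b c hbc
    by_cases hab : a ∈ D.line b c
    · exact ⟨a, hab, by simp [F, haF]⟩
    have hab' : a ≠ b := fun e => hab (e ▸ D.left_mem_line b c)
    have hc : c ∉ D.line a b := fun hc => by
      have e := D.line_eq hab' (D.right_mem_line a b) hc hbc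
      exact hab (e ▸ D.left_mem_line a b)
    obtain ⟨x, hx, hx'⟩ := S.veblen hab' hc (D.star_mem_line hh b) (D.star_mem_line hh c)
      (fun e => hbc (MulAction.injective h e))
    have hy : h⁻¹ • x ∈ D.line b c := by
      rw [← D.smul_mem_line h, smul_inv_smul]
      exact hx'
    refine ⟨h⁻¹ • x, hy, ?_⟩
    simp only [F, mem_filter, mem_univ, true_and, smul_inv_smul]
    by_contra hne
    have hy' : x ∈ D.line a (h⁻¹ • x) := by
      have := D.star_mem_line hh (h⁻¹ • x)
      rwa [smul_inv_smul] at this
    have hay : a ≠ h⁻¹ • x := fun e => hab (by rw [e]; exact hy)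
    have e1 : D.line x (h⁻¹ • x) = D.line b c := D.line_eq hbc hx hy hne
    have e2 : D.line x (h⁻¹ • x) = D.line a (h⁻¹ • x) :=
      D.line_eq hay hy' (D.right_mem_line _ _) hne
    exact hab (e1 ▸ e2.symm ▸ D.left_mem_line a _)
  have hfix2 : ∀ b c, b ≠ c → a ∉ D.line b c → h • b = b → h • c = c →
      ∀ d ∈ D.line b c, h • d = d := by
    intro b c hbc hab hb hc d hd
    have had : a ≠ d := fun e => hab (e ▸ hd)
    have hd' : h • d ∈ D.line b c := by
      have := (D.smul_mem_line h).2 hd
      rwa [hb, hc] at this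
    by_contra hne
    have e1 : D.line (h • d) d = D.line b c := D.line_eq hbc hd' hd hne
    have e2 : D.line (h • d) d = D.line a d :=
      D.line_eq had (D.star_mem_line hh d) (D.right_mem_line a d) hne
    exact hab (e1 ▸ e2.symm ▸ D.left_mem_line a d)
  have hlineA : ∀ b, b ≠ a → h • b = b → ∀ d ∈ D.line a b, h • d = d := by
    intro b hba hb d hd
    by_contra hne
    have hda : d ≠ a := fun e => hne (by rw [e, haF])
    have hdb : d ≠ b := fun e => hne (by rw [e, hb])
    have el : D.line a d = D.line a b := D.line_eq hba.symm (D.left_mem_line a b) hd hda.symm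
    -- each line through `d`, not through `a`, has a single fixed point
    have hex : ∀ y ∈ univ \ D.line a b, ∃ c, c ∈ D.line d y ∧ c ∈ (F.erase a).erase b := by
      intro y hy
      simp only [mem_sdiff, mem_univ, true_and] at hy
      have hdy : d ≠ y := fun e => hy (e ▸ hd)
      obtain ⟨c, hc, hcF⟩ := hmeet d y hdy
      have hcd : d ≠ c := fun e => hne (by simpa [F, ← e] using hcF)
      refine ⟨c, hc, mem_erase.2 ⟨fun e => hy ?_, mem_erase.2 ⟨fun e => hy ?_, hcF⟩⟩⟩
      · have e1 : D.line d c = D.line d y := D.line_eq hdy (D.left_mem_line d y) hc hcd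
        have e2 : D.line d c = D.line a b :=
          D.line_eq hba.symm hd (by rw [e]; exact D.right_mem_line a b) hcd
        exact e2 ▸ e1.symm ▸ D.right_mem_line d y
      · have e1 : D.line d c = D.line d y := D.line_eq hdy (D.left_mem_line d y) hc hcd
        have e2 : D.line d c = D.line a b :=
          D.line_eq hba.symm hd (by rw [e]; exact D.left_mem_line a b) hcd
        exact e2 ▸ e1.symm ▸ D.right_mem_line d y
    choose! f hfl hf using hex
    have h2 := card_le_mul_card_image_of_maps_to hf D.q (fun c hc => ?_)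
    · rw [card_univ_sdiff, D.card_pts_univ, S.q_spec hba.symm, card_erase_of_mem,
        card_erase_of_mem (by simp [F, haF]), hFcard] at h2
      · obtain ⟨-, hv, hq⟩ := S.params
        have hk := D.two_le_k
        obtain ⟨k', hk'⟩ : ∃ k', D.k = k' + 2 := ⟨D.k - 2, by omega⟩
        rw [hv, hk'] at h2
        rw [show k' + 2 - 1 - 1 = k' by omega,
          show D.q * (k' + 2) + 1 - (D.q + 1) = D.q * (k' + 2) - D.q by omega] at h2
        rw [Nat.mul_add, show D.q * 2 = D.q + D.q by omega, ← add_assoc, Nat.add_sub_cancel] at h2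
        omega
      · exact mem_erase.2 ⟨hba, by simp [F, hb]⟩
    · have hcd : d ≠ c := fun e => hne (by
        have hcF := mem_of_mem_erase (mem_of_mem_erase hc)
        simpa [F, ← e] using hcF)
      refine (card_le_card (t := (D.line d c).erase d) fun y hy => ?_).trans (le_of_eq ?_)
      · simp only [mem_filter, mem_sdiff, mem_univ, true_and] at hy
        have hdy : d ≠ y := fun e => hy.1 (e ▸ hd)
        have hl := hfl y (by simp [hy.1])
        rw [hy.2] at hl
        refine mem_erase.2 ⟨hdy.symm, ?_⟩
        rw [D.line_eq hdy (D.left_mem_line d y) hl hcd]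
        exact D.right_mem_line d y
      · rw [card_erase_of_mem (D.left_mem_line d c), S.q_spec hcd]
        omega
  obtain ⟨z, hz⟩ := S.hyperplane_of F (fun b hb c hc hbc d hd => by
      simp only [F, mem_filter, mem_univ, true_and] at hb hc ⊢
      by_cases hab : a ∈ D.line b c
      · by_cases hba : b = a
        · subst hba
          exact hlineA c hbc.symm hc d hd
        · refine hlineA b hba hb d ?_
          rw [D.line_eq hbc hab (D.left_mem_line b c) (Ne.symm hba)]
          exact hd
      · exact hfix2 b c hbc hab hb hc d hd) x₀ (by simp [F, hx₀]) hmeet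
  refine ⟨z, ?_, hh, D.mem_ker.2 fun p hp => ?_⟩
  · rw [← SymDesign.mem_pts, hz]
    simp [F, haF]
  · rw [← SymDesign.mem_pts, hz] at hp
    simpa [F] using hp

open scoped Classical in
/-- All elation groups are full. -/
theorem elation_card {a : P} {z : L} (ha : D.I a z) :
    (univ.filter fun g => g ∈ D.elation a z).card = D.q := by
  classical
  set K := D.dual.kerF a with hK
  set C := univ \ D.blks a with hC
  have hKmem : ∀ {g : G}, g ∈ K ↔ g ∈ D.star a := SymDesign.mem_kerF _
  obtain ⟨w₀, hw₀⟩ : C.Nonempty := by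
    rw [← card_pos, hC, card_univ_sdiff, D.card_blks_univ, D.blks_card]
    have := D.k_le
    omega
  have hw₀' : ¬ D.I a w₀ := by simpa [hC] using hw₀
  have horb : ∀ w, ¬ D.I a w → K.image (· • w) = C := by
    intro w hw
    refine subset_antisymm (fun r hr => ?_) fun r hr => ?_
    · obtain ⟨g, hg, rfl⟩ := mem_image.1 hr
      simp only [hC, mem_sdiff, mem_univ, true_and, SymDesign.mem_blks]
      rw [hKmem] at hg
      intro h
      have h2 := D.smul_iff g a w
      rw [D.star_fix hg] at h2
      exact hw (h2.1 h)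
    · simp only [hC, mem_sdiff, mem_univ, true_and, SymDesign.mem_blks] at hr
      obtain ⟨g, hg, hgw⟩ := S.trans a w r hw hr
      exact mem_image.2 ⟨g, hKmem.2 hg, hgw⟩
  set s := (K.filter fun g => g • w₀ = w₀).card with hs
  have hos : C.card * s = K.card := by
    rw [← horb w₀ hw₀']
    exact D.dual.orb_mul_stab a w₀
  have hCpos : 0 < C.card := card_pos.2 ⟨w₀, hw₀⟩
  have hstab : ∀ w ∈ C, (K.filter fun g => g • w = w).card = s := by
    intro w hw
    refine Nat.eq_of_mul_eq_mul_left hCpos ?_
    rw [hos]
    conv_lhs => rw [← horb w (by simpa [hC] using hw)]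
    exact D.dual.orb_mul_stab a w
  -- the fixed-point-free elements
  set Fx := C.biUnion fun w => (K.filter fun g => g • w = w).erase 1 with hFx
  have hFx_le : Fx.card ≤ C.card * (s - 1) := by
    refine card_biUnion_le_card_mul _ _ _ fun w hw => le_of_eq ?_
    rw [card_erase_of_mem (by simp [hKmem, one_mem]), hstab w hw]
  set el : L → Finset G := fun w => (univ.filter fun g => g ∈ D.elation a w).erase 1 with hel
  have hcover : (K.erase 1) \ Fx ⊆ (D.blks a).biUnion el := by
    intro g hg
    simp only [mem_sdiff, mem_erase, hKmem] at hg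
    obtain ⟨⟨hg1, hgs⟩, hgF⟩ := hg
    obtain ⟨w, hw, hgw⟩ := S.exists_axis hgs hg1 fun w hw hfix => hgF (by
      simp only [hFx, hC, mem_biUnion, mem_sdiff, mem_univ, true_and, SymDesign.mem_blks,
        mem_erase, mem_filter, hKmem]
      exact ⟨w, hw, hg1, hgs, hfix⟩)
    simp only [mem_biUnion, SymDesign.mem_blks, hel, mem_erase, mem_filter, mem_univ, true_and]
    exact ⟨w, hw, hg1, hgw⟩
  have hone : ∀ w, ((univ.filter fun g => g ∈ D.elation a w)).card = (el w).card + 1 := by
    intro w
    rw [hel, card_erase_add_one (by simp [one_mem])]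
  have h1 := card_le_card hcover
  have h2 := le_card_sdiff Fx (K.erase 1)
  rw [card_erase_of_mem (by simp [hKmem, one_mem]), ← hos] at h2
  have h3 : ((D.blks a).biUnion el).card ≤ ∑ w ∈ D.blks a, (el w).card := card_biUnion_le
  have h4 : C.card = D.v - D.k := by rw [hC, card_univ_sdiff, D.card_blks_univ, D.blks_card]
  obtain ⟨hk, hv, hq⟩ := S.params
  by_contra hne
  have hlt : (el z).card + 1 < D.q := by
    rw [← hone]
    exact lt_of_le_of_ne (S.elation_card_le ha) hne
  have h5 : ∑ w ∈ D.blks a, (el w).card < ∑ _w ∈ D.blks a, (D.q - 1) := by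
    refine sum_lt_sum (fun w hw => ?_) ⟨z, D.mem_blks.2 ha, by omega⟩
    have := S.elation_card_le (D.mem_blks.1 hw)
    rw [hone] at this
    omega
  rw [sum_const, smul_eq_mul, D.blks_card] at h5
  have hs1 : 1 ≤ s := card_pos.2 ⟨1, by simp [hKmem, one_mem]⟩
  have hkv : D.k ≤ D.v := by have := D.k_le; omega
  have h6 : C.card * s - 1 - C.card * (s - 1) ≤ D.k * (D.q - 1) - 1 := by omega
  have h7 : C.card * s = C.card * (s - 1) + C.card := by
    rw [← Nat.mul_succ]; congr 1; omega
  have h8 : D.k * (D.q - 1) = D.q * D.k - D.k := by rw [Nat.mul_sub, mul_one, mul_comm]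
  have h9 : D.k ≤ D.q * D.k := Nat.le_mul_of_pos_left _ (by omega)
  omega

/-- Transitivity of an elation group on a line through the centre. -/
theorem exists_elation {a x y : P} {z : L} (ha : D.I a z) (hx : ¬ D.I x z) (hy : y ∈ D.line a x)
    (hya : y ≠ a) : ∃ g ∈ D.elation a z, g • x = y := by
  classical
  have hax : a ≠ x := fun h => hx (h ▸ ha)
  have h : (univ.filter fun g => g ∈ D.elation a z).image (· • x) = (D.line a x).erase a := by
    refine eq_of_subset_of_card_le ?_ ?_
    · intro p hp
      simp only [mem_image, mem_filter, mem_univ, true_and] at hp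
      obtain ⟨g, hg, rfl⟩ := hp
      exact mem_erase.2 ⟨fun h : g • x = a => D.not_I_smul hg.2 hx (by rw [h]; exact ha),
        D.elation_line hg x⟩
    · rw [card_erase_of_mem (D.left_mem_line a x), S.q_spec hax, card_image_of_injOn,
        S.elation_card ha]
      · omega
      · intro g hg h hh he
        simp only [coe_filter, mem_univ, true_and, Set.mem_ofPred_eq] at hg hh
        exact S.elation_eq hg hh ha hx he
  have hy' : y ∈ (D.line a x).erase a := mem_erase.2 ⟨hya, hy⟩
  rw [← h] at hy'
  simpa using hy'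

/-- An automorphism with an axis and no further fixed point has a centre on the axis. -/
theorem exists_centre {u : G} {z : L} (hu : u ∈ D.ker z)
    (hfpf : ∀ p, ¬ D.I p z → u • p ≠ p) : ∃ c, D.I c z ∧ u ∈ D.elation c z := by
  classical
  set Φ := (univ.filter fun w : L => u • w = w).erase z with hΦ
  have hΦcard : Φ.card = D.k - 1 := by
    have hc := D.fixed_card_eq u
    rw [Nat.card_eq_fintype_card, Nat.card_eq_fintype_card, Fintype.card_subtype,
      Fintype.card_subtype] at hc
    rw [hΦ, card_erase_of_mem (by simp [D.ker_fix hu]), ← hc, ← D.pts_card z]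
    congr 2
    ext p
    simp only [mem_filter, mem_univ, true_and, SymDesign.mem_pts]
    exact ⟨fun hp => by_contra fun h' => hfpf p h' hp, fun hp => D.mem_ker.1 hu p hp⟩
  -- every hyperplane through `p` and `u p` is fixed
  have hfix : ∀ p, ¬ D.I p z → D.blks p ∩ D.blks (u • p) ⊆ Φ := by
    intro p hp
    have hle : ∀ q ∈ univ \ D.pts z, (Φ.bipartiteAbove (fun q w => D.I q w) q).card ≤ D.lam := by
      intro q hq
      simp only [mem_sdiff, mem_univ, true_and, SymDesign.mem_pts] at hq
      rw [← D.blks_inter_card (hfpf q hq).symm]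
      refine card_le_card fun w hw => ?_
      simp only [bipartiteAbove, mem_filter, Φ, mem_erase, mem_univ, true_and] at hw
      simp only [mem_inter, SymDesign.mem_blks]
      refine ⟨hw.2, ?_⟩
      have h := (D.smul_iff u q w).2 hw.2
      rwa [hw.1.2] at h
    have heq : (Φ.bipartiteAbove (fun q w => D.I q w) p).card = D.lam := by
      by_contra hne
      have hp' : p ∈ univ \ D.pts z := by simp [hp]
      have hlt := sum_lt_sum hle ⟨p, hp', lt_of_le_of_ne (hle p hp') hne⟩
      rw [sum_card_bipartiteAbove_eq_sum_card_bipartiteBelow,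
        sum_const_nat (m := D.k - D.lam) (fun w hw => ?_), sum_const, smul_eq_mul, hΦcard,
        card_univ_sdiff, D.card_pts_univ, D.pts_card] at hlt
      · have e := D.lam_mul'
        have hl := D.lam_lt
        have hk := D.two_le_k
        have hkv := D.k_le
        zify [hl.le, show 1 ≤ D.k by omega, show D.k ≤ D.v by omega] at hlt
        nlinarith
      · have hwz : w ≠ z := ne_of_mem_erase hw
        rw [← D.pts_sdiff_card hwz]
        congr 1
        ext q
        simp [bipartiteBelow, and_comm]
    have hsub : Φ.bipartiteAbove (fun q w => D.I q w) p ⊆ D.blks p ∩ D.blks (u • p) := by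
      intro w hw
      simp only [bipartiteAbove, mem_filter, Φ, mem_erase, mem_univ, true_and] at hw
      simp only [mem_inter, SymDesign.mem_blks]
      refine ⟨hw.2, ?_⟩
      have h := (D.smul_iff u p w).2 hw.2
      rwa [hw.1.2] at h
    have := eq_of_subset_of_card_le hsub
      (by rw [D.blks_inter_card (hfpf p hp).symm, heq])
    rw [← this]
    exact filter_subset _ _
  have hinv : ∀ p, ¬ D.I p z → ∀ y ∈ D.line p (u • p), u • y ∈ D.line p (u • p) := by
    intro p hp y hy
    rw [SymDesign.mem_line]
    intro w h1 h2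
    have hw := hfix p hp (mem_inter.2 ⟨D.mem_blks.2 h1, D.mem_blks.2 h2⟩)
    simp only [Φ, mem_erase, mem_filter, mem_univ, true_and] at hw
    have h := (D.smul_iff u y w).2 (D.mem_line.1 hy w h1 h2)
    rwa [hw.2] at h
  -- two invariant lines meet on the axis
  have hmeet2 : ∀ p p', ¬ D.I p z → ¬ D.I p' z → ∀ c, D.I c z → c ∈ D.line p (u • p) →
      c ∈ D.line p' (u • p') := by
    intro p p' hp hp' c hc hcl
    have hpu := (hfpf p hp).symm
    have hpu' := (hfpf p' hp').symm
    by_cases hmem : p' ∈ D.line p (u • p)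
    · rw [D.line_eq hpu hmem (hinv p hp p' hmem) hpu']
      exact hcl
    have hpp : p ≠ p' := fun h => hmem (h ▸ D.left_mem_line _ _)
    obtain ⟨w, hw, hwl⟩ := S.meet p p' hpp z
    have hwp : w ≠ p := fun h => hp (h ▸ hw)
    have hww : u • w = w := D.mem_ker.1 hu w hw
    have e1 : D.line w p = D.line p p' :=
      D.line_eq hpp hwl (D.left_mem_line p p') hwp
    have hup : u • p ∉ D.line w p := by
      intro h
      rw [e1] at h
      have e2 : D.line p (u • p) = D.line p p' := D.line_eq hpp (D.left_mem_line p p') h hpu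
      exact hmem (e2 ▸ D.right_mem_line p p')
    have hp'l : p' ∈ D.line w p := e1 ▸ D.right_mem_line p p'
    have hup' : u • p' ∈ D.line w (u • p) := by
      have := (D.smul_mem_line u).2 hp'l
      rwa [hww] at this
    obtain ⟨x, hx, hx'⟩ := S.veblen hwp hup hp'l hup' hpu'
    have hfx : u • x = x := by
      by_contra hne
      have e3 := D.line_eq hpu (hinv p hp x hx) hx hne
      have e4 := D.line_eq hpu' (hinv p' hp' x hx') hx' hne
      rw [e3] at e4
      exact hmem (e4.symm ▸ D.left_mem_line p' (u • p'))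
    have hxz : D.I x z := by_contra fun h => hfpf x h hfx
    have hxc : x = c := by
      by_contra hne
      exact hp (D.line_I hpu hx hcl hne hxz hc (D.left_mem_line _ _))
    exact hxc ▸ hx'
  obtain ⟨p₀, hp₀⟩ : ∃ p, ¬ D.I p z := by
    by_contra hcon
    push Not at hcon
    have h := card_le_card (fun p _ => D.mem_pts.2 (hcon p) : (univ : Finset P) ⊆ D.pts z)
    rw [card_univ, D.card_pts_univ, D.pts_card] at h
    have := D.k_le
    omega
  obtain ⟨c, hc, hcl⟩ := S.meet p₀ (u • p₀) (hfpf p₀ hp₀).symm z
  refine ⟨c, hc, D.mem_star.2 fun w hcw => ?_, hu⟩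
  refine (D.block_ext fun p hp => ?_).symm
  have hup : ∀ p, D.I p w → D.I (u • p) w := by
    intro p hp
    by_cases hpz : D.I p z
    · rwa [D.mem_ker.1 hu p hpz]
    have hcp : c ≠ p := fun h => hpz (h ▸ hc)
    have hpu := (hfpf p hpz).symm
    have hcm := hmeet2 p₀ p hp₀ hpz c hc hcl
    exact D.line_I hpu hcm (D.left_mem_line _ _) hcp hcw hp (D.right_mem_line _ _)
  -- `p` is the image of a point of `w`
  have himg : (D.pts w).image (u • ·) = D.pts w := by
    refine eq_of_subset_of_card_le (fun r hr => ?_)
      (by rw [card_image_of_injective _ (MulAction.injective u)])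
    obtain ⟨r', hr', rfl⟩ := mem_image.1 hr
    exact D.mem_pts.2 (hup r' (D.mem_pts.1 hr'))
  have hp' : p ∈ (D.pts w).image (u • ·) := himg.symm ▸ D.mem_pts.2 hp
  obtain ⟨r, hr, rfl⟩ := mem_image.1 hp'
  exact (D.smul_iff u r w).2 (D.mem_pts.1 hr)

/-- Elations with a common axis and different centres commute. -/
theorem elation_comm_ne {a b : P} {z : L} (ha : D.I a z) (hb : D.I b z) (hab : a ≠ b) {g h : G}
    (hg : g ∈ D.elation a z) (hh : h ∈ D.elation b z) : g * h = h * g := by
  have h1 : g * h * g⁻¹ ∈ D.elation b z := by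
    have := D.elation_conj (g := g) hh
    rwa [D.mem_ker.1 hg.2 b hb, D.ker_fix hg.2] at this
  have h2 : h * g⁻¹ * h⁻¹ ∈ D.elation a z := by
    have := D.elation_conj (g := h) (inv_mem hg)
    rwa [D.mem_ker.1 hh.2 a ha, D.ker_fix hh.2] at this
  have h3 : g * h * g⁻¹ * h⁻¹ ∈ D.elation b z := mul_mem h1 (inv_mem hh)
  have h4 : g * h * g⁻¹ * h⁻¹ ∈ D.elation a z := by
    rw [show g * h * g⁻¹ * h⁻¹ = g * (h * g⁻¹ * h⁻¹) by group]
    exact mul_mem hg h2
  set c := g * h * g⁻¹ * h⁻¹ with hc
  obtain ⟨x, hx, -⟩ := S.exists_off hab z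
  have hc1 : c • x = x := by
    by_contra hne
    have hax : a ≠ x := fun h => hx (h ▸ ha)
    have hbx : b ≠ x := fun h => hx (h ▸ hb)
    have e1 := D.line_eq hax (D.elation_line h4 x) (D.right_mem_line a x) hne
    have e2 := D.line_eq hbx (D.elation_line h3 x) (D.right_mem_line b x) hne
    have : b ∈ D.line a x := e1 ▸ e2.symm ▸ D.left_mem_line b x
    exact hx (D.line_I hax (D.left_mem_line a x) this hab ha hb (D.right_mem_line a x))
  have := S.rigid h4 ha hx hc1
  rw [hc, mul_inv_eq_one, mul_inv_eq_iff_eq_mul] at this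
  exact this

/-- The product of two elations with the same axis is an elation. -/
theorem elation_mul {a b : P} {z : L} (ha : D.I a z) (hb : D.I b z) {g h : G}
    (hg : g ∈ D.elation a z) (hh : h ∈ D.elation b z) :
    ∃ c, D.I c z ∧ g * h ∈ D.elation c z := by
  by_cases hab : a = b
  · subst hab
    exact ⟨a, ha, mul_mem hg hh⟩
  by_cases hh1 : h = 1
  · exact ⟨a, ha, by simpa [hh1] using hg⟩
  refine S.exists_centre (mul_mem hg.2 hh.2) fun p hp hfix => hh1 ?_
  refine S.rigid hh hb hp ?_
  by_contra hne
  have hap : a ≠ p := fun e => hp (e ▸ ha)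
  have hbp : b ≠ p := fun e => hp (e ▸ hb)
  have h1 : h • p ∈ D.line a p := by
    have := D.elation_line (inv_mem hg) p
    rwa [show g⁻¹ • p = h • p by rw [inv_smul_eq_iff, ← mul_smul, hfix]] at this
  have e1 := D.line_eq hap h1 (D.right_mem_line a p) hne
  have e2 := D.line_eq hbp (D.elation_line hh p) (D.right_mem_line b p) hne
  have : b ∈ D.line a p := e1 ▸ e2.symm ▸ D.left_mem_line b p
  exact hp (D.line_I hap (D.left_mem_line a p) this hab ha hb (D.right_mem_line a p))

theorem mem_transl {z : L} {u : G} : u ∈ D.transl z ↔ ∃ c, D.I c z ∧ u ∈ D.elation c z := by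
  refine ⟨fun h => ?_, fun h => Subgroup.subset_closure h⟩
  obtain ⟨c₀, hc₀⟩ : ∃ c, D.I c z := by
    obtain ⟨c, hc⟩ := card_pos.1 (by rw [D.pts_card]; have := D.two_le_k; omega :
      0 < (D.pts z).card)
    exact ⟨c, D.mem_pts.1 hc⟩
  induction h using Subgroup.closure_induction with
  | mem u hu => exact hu
  | one => exact ⟨c₀, hc₀, one_mem _⟩
  | mul u v _ _ hu hv =>
    obtain ⟨a, ha, hu⟩ := hu
    obtain ⟨b, hb, hv⟩ := hv
    exact S.elation_mul ha hb hu hv
  | inv u _ hu =>
    obtain ⟨a, ha, hu⟩ := hu
    exact ⟨a, ha, inv_mem hu⟩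

theorem transl_fix_eq_one {z : L} {u : G} (hu : u ∈ D.transl z) {x : P} (hx : ¬ D.I x z)
    (hfix : u • x = x) : u = 1 := by
  obtain ⟨c, hc, hu⟩ := S.mem_transl.1 hu
  exact S.rigid hu hc hx hfix

/-- The translation group is transitive off its axis. -/
theorem transl_trans {z : L} {x y : P} (hx : ¬ D.I x z) (hy : ¬ D.I y z) :
    ∃ u ∈ D.transl z, u • x = y := by
  by_cases hxy : x = y
  · exact ⟨1, one_mem _, by rw [one_smul, hxy]⟩
  obtain ⟨c, hc, hcl⟩ := S.meet x y hxy z
  have hcx : c ≠ x := fun h => hx (h ▸ hc)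
  have hy' : y ∈ D.line c x := by
    rw [D.line_eq hxy hcl (D.left_mem_line x y) hcx]
    exact D.right_mem_line x y
  obtain ⟨g, hg, hgx⟩ := S.exists_elation hc hx hy' (fun h => hy (h ▸ hc))
  exact ⟨g, S.mem_transl.2 ⟨c, hc, hg⟩, hgx⟩

/-- The translation group is abelian. -/
theorem transl_comm {z : L} {u v : G} (hu : u ∈ D.transl z) (hv : v ∈ D.transl z) :
    u * v = v * u := by
  classical
  obtain ⟨a, ha, hu⟩ := S.mem_transl.1 hu
  obtain ⟨b, hb, hv⟩ := S.mem_transl.1 hv
  by_cases hab : a = b
  · subst hab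
    clear hb
    obtain ⟨b, hb, hba⟩ : ∃ b, D.I b z ∧ b ≠ a := by
      obtain ⟨b, hb, hne⟩ := exists_mem_ne (by rw [D.pts_card]; have := D.two_le_k; omega :
        1 < (D.pts z).card) a
      exact ⟨b, D.mem_pts.1 hb, hne⟩
    obtain ⟨x, hx, -⟩ := S.exists_off (S.toPSpace.exists_ne a).choose_spec z
    obtain ⟨y, hy, hyx⟩ : ∃ y ∈ (D.line b x).erase b, y ≠ x := by
      refine exists_mem_ne ?_ x
      rw [card_erase_of_mem (D.left_mem_line b x), S.q_spec (fun h => hx (by rw [← h]; exact hb))]
      have := S.two_le_q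
      omega
    obtain ⟨h, hh, hhx⟩ := S.exists_elation hb hx (mem_of_mem_erase hy) (ne_of_mem_erase hy)
    have hh1 : h ≠ 1 := fun e => hyx (by rw [← hhx, e, one_smul])
    obtain ⟨c, hc, hvh⟩ := S.elation_mul ha hb hv hh
    have hca : c ≠ a := by
      rintro rfl
      have h2 : h ∈ D.elation c z := by
        have := mul_mem (inv_mem hv) hvh
        rwa [inv_mul_cancel_left] at this
      apply hh1
      refine S.rigid hh hb hx ?_
      by_contra hne
      have hcx : c ≠ x := fun e => hx (e ▸ hc)
      have hbx : b ≠ x := fun e => hx (e ▸ hb)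
      have e1 := D.line_eq hcx (D.elation_line h2 x) (D.right_mem_line c x) hne
      have e2 := D.line_eq hbx (D.elation_line hh x) (D.right_mem_line b x) hne
      have : b ∈ D.line c x := e1 ▸ e2.symm ▸ D.left_mem_line b x
      exact hx (D.line_I hcx (D.left_mem_line c x) this hba.symm hc hb (D.right_mem_line c x))
    have c1 := S.elation_comm_ne ha hc hca.symm hu hvh
    have c2 := S.elation_comm_ne ha hb hba.symm hu hh
    calc u * v = u * (v * h) * h⁻¹ := by group
      _ = v * h * u * h⁻¹ := by rw [c1]
      _ = v * (u * h) * h⁻¹ := by rw [c2]; group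
      _ = v * u := by group
  · exact S.elation_comm_ne ha hb hab hu hv

end Homog

end Cfsg.Agent.SymDesignPG
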