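import Cfsg.Agent.SymDesignPG.AltField

/-!
# Additive families of bijections closed under inversion

`M ⊆ Hom(X, Y)` and `N ⊆ Hom(Y, X)` are additive groups exchanged by inversion, `M` is regular, and
the evaluations at points of `X` have inverses forming an additive group `C`. Hua's identity gives
both Moufang laws, so `M` is a translate of a field of endomorphisms of `X`.
-/

set_option autoImplicit false
set_option linter.style.haveILetI false

namespace Cfsg.Agent.SymDesignPG

/-- Two additive families exchanged by inversion. -/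
structure InvPair {X Y : Type*} [AddCommGroup X] [AddCommGroup Y] (M : AddSubgroup (X →+ Y))
    (N : AddSubgroup (Y →+ X)) : Prop where
  invL : ∀ A ∈ M, A ≠ 0 → ∃ B ∈ N, B.comp A = .id X ∧ A.comp B = .id Y
  invR : ∀ B ∈ N, B ≠ 0 → ∃ A ∈ M, B.comp A = .id X ∧ A.comp B = .id Y

namespace InvPair

variable {X Y : Type*} [AddCommGroup X] [AddCommGroup Y] {M : AddSubgroup (X →+ Y)}
  {N : AddSubgroup (Y →+ X)}

theorem symm (h : InvPair M N) : InvPair N M where
  invL B hB hB0 := by
    obtain ⟨A, hA, h1, h2⟩ := h.invR B hB hB0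
    exact ⟨A, hA, h2, h1⟩
  invR A hA hA0 := by
    obtain ⟨B, hB, h1, h2⟩ := h.invL A hA hA0
    exact ⟨B, hB, h2, h1⟩

/-- Hua's identity. -/
theorem hua (h : InvPair M N) {A : X →+ Y} {n : Y →+ X} (hA : A ∈ M) (hn : n ∈ N) :
    A.comp (n.comp A) ∈ M := by
  by_cases hA0 : A = 0
  · simp [hA0, zero_mem]
  by_cases hn0 : n = 0
  · simp [hn0, zero_mem]
  obtain ⟨n1, hn1, hn1a, hn1b⟩ := h.invR n hn hn0
  by_cases hC : n1 - A = 0
  · rw [sub_eq_zero] at hC
    subst hC
    rwa [← AddMonoidHom.comp_assoc, hn1b, AddMonoidHom.id_comp]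
  obtain ⟨C', hC', hC'a, hC'b⟩ := h.invL (n1 - A) (sub_mem hn1 hA) hC
  obtain ⟨A', hA', hA'a, hA'b⟩ := h.invL A hA hA0
  have key : ∀ x, (A' + C') ((A - A.comp (n.comp A)) x) = x := by
    intro x
    have e1 : n1 (n (A x)) = A x := DFunLike.congr_fun hn1b (A x)
    have e2 : C' (n1 (n (A x)) - A (n (A x))) = n (A x) := DFunLike.congr_fun hC'a (n (A x))
    have e3 : A' (A x) = x := DFunLike.congr_fun hA'a x
    have e4 : A' (A (n (A x))) = n (A x) := DFunLike.congr_fun hA'a (n (A x))
    rw [e1] at e2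
    simp only [AddMonoidHom.sub_apply, AddMonoidHom.comp_apply, AddMonoidHom.add_apply, map_sub,
      e3, e4] at e2 ⊢
    rw [show C' (A x) = n (A x) + C' (A (n (A x))) from sub_eq_iff_eq_add.1 e2]
    abel
  by_cases hS : A' + C' = 0
  · have hx : ∀ x : X, x = 0 := fun x => by simpa [hS] using (key x).symm
    have : A.comp (n.comp A) = 0 := by
      ext x
      rw [hx x, map_zero, AddMonoidHom.zero_apply]
    rw [this]
    exact zero_mem M
  obtain ⟨B, hB, hB1, hS'b⟩ := h.invR _ (add_mem hA' hC') hS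
  have hinj : Function.Injective (A' + C') := fun u v he => by
    have h1 := DFunLike.congr_fun hS'b u
    have h2 := DFunLike.congr_fun hS'b v
    simp only [AddMonoidHom.comp_apply, AddMonoidHom.id_apply] at h1 h2
    rw [← h1, ← h2, he]
  have e : A - A.comp (n.comp A) = B := by
    ext x
    refine hinj ?_
    rw [key]
    exact (DFunLike.congr_fun hB1 x).symm
  have := sub_mem hA (e ▸ hB)
  rwa [sub_sub_cancel] at this

/-- The normalised family is closed under `a b a`. -/
theorem triple (h : InvPair M N) {A B : X →+ Y} {E' : Y →+ X} (hA : A ∈ M) (hB : B ∈ M)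
    (hE' : E' ∈ N) : A.comp ((E'.comp (B.comp E')).comp A) ∈ M :=
  h.hua hA (h.symm.hua hE' hB)

theorem eq_zero (h : InvPair M N) {A : X →+ Y} (hA : A ∈ M) {x : X} (hx : x ≠ 0)
    (hAx : A x = 0) : A = 0 := by
  by_contra hA0
  obtain ⟨B, -, hB, -⟩ := h.invL A hA hA0
  have := DFunLike.congr_fun hB x
  rw [AddMonoidHom.comp_apply, hAx, map_zero] at this
  exact hx this.symm

theorem eq_of_apply (h : InvPair M N) {A A' : X →+ Y} (hA : A ∈ M) (hA' : A' ∈ M) {x : X}
    (hx : x ≠ 0) (he : A x = A' x) : A = A' :=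
  sub_eq_zero.1 (h.eq_zero (sub_mem hA hA') hx (by simp [he]))

end InvPair

variable {X Y : Type*} [AddCommGroup X] [AddCommGroup Y] [Finite X]

/-- The family is a translate of a field of endomorphisms. -/
theorem exists_field {M : AddSubgroup (X →+ Y)} {N : AddSubgroup (Y →+ X)} (h : InvPair M N)
    (reg : ∀ x : X, x ≠ 0 → ∀ y : Y, ∃ A ∈ M, A x = y)
    (C : AddSubgroup (Y →+ M)) (hC1 : ∀ x : X, x ≠ 0 → ∃ c ∈ C, ∀ u, (c u).1 x = u)
    (hC2 : ∀ c ∈ C, c ≠ 0 → ∃ x : X, x ≠ 0 ∧ ∀ u, (c u).1 x = u)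
    {E : X →+ Y} (hE : E ∈ M) (hE0 : E ≠ 0) :
    ∃ K : Subring (AddMonoid.End X), IsField K ∧ (∀ A ∈ M, ∃ k : X →+ X, k ∈ K ∧ A = E.comp k) ∧
      ∀ k : X →+ X, k ∈ K → E.comp k ∈ M := by
  classical
  obtain ⟨E', hE'N, hE'a, hE'b⟩ := h.invL E hE hE0
  have hE'a' : ∀ x, E' (E x) = x := fun x => DFunLike.congr_fun hE'a x
  have hE'b' : ∀ y, E (E' y) = y := fun y => DFunLike.congr_fun hE'b y
  obtain ⟨e, he⟩ : ∃ e : X, e ≠ 0 := by
    by_contra hcon
    push Not at hcon
    exact hE0 (by ext x; rw [hcon x, map_zero, AddMonoidHom.zero_apply])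
  choose A hAM hAe using fun x : X => reg e he (E x)
  have hAadd : ∀ x y, A (x + y) = A x + A y := fun x y =>
    h.eq_of_apply (hAM _) (add_mem (hAM x) (hAM y)) he (by simp [hAe])
  have huniq : ∀ B ∈ M, B = A (E' (B e)) := fun B hB =>
    h.eq_of_apply hB (hAM _) he (by rw [hAe, hE'b'])
  let mul : X →+ X →+ X :=
    AddMonoidHom.mk' (fun x => E'.comp (A x)) fun x y => by
      ext z
      simp [hAadd]
  have hmul : ∀ x z, mul x z = E' (A x z) := fun _ _ => rfl
  have hA : ∀ x z, A x z = E (mul x z) := fun x z => (hE'b' _).symm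
  -- the evaluations and their inverses
  let ev : X →+ (M →+ Y) := AddMonoidHom.mk'
    (fun x => (AddMonoidHom.eval x).comp M.subtype) fun x y => by
      ext B
      exact map_add B.1 x y
  have hev : ∀ x (B : M), ev x B = B.1 x := fun _ _ => rfl
  have hpair : InvPair ev.range C := by
    refine ⟨?_, ?_⟩
    · rintro _ ⟨x, rfl⟩ hx
      have hx0 : x ≠ 0 := fun h0 => hx (by rw [h0, map_zero])
      obtain ⟨c, hc, hcu⟩ := hC1 x hx0
      refine ⟨c, hc, ?_, AddMonoidHom.ext hcu⟩
      refine AddMonoidHom.ext fun B => Subtype.ext ?_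
      exact h.eq_of_apply (c (ev x B)).2 B.2 hx0 (hcu _)
    · intro c hc hc0
      obtain ⟨x, hx0, hcu⟩ := hC2 c hc hc0
      refine ⟨ev x, ⟨x, rfl⟩, ?_, AddMonoidHom.ext hcu⟩
      refine AddMonoidHom.ext fun B => Subtype.ext ?_
      exact h.eq_of_apply (c (ev x B)).2 B.2 hx0 (hcu _)
  obtain ⟨inv, hinv, hinvu⟩ := hC1 e he
  have hinvA : ∀ z y, ev y (inv (E z)) = E (mul z y) := by
    intro z y
    rw [hev, show (inv (E z)).1 = A z from h.eq_of_apply (inv (E z)).2 (hAM z) he
      (by rw [hinvu, hAe]), hA]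
  let R : AltDiv X :=
    { m := mul
      e := e
      one_mul := fun z => by
        rw [hmul, show A e = E from ?_, hE'a']
        exact h.eq_of_apply (hAM e) hE he (hAe e)
      mul_one := fun x => by rw [hmul, hAe, hE'a']
      no_zero := fun x y hxy => by
        rw [or_iff_not_imp_right]
        intro hy
        have h0 : A x y = 0 := by rw [hA, hxy, map_zero]
        have := hAe x
        rw [h.eq_zero (hAM x) hy h0, AddMonoidHom.zero_apply] at this
        rw [← hE'a' x, ← this, map_zero]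
      moufL := fun x y z => by
        have hT := h.triple (hAM x) (hAM y) hE'N
        have e1 : ∀ w, (A x).comp ((E'.comp ((A y).comp E')).comp (A x)) w =
            E (mul x (mul y (mul x w))) := fun w => by
          simp only [AddMonoidHom.comp_apply, hmul, hE'b']
        have e2 := huniq _ hT
        rw [e1, show mul x e = x from by rw [hmul, hAe, hE'a'], hE'a'] at e2
        have e3 := DFunLike.congr_fun e2 z
        rw [e1, hA] at e3
        rw [← hE'a' (mul (mul x (mul y x)) z), ← e3, hE'a']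
      moufR := fun x y z => by
        obtain ⟨w, hw⟩ := hpair.triple (B := ev y) ⟨x, rfl⟩ ⟨y, rfl⟩ hinv (A := ev x)
        have key : ∀ z, mul (mul (mul z x) y) x = mul z w := by
          intro z
          have e1 := DFunLike.congr_fun hw (inv (E z))
          simp only [AddMonoidHom.comp_apply, hinvA] at e1
          rw [← hE'a' (mul (mul (mul z x) y) x), ← e1, hE'a']
        have hw' := key e
        have h1 : ∀ u, mul e u = u := fun u => by
          rw [hmul, show A e = E from h.eq_of_apply (hAM e) hE he (hAe e), hE'a']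
        rw [h1, h1] at hw'
        rw [hw', key] }
  have hLL : ∀ x y z, mul x (mul y z) = mul (mul x y) z := fun x y z => (R.assoc x y z).symm
  have h1 : ∀ u, mul e u = u := R.one_mul
  let K : Subring (AddMonoid.End X) :=
    { carrier := Set.range mul
      mul_mem' := by
        rintro _ _ ⟨x, rfl⟩ ⟨y, rfl⟩
        exact ⟨mul x y, AddMonoidHom.ext fun z => (hLL x y z).symm⟩
      one_mem' := ⟨e, AddMonoidHom.ext h1⟩
      add_mem' := by
        rintro _ _ ⟨x, rfl⟩ ⟨y, rfl⟩
        exact ⟨x + y, map_add mul x y⟩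
      zero_mem' := ⟨0, map_zero mul⟩
      neg_mem' := by
        rintro _ ⟨x, rfl⟩
        exact ⟨-x, map_neg mul x⟩ }
  refine ⟨K, ⟨⟨1, 0, fun h0 => ?_⟩, ?_, ?_⟩, fun B hB => ?_, ?_⟩
  · exact he (DFunLike.congr_fun (congrArg Subtype.val h0) e)
  · rintro ⟨_, x, rfl⟩ ⟨_, y, rfl⟩
    refine Subtype.ext (AddMonoidHom.ext fun z => ?_)
    change mul x (mul y z) = mul y (mul x z)
    rw [hLL, hLL, show mul x y = mul y x from R.comm x y]
  · rintro ⟨_, x, rfl⟩ hx
    have hx0 : x ≠ 0 := fun h0 => hx (Subtype.ext (by rw [h0]; exact map_zero mul))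
    obtain ⟨y, hy⟩ := (Finite.injective_iff_surjective (f := mul x)).1 (R.inj_left hx0) e
    refine ⟨⟨mul y, y, rfl⟩, Subtype.ext (AddMonoidHom.ext fun z => ?_)⟩
    change mul x (mul y z) = z
    rw [hLL, hy, h1]
  · exact ⟨mul (E' (B e)), ⟨_, rfl⟩, AddMonoidHom.ext fun z => by
      conv_lhs => rw [huniq B hB]
      exact hA _ z⟩
  · rintro _ ⟨x, rfl⟩
    exact (show A x = E.comp (mul x) from AddMonoidHom.ext (hA x)) ▸ hAM x

end Cfsg.Agent.SymDesignPG
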