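import Cfsg.Agent.SymDesignPG.Basic

/-!
# The pointwise stabilizer of a block

If the automorphism group is 2-transitive on points and some non-identity automorphism fixes a
block pointwise, then the pointwise stabilizer of a block is transitive on the points outside it
(after Itô and O'Nan; the semiregular case is excluded by counting).
-/

set_option autoImplicit false
set_option linter.style.haveILetI false

namespace Cfsg.Agent.SymDesignPG

open Finset MulAction

variable {G P L : Type*} [Group G] [MulAction G P] [MulAction G L] [Fintype P] [Fintype L]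

namespace SymDesign

/-- The pointwise stabilizer of a block. -/
def ker (D : SymDesign G P L) (B : L) : Subgroup G := fixingSubgroup G {p | D.I p B}

variable (D : SymDesign G P L)
include D

theorem mem_ker {B : L} {g : G} : g ∈ D.ker B ↔ ∀ p, D.I p B → g • p = p := by
  simp [ker, mem_fixingSubgroup_iff]

theorem ker_fix {B : L} {g : G} (hg : g ∈ D.ker B) : g • B = B :=
  (D.block_ext fun p hp => by
    have h := (D.smul_iff g p B).2 hp
    rwa [D.mem_ker.1 hg p hp] at h).symm

theorem ker_conj {B : L} {g h : G} (hh : h ∈ D.ker B) : g * h * g⁻¹ ∈ D.ker (g • B) := by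
  refine D.mem_ker.2 fun p hp => ?_
  have h1 : D.I (g⁻¹ • p) B := by
    rw [← D.smul_iff g, smul_inv_smul]
    exact hp
  rw [mul_smul, mul_smul, D.mem_ker.1 hh _ h1, smul_inv_smul]

theorem ker_conj' {B : L} {g h : G} (hh : h ∈ D.ker (g • B)) : g⁻¹ * h * g ∈ D.ker B := by
  simpa using D.ker_conj (g := g⁻¹) hh

theorem I_smul_left {B : L} {g : G} (hg : g • B = B) {p : P} : D.I (g • p) B ↔ D.I p B := by
  have h := D.smul_iff g p B
  rwa [hg] at h

/-- A block through a fixed point outside `B` is fixed by the pointwise stabilizer of `B`. -/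
theorem fix_block_of_point {B X : L} {h : G} (hh : h ∈ D.ker B) {x : P} (hx : ¬ D.I x B)
    (hX : D.I x X) (hxX : D.I (h • x) X) : h • X = X := by
  classical
  have hne : X ≠ B := fun h0 => hx (h0 ▸ hX)
  by_contra hcon
  have h1 : insert (h • x) (D.pts X ∩ D.pts B) ⊆ D.pts (h • X) ∩ D.pts X := by
    intro p hp
    rcases mem_insert.1 hp with rfl | hp
    · simp [hxX, (D.smul_iff h x X).2 hX]
    · simp only [mem_inter, mem_pts] at hp ⊢
      refine ⟨?_, hp.1⟩
      have h2 := (D.smul_iff h p X).2 hp.1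
      rwa [D.mem_ker.1 hh p hp.2] at h2
  have h3 : h • x ∉ D.pts X ∩ D.pts B := by
    simp only [mem_inter, mem_pts, not_and]
    exact fun _ h4 => hx ((D.I_smul_left (D.ker_fix hh)).1 h4)
  have h5 := card_le_card h1
  rw [card_insert_of_notMem h3, D.pts_inter_card hne, D.pts_inter_card hcon] at h5
  omega

/-- A non-identity element fixing `B` pointwise fixes at most one point outside `B`. -/
theorem fix_le_one {B : L} {h : G} (hh : h ∈ D.ker B) (h1 : h ≠ 1) {x x' : P}
    (hx : ¬ D.I x B) (hx' : ¬ D.I x' B) (hfx : h • x = x) (hfx' : h • x' = x') : x = x' := by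
  classical
  by_contra hne
  have hfb : ∀ y, ¬ D.I y B → h • y = y → ∀ X, D.I y X → h • X = X := fun y hy hfy X hX =>
    D.fix_block_of_point hh hy hX (by rwa [hfy])
  have hcom : ∀ y, ¬ D.I y B → h • y = y → ∀ p, h • p ≠ p →
      D.blks y ∩ D.blks p = D.blks p ∩ D.blks (h • p) := by
    intro y hy hfy p hp
    have hyp : y ≠ p := fun h0 => hp (h0 ▸ hfy)
    refine eq_of_subset_of_card_le (fun X hX => ?_) ?_
    · simp only [mem_inter, mem_blks] at hX ⊢
      refine ⟨hX.2, ?_⟩
      have h2 := (D.smul_iff h p X).2 hX.2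
      rwa [hfb y hy hfy X hX.1] at h2
    · rw [D.blks_inter_card hyp, D.blks_inter_card (Ne.symm hp)]
  have hsub : ∀ p, h • p ≠ p → D.blks x ∩ D.blks x' = D.blks p ∩ D.blks (h • p) := by
    intro p hp
    symm
    refine eq_of_subset_of_card_le (fun X hX => ?_) ?_
    · have h2 := hX
      rw [← hcom x hx hfx p hp] at h2
      rw [← hcom x' hx' hfx' p hp] at hX
      simp only [mem_inter] at hX h2 ⊢
      exact ⟨h2.1, hX.1⟩
    · rw [D.blks_inter_card hne, D.blks_inter_card (Ne.symm hp)]
  obtain ⟨p₀, hp₀⟩ : ∃ p, h • p ≠ p := by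
    by_contra hcon
    push Not at hcon
    exact h1 (D.faithful h hcon)
  obtain ⟨X, hX, hX'⟩ := D.exists_block hne
  have hXB : X ≠ B := fun h0 => hx (h0 ▸ hX)
  have hcov : ∀ p, ¬ D.I p B → D.I p X := by
    intro p hp
    have hXm : X ∈ D.blks x ∩ D.blks x' := by simp [hX, hX']
    by_cases hfp : h • p = p
    · rw [hsub p₀ hp₀, ← hcom p hp hfp p₀ hp₀] at hXm
      simp only [mem_inter, mem_blks] at hXm
      exact hXm.1
    · rw [hsub p hfp] at hXm
      simp only [mem_inter, mem_blks] at hXm
      exact hXm.1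
  have h2 : univ \ D.pts B ⊆ D.pts X \ D.pts B := by
    intro p hp
    simp only [mem_sdiff, mem_univ, true_and, mem_pts] at hp ⊢
    exact ⟨hcov p hp, hp⟩
  have h3 := card_le_card h2
  rw [card_univ_sdiff, D.card_pts_univ, D.pts_card, D.pts_sdiff_card hXB] at h3
  have e := D.lam_mul'
  have hl := D.lam_lt
  have hl1 := D.lam_pos
  have hk := D.k_le
  zify [show D.lam ≤ D.k by omega, show D.k ≤ D.v by omega] at h3 hl hl1 hk
  nlinarith [mul_le_mul_of_nonneg_left h3 (show (0:ℤ) ≤ D.lam by linarith),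
    mul_nonneg (show (0:ℤ) ≤ (D.k:ℤ) - D.lam - 1 by linarith) (show (0:ℤ) ≤ (D.k:ℤ) - D.lam by linarith)]

end SymDesign

/-- The transitivity hypotheses. -/
structure Axial (D : SymDesign G P L) : Prop where
  two_trans : ∀ p q p' q' : P, p ≠ q → p' ≠ q' → ∃ g : G, g • p = p' ∧ g • q = q'
  blk_trans : ∀ B B' : L, ∃ g : G, g • B = B'
  out_trans : ∀ (B : L) (x y : P), ¬ D.I x B → ¬ D.I y B → ∃ g : G, g • B = B ∧ g • x = y
  blk_trans₂ : ∀ B E E' : L, E ≠ B → E' ≠ B → ∃ g : G, g • B = B ∧ g • E = E'
  exists_axial : ∃ (B : L) (h : G), h ∈ D.ker B ∧ h ≠ 1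

namespace SymDesign

open scoped Classical in
/-- The elements of `ker B`. -/
noncomputable def kerF [Fintype G] (D : SymDesign G P L) (B : L) : Finset G :=
  univ.filter fun g => g ∈ D.ker B

variable [Fintype G] (D : SymDesign G P L)
include D

@[simp] theorem mem_kerF {B : L} {g : G} : g ∈ D.kerF B ↔ g ∈ D.ker B := by simp [kerF]

variable {α : Type*} [MulAction G α]

open scoped Classical in
/-- Orbit–stabilizer for `ker B`. -/
theorem orb_mul_stab (B : L) (x : α) :
    ((D.kerF B).image (· • x)).card * ((D.kerF B).filter (fun h => h • x = x)).card =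
      (D.kerF B).card := by
  classical
  rw [card_eq_sum_card_image (fun h => h • x) (D.kerF B), mul_comm]
  symm
  rw [sum_const_nat fun y hy => ?_, mul_comm]
  obtain ⟨g, hg, rfl⟩ := mem_image.1 hy
  refine card_bij' (fun h _ => g⁻¹ * h) (fun h _ => g * h) ?_ ?_ ?_ ?_
  · intro h hh
    simp only [mem_filter, mem_kerF] at hh hg ⊢
    exact ⟨mul_mem (inv_mem hg) hh.1, by rw [mul_smul, hh.2, inv_smul_smul]⟩
  · intro h hh
    simp only [mem_filter, mem_kerF] at hh hg ⊢
    exact ⟨mul_mem hg hh.1, by rw [mul_smul, hh.2]⟩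
  · intro h _; simp
  · intro h _; simp

open scoped Classical in
theorem orb_card_conj (B : L) (x : α) {s : G} :
    ((D.kerF (s • B)).image (· • (s • x))).card = ((D.kerF B).image (· • x)).card := by
  classical
  rw [← card_image_of_injective ((D.kerF B).image (· • x)) (MulAction.injective s)]
  congr 1
  ext y
  simp only [mem_image, mem_kerF]
  constructor
  · rintro ⟨h, hh, rfl⟩
    exact ⟨(s⁻¹ * h * s) • x, ⟨_, D.ker_conj' hh, rfl⟩, by simp [mul_smul]⟩
  · rintro ⟨_, ⟨h, hh, rfl⟩, rfl⟩
    exact ⟨s * h * s⁻¹, D.ker_conj hh, by simp [mul_smul]⟩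

theorem kerF_card_conj (B : L) (s : G) : (D.kerF (s • B)).card = (D.kerF B).card := by
  refine card_bij' (fun h _ => s⁻¹ * h * s) (fun h _ => s * h * s⁻¹) ?_ ?_ ?_ ?_
  · intro h hh
    rw [mem_kerF] at hh ⊢
    exact D.ker_conj' hh
  · intro h hh
    rw [mem_kerF] at hh ⊢
    exact D.ker_conj hh
  · intro h _; simp [mul_assoc]
  · intro h _; simp [mul_assoc]

end SymDesign

namespace Axial

set_option linter.unusedSectionVars false

variable [Fintype G] {D : SymDesign G P L} (A : Axial D)
include A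

theorem exists_ne_one (B : L) : ∃ h ∈ D.ker B, h ≠ 1 := by
  obtain ⟨B₀, h, hh, h1⟩ := A.exists_axial
  obtain ⟨g, rfl⟩ := A.blk_trans B₀ B
  exact ⟨g * h * g⁻¹, D.ker_conj hh, fun h0 => h1 (conj_eq_one_iff.1 h0)⟩

/-- The counting argument excluding a semiregular, intransitive kernel. -/
theorem semiregular_count (B : L) (x : P) (hx : ¬ D.I x B)
    (hsemi : ∀ y, ¬ D.I y B → ∀ h ∈ D.ker B, h • y = y → h = 1) :
    (D.kerF B).card = D.v - D.k := by
  classical
  have hker : ∀ B' : L, (D.kerF B').card = (D.kerF B).card := by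
    intro B'
    obtain ⟨g, rfl⟩ := A.blk_trans B B'
    exact D.kerF_card_conj B g
  have hsemi' : ∀ (B' : L) y, ¬ D.I y B' → ∀ h ∈ D.ker B', h • y = y → h = 1 := by
    intro B' y hy h hh hhy
    obtain ⟨g, rfl⟩ := A.blk_trans B B'
    refine (conj_eq_one_iff (a := g⁻¹)).1 ?_
    rw [inv_inv]
    refine hsemi (g⁻¹ • y) ?_ _ (D.ker_conj' hh) (by simp [mul_smul, hhy])
    rw [← D.smul_iff g, smul_inv_smul]
    exact hy
  obtain ⟨h₁, hh₁, hh₁1⟩ := A.exists_ne_one B
  -- blocks other than `B` all have orbits of the same size under `ker B`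
  obtain ⟨E₀, hE₀, hE₀'⟩ : ∃ E, E ≠ B ∧ D.I x E := by
    obtain ⟨E, hE⟩ := card_pos.1 (by rw [D.blks_card]; have := D.two_le_k; omega :
      0 < (D.blks x).card)
    rw [SymDesign.mem_blks] at hE
    exact ⟨E, fun h0 => hx (h0 ▸ hE), hE⟩
  set o' := ((D.kerF B).image (· • E₀)).card with ho'
  have horb : ∀ B' E : L, E ≠ B' → ((D.kerF B').image (· • E)).card = o' := by
    intro B' E hE
    obtain ⟨g, rfl⟩ := A.blk_trans B B'
    obtain ⟨s, hs, hs'⟩ := A.blk_trans₂ B E₀ (g⁻¹ • E) hE₀ (fun h0 => hE (by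
      rw [← h0, smul_inv_smul]))
    have h := D.orb_card_conj B E₀ (s := g * s)
    rw [mul_smul, mul_smul, hs, hs', smul_inv_smul] at h
    exact h
  set j := ((D.kerF B).filter (fun h => h • E₀ = E₀)).card with hj
  have hoj : o' * j = (D.kerF B).card := D.orb_mul_stab B E₀
  have hstab : ∀ X, X ≠ B → ((D.kerF B).filter (fun h => h • X = X)).card = j := by
    intro X hX
    refine Nat.eq_of_mul_eq_mul_left (show 0 < o' by
      rw [ho']; exact card_pos.2 (image_nonempty.2 ⟨1, by simp [one_mem]⟩)) ?_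
    rw [hoj, ← horb B X hX]
    exact D.orb_mul_stab B X
  have ho2 : 2 ≤ o' := by
    by_contra hcon
    refine hh₁1 (D.faithful_blks h₁ fun E => ?_)
    by_cases hE : E = B
    · rw [hE]; exact D.ker_fix hh₁
    · have hle : ((D.kerF B).image (· • E)).card ≤ 1 := by rw [horb B E hE]; omega
      exact card_le_one.1 hle _ (mem_image_of_mem _ (by simpa using hh₁)) _
        (mem_image.2 ⟨1, by simp [one_mem], one_smul _ _⟩)
  -- first count
  have hcount : D.k * j = D.k + ((D.kerF B).card - 1) * D.lam := by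
    have h := sum_card_bipartiteAbove_eq_sum_card_bipartiteBelow
      (r := fun (h : G) X => D.I (h • x) X) (s := D.kerF B) (t := D.blks x)
    have hA : ∀ h ∈ D.kerF B,
        ((D.blks x).bipartiteAbove (fun (h : G) X => D.I (h • x) X) h).card
          = if h = 1 then D.k else D.lam := by
      intro h hh
      split_ifs with h1
      · rw [← D.blks_card x]
        congr 1
        ext X
        simp [bipartiteAbove, h1]
      · have hne : x ≠ h • x := fun h0 => h1 (hsemi x hx h (by simpa using hh) h0.symm)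
        rw [← D.blks_inter_card hne]
        congr 1
        ext X
        simp [bipartiteAbove]
    have hB : ∀ X ∈ D.blks x,
        ((D.kerF B).bipartiteBelow (fun (h : G) X => D.I (h • x) X) X).card = j := by
      intro X hX
      rw [SymDesign.mem_blks] at hX
      rw [← hstab X (fun h0 => hx (h0 ▸ hX))]
      congr 1
      ext h
      simp only [bipartiteBelow, mem_filter, SymDesign.mem_kerF, and_congr_right_iff]
      intro hh
      refine ⟨D.fix_block_of_point hh hx hX, fun h0 => ?_⟩
      have h1 := (D.smul_iff h x X).2 hX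
      rwa [h0] at h1
    have h1m : (1 : G) ∈ D.kerF B := by simp [one_mem]
    rw [sum_congr rfl hA, sum_const_nat hB, D.blks_card, ← add_sum_erase _ _ h1m, if_pos rfl,
      sum_const_nat (fun g hg => if_neg (ne_of_mem_erase hg)), card_erase_of_mem h1m] at h
    linarith
  -- divisibility
  have hdvd : ∀ s : Finset L, (∀ h ∈ D.ker B, ∀ X ∈ s, h • X ∈ s) → B ∉ s → o' ∣ s.card := by
    intro s hs hBs
    refine dvd_card_of_orbits (D.ker B) s hs o' fun X hX => ?_
    rw [← horb B X (fun h0 => hBs (h0 ▸ hX)), ← Nat.card_eq_finsetCard]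
    refine Nat.card_congr (Equiv.setCongr ?_)
    ext Y
    simp only [coe_image, Set.mem_image, mem_coe, SymDesign.mem_kerF]
    exact ⟨fun ⟨u, hu⟩ => ⟨u, u.2, hu⟩, fun ⟨u, hu, hY⟩ => ⟨⟨u, hu⟩, hY⟩⟩
  obtain ⟨z, hz, w, hw, hzw⟩ := one_lt_card.1 (show 1 < (D.pts B).card by
    rw [D.pts_card]; have := D.two_le_k; omega)
  rw [SymDesign.mem_pts] at hz hw
  have hinv : ∀ (h : G), h ∈ D.ker B → ∀ (p : P) X, D.I p B → D.I p X → D.I p (h • X) := by
    intro h hh p X hp hX
    have h1 := (D.smul_iff h p X).2 hX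
    rwa [D.mem_ker.1 hh p hp] at h1
  have hne : ∀ h ∈ D.ker B, ∀ X, X ≠ B → h • X ≠ B := fun h hh X hX h0 =>
    hX (MulAction.injective h (show h • X = h • B by rw [h0, D.ker_fix hh]))
  have d1 : o' ∣ D.k - 1 := by
    have h := hdvd ((D.blks z).erase B) (fun h hh X hX => by
      simp only [mem_erase, SymDesign.mem_blks] at hX ⊢
      exact ⟨hne h hh X hX.1, hinv h hh z X hz hX.2⟩) (by simp)
    rwa [card_erase_of_mem (by simpa using hz), D.blks_card] at h
  have d2 : o' ∣ D.lam - 1 := by
    have h := hdvd ((D.blks z ∩ D.blks w).erase B) (fun h hh X hX => by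
      simp only [mem_erase, mem_inter, SymDesign.mem_blks] at hX ⊢
      exact ⟨hne h hh X hX.1, hinv h hh z X hz hX.2.1, hinv h hh w X hw hX.2.2⟩) (by simp)
    rwa [card_erase_of_mem (by simpa using And.intro hz hw), D.blks_inter_card hzw] at h
  -- the blocks moving a given point to a given other point
  let Q : P → P → Finset L := fun p q =>
    univ.filter fun X => ¬ D.I p X ∧ ∃ h ∈ D.ker X, h • p = q
  have hQc : ∀ (g : G) p q, (Q p q).image (g • ·) = Q (g • p) (g • q) := by
    intro g p q
    ext X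
    simp only [Q, mem_image, mem_filter, mem_univ, true_and]
    constructor
    · rintro ⟨Y, ⟨hpY, h, hh, hpq⟩, rfl⟩
      exact ⟨fun h0 => hpY ((D.smul_iff g p Y).1 h0), g * h * g⁻¹, D.ker_conj hh,
        by simp [mul_smul, hpq]⟩
    · rintro ⟨hpX, h, hh, hpq⟩
      refine ⟨g⁻¹ • X, ⟨fun h0 => hpX ?_, g⁻¹ * h * g, D.ker_conj' (by simpa using hh),
        by simp [mul_smul, hpq]⟩, smul_inv_smul g X⟩
      have h1 := (D.smul_iff g p _).2 h0
      rwa [smul_inv_smul] at h1
  set q₀ := h₁ • x with hq₀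
  have hxq : x ≠ q₀ := fun h0 => hh₁1 (hsemi x hx h₁ hh₁ h0.symm)
  have hQconst : ∀ p q, p ≠ q → (Q p q).card = (Q x q₀).card := by
    intro p q hpq
    obtain ⟨g, rfl, rfl⟩ := A.two_trans x q₀ p q hxq hpq
    rw [← hQc, card_image_of_injective _ (MulAction.injective g)]
  have htot : D.v * (D.v - 1) * (Q x q₀).card
      = D.v * (D.v - D.k) * ((D.kerF B).card - 1) := by
    have h := sum_card_bipartiteAbove_eq_sum_card_bipartiteBelow
      (r := fun (pq : P × P) X => X ∈ Q pq.1 pq.2) (s := (univ : Finset P).offDiag)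
      (t := (univ : Finset L))
    rw [sum_const_nat (m := (Q x q₀).card) (fun pq hpq => ?_), offDiag_card, card_univ,
      D.card_pts_univ, sum_const_nat (m := (D.v - D.k) * ((D.kerF B).card - 1)) (fun X _ => ?_),
      card_univ, D.card_blks_univ, ← mul_assoc] at h
    · rwa [Nat.mul_sub, mul_one]
    · rw [← hker X]
      rw [show D.v - D.k = (univ \ D.pts X).card by
          rw [card_univ_sdiff, D.card_pts_univ, D.pts_card],
        show (D.kerF X).card - 1 = ((D.kerF X).erase 1).card by
          rw [card_erase_of_mem (by simp [one_mem])], ← card_product]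
      symm
      refine card_bij (fun ph _ => (ph.1, ph.2 • ph.1)) ?_ ?_ ?_
      · intro ph hph
        simp only [mem_product, mem_sdiff, mem_univ, true_and, SymDesign.mem_pts, mem_erase,
          SymDesign.mem_kerF] at hph
        simp only [bipartiteBelow, Q, mem_filter, mem_offDiag, mem_univ, true_and]
        exact ⟨fun h0 => hph.2.1 (hsemi' X _ hph.1 _ hph.2.2 h0.symm), hph.1, ph.2, hph.2.2, rfl⟩
      · intro a ha b hb heq
        simp only [mem_product, mem_sdiff, mem_univ, true_and, SymDesign.mem_pts, mem_erase,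
          SymDesign.mem_kerF] at ha hb
        simp only [Prod.mk.injEq] at heq
        obtain ⟨h1, h2⟩ := heq
        refine Prod.ext h1 ?_
        rw [← h1] at h2 hb
        have h3 := hsemi' X a.1 ha.1 (b.2⁻¹ * a.2) (mul_mem (inv_mem hb.2.2) ha.2.2)
          (by rw [mul_smul, h2, inv_smul_smul])
        exact (inv_mul_eq_one.1 h3).symm
      · intro pq hpq
        simp only [bipartiteBelow, Q, mem_filter, mem_offDiag, mem_univ, true_and] at hpq
        obtain ⟨hne', hpX, h, hh, hh'⟩ := hpq
        refine ⟨(pq.1, h), ?_, by simp [hh']⟩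
        simp only [mem_product, mem_sdiff, mem_univ, true_and, SymDesign.mem_pts, mem_erase,
          SymDesign.mem_kerF]
        exact ⟨hpX, fun h0 => hne' (by rw [← hh', h0, one_smul]), hh⟩
    · rw [mem_offDiag] at hpq
      rw [← hQconst pq.1 pq.2 hpq.2.2]
      congr 1
      ext X
      simp [bipartiteAbove]
  -- closure of `Q` under the stabilizers of the blocks through both points
  have hBQ : B ∈ Q x q₀ := by
    simp only [Q, mem_filter, mem_univ, true_and]
    exact ⟨hx, h₁, hh₁, rfl⟩
  have hq₀B : ¬ D.I q₀ B := fun h0 => hx ((D.I_smul_left (D.ker_fix hh₁)).1 h0)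
  have hclo : 1 + D.lam * (o' - 1) ≤ (Q x q₀).card := by
    set S := D.blks x ∩ D.blks q₀
    have hS : ∀ X ∈ S, X ≠ B ∧ D.I x X ∧ D.I q₀ X := by
      intro X hX
      simp only [S, mem_inter, SymDesign.mem_blks] at hX
      exact ⟨fun h0 => hx (h0 ▸ hX.1), hX⟩
    have hsub : S.biUnion (fun X => ((D.kerF X).image (· • B)).erase B) ⊆ (Q x q₀).erase B := by
      intro Y hY
      simp only [mem_biUnion, mem_erase, mem_image, SymDesign.mem_kerF] at hY
      obtain ⟨X, hX, hYB, g, hg, rfl⟩ := hY
      obtain ⟨-, hxX, hqX⟩ := hS X hX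
      refine mem_erase.2 ⟨hYB, ?_⟩
      have h := mem_image_of_mem (g • ·) hBQ
      rw [hQc, D.mem_ker.1 hg x hxX, D.mem_ker.1 hg q₀ hqX] at h
      exact h
    have hdis : Set.PairwiseDisjoint ↑S (fun X => ((D.kerF X).image (· • B)).erase B) := by
      intro X hX X' hX' hXX'
      rw [Function.onFun, disjoint_left]
      intro Y hY hY'
      simp only [mem_erase, mem_image, SymDesign.mem_kerF] at hY hY'
      obtain ⟨hYB, g, hg, hgY⟩ := hY
      obtain ⟨-, g', hg', hgY'⟩ := hY'
      obtain ⟨hXB, hxX, hqX⟩ := hS X hX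
      obtain ⟨hX'B, hxX', hqX'⟩ := hS X' hX'
      have hsame : ∀ {X : L} {g : G}, g ∈ D.ker X → g • B = Y → X ≠ B →
          D.pts B ∩ D.pts X = D.pts B ∩ D.pts Y := by
        intro X g hg hgY hXB
        refine eq_of_subset_of_card_le (fun p hp => ?_) ?_
        · simp only [mem_inter, SymDesign.mem_pts] at hp ⊢
          refine ⟨hp.1, ?_⟩
          have h1 := (D.smul_iff g p B).2 hp.1
          rwa [D.mem_ker.1 hg p hp.2, hgY] at h1
        · rw [D.pts_inter_card hYB.symm, D.pts_inter_card hXB.symm]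
      have h1 := (hsame hg hgY hXB).trans (hsame hg' hgY' hX'B).symm
      have h2 : insert x (D.pts B ∩ D.pts X) ⊆ D.pts X ∩ D.pts X' := by
        intro p hp
        rcases mem_insert.1 hp with rfl | hp
        · simp [hxX, hxX']
        · exact mem_inter.2 ⟨(mem_inter.1 hp).2, (mem_inter.1 (h1 ▸ hp)).2⟩
      have h3 := card_le_card h2
      rw [card_insert_of_notMem (by simp [hx]), D.pts_inter_card hXB.symm,
        D.pts_inter_card hXX'] at h3
      omega
    have h := card_le_card hsub
    rw [card_biUnion hdis, sum_const_nat (m := o' - 1) (fun X hX => ?_),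
      D.blks_inter_card hxq, card_erase_of_mem hBQ] at h
    · have := card_pos.2 ⟨B, hBQ⟩
      omega
    · rw [card_erase_of_mem (s := (D.kerF X).image (· • B)) (a := B)
        (mem_image.2 ⟨1, by simp [one_mem], one_smul G B⟩),
        horb X B (hS X hX).1.symm]
  -- arithmetic
  have e := D.lam_mul'
  have hk2 := D.two_le_k
  have hkv := D.k_le
  have hl := D.lam_lt
  have hl1 := D.lam_pos
  have hkpos : 1 ≤ (D.kerF B).card := card_pos.2 ⟨1, by simp [one_mem]⟩
  set o := (D.kerF B).card
  set c := (Q x q₀).card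
  zify [show 1 ≤ o' by omega, show 1 ≤ D.v by omega, show 1 ≤ D.k by omega, hkpos,
    show D.k ≤ D.v by omega] at hcount htot hclo hoj ho2 hk2 hkv hl hl1 ⊢
  rw [← Int.natCast_dvd_natCast, Nat.cast_sub (by omega), Nat.cast_one] at d1 d2
  set a : ℤ := (D.k : ℤ) - o' * D.lam with ha
  -- `j a = k - λ`
  have hja : (j : ℤ) * a = D.k - D.lam := by
    rw [ha]; rw [← hoj] at hcount; linear_combination hcount
  have ha1 : (o' : ℤ) ∣ a - 1 := by
    rw [ha, show (D.k : ℤ) - o' * D.lam - 1 = (D.k - 1) - o' * D.lam by ring]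
    exact dvd_sub d1 (dvd_mul_right _ _)
  have hjn : (j : ℤ) ≥ 1 := by nlinarith
  have ha0 : 0 < a := by nlinarith
  have hja1 : ((j : ℤ) - 1) * a = ((o' : ℤ) - 1) * D.lam := by rw [ha] at hja ⊢; linarith
  have hoj' : (o' : ℤ) ∣ j := by
    have h : (o' : ℤ) ∣ (j : ℤ) * a := by
      rw [hja, show (D.k : ℤ) - D.lam = (D.k - 1) - (D.lam - 1) by ring]
      exact dvd_sub d1 d2
    have h2 : (j : ℤ) = j * a - j * (a - 1) := by ring
    rw [h2]
    exact dvd_sub h (dvd_mul_of_dvd_right ha1 _)
  have hv0 : (D.v : ℤ) ≠ 0 := by omega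
  have htot' : ((D.v : ℤ) - 1) * c = ((D.v : ℤ) - D.k) * ((o : ℤ) - 1) :=
    mul_left_cancel₀ hv0 (by linarith [htot])
  have hvk : (D.lam : ℤ) * ((D.v : ℤ) - D.k) = ((D.k : ℤ) - D.lam) * ((D.k : ℤ) - 1) := by
    linear_combination e
  have hck : (c : ℤ) * D.k = ((o : ℤ) - 1) * (j * a) := by
    rw [hja]
    refine mul_left_cancel₀ (show (D.k : ℤ) - 1 ≠ 0 by omega) ?_
    linear_combination (D.lam : ℤ) * htot' - (c : ℤ) * e + ((o : ℤ) - 1) * hvk
  have hc : (c : ℤ) = j * (o' - 1) := by
    refine mul_right_cancel₀ (show (D.k : ℤ) ≠ 0 by omega) ?_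
    rw [hck, ← hoj]
    have hk : (D.k : ℤ) = a + o' * D.lam := by rw [ha]; ring
    rw [hk]
    linear_combination (j : ℤ) * (o' : ℤ) * hja1
  have haeq : a = 1 := by
    have h1 : (D.lam : ℤ) * (o' - 1) < j * (o' - 1) := by linarith
    have h2 : (D.lam : ℤ) < j := lt_of_mul_lt_mul_right h1 (by linarith)
    have h3 : ((j : ℤ) - 1) * a ≤ ((j : ℤ) - 1) * (o' - 1) := by
      rw [hja1]; nlinarith
    have h4 : a ≤ o' - 1 := le_of_mul_le_mul_left h3 (by linarith)
    by_contra hcon
    have := Int.le_of_dvd (by omega) ha1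
    omega
  rw [haeq] at ha
  rw [haeq, mul_one] at hja
  refine mul_left_cancel₀ (show (D.lam : ℤ) ≠ 0 by omega) ?_
  rw [hvk, ← hja, ← hoj]
  linear_combination (j : ℤ) * ha

/-- **The pointwise stabilizer of a block is transitive outside it.** -/
theorem ker_transitive (B : L) (x y : P) (hx : ¬ D.I x B) (hy : ¬ D.I y B) :
    ∃ g ∈ D.ker B, g • x = y := by
  classical
  set C := univ \ D.pts B with hC
  have hxC : x ∈ C := by simp [hC, hx]
  have hyC : y ∈ C := by simp [hC, hy]
  set O := (D.kerF B).image (· • x) with hO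
  have hOC : O ⊆ C := by
    intro p hp
    simp only [hO, mem_image, SymDesign.mem_kerF] at hp
    obtain ⟨g, hg, rfl⟩ := hp
    simp [hC, D.I_smul_left (D.ker_fix hg), hx]
  have hCcard : C.card = D.v - D.k := by
    rw [hC, card_univ_sdiff, D.card_pts_univ, D.pts_card]
  suffices hge : C.card ≤ O.card by
    have h := eq_of_subset_of_card_le hOC hge
    rw [← h] at hyC
    simp only [hO, mem_image, SymDesign.mem_kerF] at hyC
    exact hyC
  by_cases hsemi : ∀ p, ¬ D.I p B → ∀ h ∈ D.ker B, h • p = p → h = 1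
  · have h := D.orb_mul_stab B x
    rw [show ((D.kerF B).filter (fun h => h • x = x)) = {1} from ?_, card_singleton, mul_one,
      A.semiregular_count B x hx hsemi, ← hCcard] at h
    · exact h.ge
    · ext h
      simp only [mem_filter, SymDesign.mem_kerF, mem_singleton]
      exact ⟨fun hh => hsemi x hx h hh.1 hh.2, fun hh => by simp [hh, one_mem]⟩
  · push Not at hsemi
    obtain ⟨p, hp, h, hh, hhp, hh1⟩ := hsemi
    by_contra hlt
    push Not at hlt
    set a := ((D.kerF B).filter (fun h => h • x = x)).card with ha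
    have hoa : O.card * a = (D.kerF B).card := D.orb_mul_stab B x
    have hsame : ∀ q, ¬ D.I q B → ((D.kerF B).image (· • q)).card = O.card := by
      intro q hq
      obtain ⟨s, hs, rfl⟩ := A.out_trans B x q hx hq
      have h := D.orb_card_conj B x (s := s)
      rwa [hs] at h
    have hOpos : 0 < O.card := card_pos.2 (image_nonempty.2 ⟨1, by simp [one_mem]⟩)
    have hstab : ∀ q, ¬ D.I q B → ((D.kerF B).filter (fun h => h • q = q)).card = a := by
      intro q hq
      refine Nat.eq_of_mul_eq_mul_left hOpos ?_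
      rw [hoa, ← hsame q hq]
      exact D.orb_mul_stab B q
    have ha2 : 2 ≤ a := by
      rw [← hstab p hp]
      refine one_lt_card.2 ⟨1, by simp [one_mem], h, by simp [hh, hhp], hh1.symm⟩
    have h2 : C.sum (fun q => ((D.kerF B).filter (fun h => h • q = q)).card - 1)
        ≤ ((D.kerF B).erase 1).card := by
      rw [sum_congr rfl (fun q hq => (card_erase_of_mem (s :=
        (D.kerF B).filter (fun h => h • q = q)) (a := (1 : G)) (by simp [one_mem])).symm),
        ← card_biUnion ?_]
      · refine card_le_card fun g hg => ?_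
        simp only [mem_biUnion, mem_erase, mem_filter] at hg ⊢
        obtain ⟨q, -, hg1, hgk, -⟩ := hg
        exact ⟨hg1, hgk⟩
      · intro q hq q' hq' hne
        rw [Function.onFun, disjoint_left]
        intro g hg hg'
        simp only [mem_erase, mem_filter, SymDesign.mem_kerF] at hg hg'
        have hqB : ¬ D.I q B := by simpa [hC] using hq
        have hqB' : ¬ D.I q' B := by simpa [hC] using hq'
        exact hne (D.fix_le_one hg.2.1 hg.1 hqB hqB' hg.2.2 hg'.2.2)
    rw [sum_const_nat (m := a - 1) (fun q hq => ?_), card_erase_of_mem (by simp [one_mem]),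
      ← hoa] at h2
    · have h3 : 2 * O.card ≤ C.card := by
        obtain ⟨q, hqC, hqO⟩ := not_subset.1 (fun h => hlt.not_ge (card_le_card h) : ¬ C ⊆ O)
        have hd : Disjoint O ((D.kerF B).image (· • q)) := by
          rw [disjoint_left]
          intro r hr hr'
          simp only [hO, mem_image, SymDesign.mem_kerF] at hr hr'
          obtain ⟨g, hg, rfl⟩ := hr
          obtain ⟨g', hg', he⟩ := hr'
          apply hqO
          simp only [hO, mem_image, SymDesign.mem_kerF]
          exact ⟨g'⁻¹ * g, mul_mem (inv_mem hg') hg, by rw [mul_smul, ← he, inv_smul_smul]⟩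
        have hsub : O ∪ (D.kerF B).image (· • q) ⊆ C := by
          refine union_subset hOC fun r hr => ?_
          simp only [mem_image, SymDesign.mem_kerF] at hr
          obtain ⟨g, hg, rfl⟩ := hr
          have hqB : ¬ D.I q B := by simpa [hC] using hqC
          simp [hC, D.I_smul_left (D.ker_fix hg), hqB]
        have h := card_le_card hsub
        rw [card_union_of_disjoint hd, hsame q (by simpa [hC] using hqC)] at h
        omega
      have hpos : 0 < O.card * a := Nat.mul_pos hOpos (by omega)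
      zify [show 1 ≤ a by omega, show 1 ≤ O.card * a by omega] at h2 h3 ha2 hOpos
      nlinarith
    · rw [hstab q (by simpa [hC] using hq)]

/-- The main consequence: for any two blocks and any point, some block through the point contains
the intersection of the two blocks. -/
theorem exists_meet (B E : L) (hne : E ≠ B) (x : P) :
    ∃ X, D.I x X ∧ ∀ p, D.I p B → D.I p E → D.I p X := by
  by_cases hx : D.I x B
  · exact ⟨B, hx, fun p hp _ => hp⟩
  obtain ⟨y, hy, hy'⟩ := D.exists_pt_not hne
  obtain ⟨g, hg, rfl⟩ := A.ker_transitive B y x hy' hx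
  refine ⟨g • E, (D.smul_iff g y E).2 hy, fun p hp hpE => ?_⟩
  have h := (D.smul_iff g p E).2 hpE
  rwa [D.mem_ker.1 hg p hp] at h

end Axial

end Cfsg.Agent.SymDesignPG
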