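import Cfsg.Agent.SymDesignPG.Coord
import Cfsg.Agent.Linear.Perfect

/-!
# Recognition of `PSL`

In a projective space with transitive point kernels the points are those of a projective space over a
field and the elations generate a normal subgroup isomorphic to `PSL`, with trivial centralizer.
-/

set_option autoImplicit false
set_option linter.style.haveILetI false
set_option linter.unusedVariables false

namespace Cfsg.Agent.SymDesignPG

open Finset MulAction Matrix
open scoped LinearAlgebra.Projectivization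

variable {G P L : Type*} [Group G] [MulAction G P] [MulAction G L] [Fintype P] [Fintype L]
  [Fintype G] {D : SymDesign G P L}

/-- Coordinates: a bijection from the points of a projective space carrying lines to lines. -/
structure Coords (S : Homog D) (F : Type) [Field F] [Fintype F] (n : ℕ) where
  /-- the point of a vector -/
  f : (Fin n → F) → P
  card_eq : Fintype.card F = D.q
  smul : ∀ (α : F) v, α ≠ 0 → v ≠ 0 → f (α • v) = f v
  eq_iff : ∀ v w, v ≠ 0 → w ≠ 0 → f v = f w → ∃ α : F, α • w = v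
  surj : ∀ p, ∃ v, v ≠ 0 ∧ f v = p
  add : ∀ u v, u ≠ 0 → v ≠ 0 → f u ≠ f v → u + v ≠ 0 → f (u + v) ∈ D.line (f u) (f v)

section Build

variable {S : Homog D} {z : L} {O : P}

/-- The centre of a translation. -/
noncomputable def cen (t : Tr S z) : P := (Tr.exists_dir t).choose

theorem cen_I (t : Tr S z) : D.I (cen t) z := (Tr.exists_dir t).choose_spec.1

theorem cen_mem (t : Tr S z) : t ∈ Tr.dir S z (cen t) := (Tr.exists_dir t).choose_spec.2

theorem cen_eq {c : P} {t : Tr S z} (hc : D.I c z) (ht : t ∈ Tr.dir S z c) (ht0 : t ≠ 0) :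
    cen t = c := Tr.dir_unique (cen_I t) (cen_mem t) ht ht0

theorem pt_add_mem_line (hO : ¬ D.I O z) {d r : Tr S z} (hd : d ≠ 0) :
    (d + r).pt O ∈ D.line (r.pt O) (cen d) := by
  have hne : r.pt O ≠ (d + r).pt O := fun h => hd (by simpa using Tr.pt_inj hO h)
  have hrc : r.pt O ≠ cen d := fun h => Tr.pt_not_I hO r (h ▸ cen_I d)
  rw [D.line_eq hne (D.left_mem_line _ _)
    (Tr.centre_mem_line hO (cen_I d) (cen_mem d) hd) hrc]
  exact D.right_mem_line _ _

theorem cen_add_mem_line (hO : ¬ D.I O z) {s t : Tr S z} (hs : s ≠ 0) (ht : t ≠ 0)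
    (hst : s + t ≠ 0) : cen (s + t) ∈ D.line (cen s) (cen t) := by
  refine D.mem_line.2 fun w h1 h2 => ?_
  by_cases hw : w = z
  · rw [hw]
    exact cen_I _
  refine S.fixed_axis (cen_mem (s + t)) (cen_I _) (fun e => hst (Tr.val_inj e)) ?_ hw
  rw [Tr.val_add, mul_smul, D.mem_star.1 (Tr.mem_dir.1 (cen_mem t)).1 w h2,
    D.mem_star.1 (Tr.mem_dir.1 (cen_mem s)).1 w h1]

theorem exists_coords (S : Homog D) :
    ∃ (m : ℕ) (F : Type) (_ : Field F) (_ : Fintype F),
      2 ≤ m ∧ Nonempty (Coords S F (m + 1)) := by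
  classical
  obtain ⟨z⟩ : Nonempty L := Fintype.card_pos_iff.1 (by
    rw [D.card_blks_univ]; have := D.k_le; omega)
  obtain ⟨O, hO⟩ : ∃ O, ¬ D.I O z := by
    by_contra hcon
    push Not at hcon
    have h := card_le_card (fun p _ => D.mem_pts.2 (hcon p) : (univ : Finset P) ⊆ D.pts z)
    rw [card_univ, D.card_pts_univ, D.pts_card] at h
    have := D.k_le
    omega
  obtain ⟨m, F, _, _, e, hm, hq, he⟩ := exists_coord (S := S) hO
  have hsm : ∀ (α : F) (x : Fin m → F), α ≠ 0 → x ≠ 0 → cen (e (α • x)) = cen (e x) := by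
    intro α x hα hx
    obtain ⟨c, hc, h1, h2⟩ := (he x hx (α • x)).2 ⟨α, rfl⟩
    rw [cen_eq hc h2 fun h => smul_ne_zero hα hx ((map_eq_zero_iff e e.injective).1 h),
      cen_eq hc h1 fun h => hx ((map_eq_zero_iff e e.injective).1 h)]
  let lst : (Fin (m + 1) → F) → F := fun v => v (Fin.last m)
  let f : (Fin (m + 1) → F) → P := fun v =>
    if lst v = 0 then cen (e (Fin.init v)) else (e ((lst v)⁻¹ • Fin.init v)).pt O
  have hinit0 : ∀ v, v ≠ 0 → lst v = 0 → Fin.init v ≠ 0 := by
    intro v hv h0 h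
    refine hv (funext (Fin.lastCases h0 fun i => ?_))
    exact congrFun h i
  have hinit_add : ∀ u v : Fin (m + 1) → F, Fin.init (u + v) = Fin.init u + Fin.init v :=
    fun u v => rfl
  have hinit_smul : ∀ (α : F) (v : Fin (m + 1) → F), Fin.init (α • v) = α • Fin.init v :=
    fun u v => rfl
  have hlst_add : ∀ u v, lst (u + v) = lst u + lst v := fun u v => rfl
  have hlst_smul : ∀ α v, lst (α • v) = α * lst v := fun u v => rfl
  have hext : ∀ u v, Fin.init u = Fin.init v → lst u = lst v → u = v := fun u v h1 h2 =>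
    funext (Fin.lastCases h2 fun i => congrFun h1 i)
  refine ⟨m, F, inferInstance, inferInstance, hm,
    ⟨{ f := f, card_eq := hq, smul := ?_, eq_iff := ?_, surj := ?_, add := ?_ }⟩⟩
  · intro α v hα hv
    simp only [f, hlst_smul, hinit_smul, mul_eq_zero, hα, false_or]
    split_ifs with h
    · exact hsm α _ hα (hinit0 v hv h)
    · rw [smul_smul, _root_.mul_inv_rev, mul_assoc, inv_mul_cancel₀ hα, mul_one]
  · intro v w hv hw hvw
    simp only [f] at hvw
    split_ifs at hvw with h1 h2 h2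
    · have hw' := hinit0 w hw h2
      obtain ⟨α, hα⟩ := (he _ hw' (Fin.init v)).1
        ⟨cen (e (Fin.init w)), cen_I _, cen_mem _, hvw ▸ cen_mem _⟩
      refine ⟨α, hext _ _ (by rw [hinit_smul, hα]) ?_⟩
      rw [hlst_smul, h2, h1, mul_zero]
    · exact absurd (hvw ▸ cen_I (e (Fin.init v))) (Tr.pt_not_I hO _)
    · exact absurd (hvw.symm ▸ cen_I (e (Fin.init w))) (Tr.pt_not_I hO _)
    · have h := e.injective (Tr.pt_inj hO hvw)
      refine ⟨lst v * (lst w)⁻¹, hext _ _ ?_ ?_⟩
      · rw [hinit_smul, mul_smul, ← h, smul_inv_smul₀ h1]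
      · rw [hlst_smul, mul_assoc, inv_mul_cancel₀ h2, mul_one]
  · intro p
    by_cases hp : D.I p z
    · have hpO : p ≠ O := fun h => hO (h ▸ hp)
      obtain ⟨y, hy, hyO⟩ : ∃ y ∈ (D.line p O).erase p, y ≠ O := by
        refine exists_mem_ne ?_ O
        rw [card_erase_of_mem (D.left_mem_line p O), S.q_spec hpO]
        have := S.two_le_q
        omega
      obtain ⟨t, ht, hty⟩ := Tr.exists_mem_dir (S := S) hO hp (mem_of_mem_erase hy)
        (ne_of_mem_erase hy)
      have ht0 : t ≠ 0 := fun h => hyO (by rw [← hty, h, Tr.pt_zero])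
      refine ⟨Fin.snoc (e.symm t) 0, fun h => ht0 ?_, ?_⟩
      · have : e.symm t = 0 := by
          rw [← Fin.init_snoc (α := fun _ => F) (0 : F) (e.symm t), h]
          rfl
        simpa using congrArg e this
      · simp only [f, lst, Fin.snoc_last, if_true, Fin.init_snoc, AddEquiv.apply_symm_apply]
        exact cen_eq hp ht ht0
    · obtain ⟨t, rfl⟩ := Tr.pt_surj (S := S) hO hp
      refine ⟨Fin.snoc (e.symm t) 1, fun h => one_ne_zero (α := F) ?_, ?_⟩
      · simpa [lst] using congrArg lst h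
      · simp [f, lst]
  · -- collinearity
    have hone : ∀ u v, u ≠ 0 → v ≠ 0 → lst u ≠ 0 → lst v = 0 →
        f (u + v) ∈ D.line (f u) (f v) := by
      intro u v hu hv ha hb
      have hv' := hinit0 v hv hb
      simp only [f, hlst_add, hb, add_zero, if_neg ha, if_true, hinit_add, smul_add, map_add]
      rw [add_comm (e ((lst u)⁻¹ • Fin.init u)), ← hsm (lst u)⁻¹ _ (inv_ne_zero ha) hv']
      exact pt_add_mem_line hO fun h =>
        smul_ne_zero (inv_ne_zero ha) hv' ((map_eq_zero_iff e e.injective).1 h)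
    intro u v hu hv huv huv0
    by_cases ha : lst u = 0
    · by_cases hb : lst v = 0
      · simp only [f, hlst_add, ha, hb, add_zero, if_true, hinit_add, map_add]
        refine cen_add_mem_line hO (fun h => hinit0 u hu ha ((map_eq_zero_iff e e.injective).1 h))
          (fun h => hinit0 v hv hb ((map_eq_zero_iff e e.injective).1 h)) ?_
        rw [← map_add, ← hinit_add]
        exact fun h => hinit0 _ huv0 (by rw [hlst_add, ha, hb, add_zero])
          ((map_eq_zero_iff e e.injective).1 h)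
      · rw [add_comm u v, D.line_comm]
        exact hone v u hv hu hb ha
    by_cases hb : lst v = 0
    · exact hone u v hu hv ha hb
    set α := lst u with hα
    set β := lst v with hβ
    set x := α⁻¹ • Fin.init u with hx
    set y := β⁻¹ • Fin.init v with hy
    have hfu : f u = (e x).pt O := by simp [f, ← hα, ha, hx]
    have hfv : f v = (e y).pt O := by simp [f, ← hβ, hb, hy]
    have hxy : x - y ≠ 0 := fun h => huv (by rw [hfu, hfv, sub_eq_zero.1 h])
    have hu' : Fin.init u = α • x := by rw [hx, smul_inv_smul₀ ha]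
    have hv' : Fin.init v = β • y := by rw [hy, smul_inv_smul₀ hb]
    have hd : e x - e y ≠ 0 := by
      rw [← map_sub]
      exact fun h => hxy ((map_eq_zero_iff e e.injective).1 h)
    have hYX : (e y).pt O ≠ (e x).pt O := fun h => hd (by rw [Tr.pt_inj hO h, sub_self])
    have hc : cen (e (x - y)) ∈ D.line ((e y).pt O) ((e x).pt O) := by
      have := Tr.centre_mem_line hO (r := e y) (cen_I (e (x - y))) (cen_mem _)
        (by rw [map_sub]; exact hd)
      rwa [map_sub, sub_add_cancel, ← map_sub] at this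
    rw [D.line_comm, hfu, hfv]
    by_cases hs : α + β = 0
    · have hw : Fin.init (u + v) = α • (x - y) := by
        rw [hinit_add, hu', hv', eq_neg_of_add_eq_zero_right hs, neg_smul, smul_sub, ← sub_eq_add_neg]
      simp only [f, hlst_add, ← hα, ← hβ, hs, if_true, hw]
      rw [hsm α _ ha hxy]
      exact hc
    · have hw : (α + β)⁻¹ • Fin.init (u + v) = ((α + β)⁻¹ * α) • (x - y) + y := by
        rw [hinit_add, hu', hv', eq_comm, eq_inv_smul_iff₀ hs, smul_add, smul_smul,
          ← mul_assoc, mul_inv_cancel₀ hs, one_mul, smul_sub, add_smul]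
        abel
      simp only [f, hlst_add, ← hα, ← hβ, hs, if_false, hw, map_add]
      have hγ : (α + β)⁻¹ * α ≠ 0 := mul_ne_zero (inv_ne_zero hs) ha
      have hl := pt_add_mem_line hO (S := S) (d := e (((α + β)⁻¹ * α) • (x - y))) (r := e y)
        fun h => smul_ne_zero hγ hxy ((map_eq_zero_iff e e.injective).1 h)
      rw [hsm _ _ hγ hxy, D.line_eq hYX (D.left_mem_line _ _) hc
        (fun h => Tr.pt_not_I hO _ (h ▸ cen_I _))] at hl
      exact hl

end Build

namespace Coords

set_option linter.unusedSectionVars false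

variable {S : Homog D} {F : Type} [Field F] [Fintype F] {n : ℕ} (C : Coords S F n)
include C

theorem mem_line_comb {u v : Fin n → F} (hu : u ≠ 0) (hv : v ≠ 0) (hne : C.f u ≠ C.f v) (a b : F)
    (h0 : a • u + b • v ≠ 0) : C.f (a • u + b • v) ∈ D.line (C.f u) (C.f v) := by
  by_cases ha : a = 0
  · subst ha
    rw [zero_smul, zero_add] at h0 ⊢
    rw [C.smul b v (fun h => h0 (by rw [h, zero_smul])) hv]
    exact D.right_mem_line _ _
  by_cases hb : b = 0
  · subst hb
    rw [zero_smul, add_zero] at h0 ⊢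
    rw [C.smul a u ha hu]
    exact D.left_mem_line _ _
  have h1 : C.f (a • u) ≠ C.f (b • v) := by rwa [C.smul a u ha hu, C.smul b v hb hv]
  have h := C.add _ _ (smul_ne_zero ha hu) (smul_ne_zero hb hv) h1 h0
  rwa [C.smul a u ha hu, C.smul b v hb hv] at h

theorem comb_ne_zero {u v : Fin n → F} (hu : u ≠ 0) (hv : v ≠ 0) (hne : C.f u ≠ C.f v) {a b : F}
    (hab : a ≠ 0 ∨ b ≠ 0) : a • u + b • v ≠ 0 := by
  intro h0
  by_cases ha : a = 0
  · rw [ha, zero_smul, zero_add, smul_eq_zero] at h0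
    exact h0.elim (hab.resolve_left fun h => h ha) hv
  refine hne ?_
  have h1 : u = (-(a⁻¹ * b)) • v := by
    rw [neg_smul, mul_smul, ← smul_neg, eq_inv_smul_iff₀ ha]
    exact eq_neg_of_add_eq_zero_left h0
  have hc : -(a⁻¹ * b) ≠ 0 := fun h => hu (by rw [h1, h, zero_smul])
  rw [h1, C.smul _ v hc hv]

theorem of_mem_line {u v : Fin n → F} (hu : u ≠ 0) (hv : v ≠ 0) (hne : C.f u ≠ C.f v) {p : P}
    (hp : p ∈ D.line (C.f u) (C.f v)) :
    ∃ a b : F, (a ≠ 0 ∨ b ≠ 0) ∧ C.f (a • u + b • v) = p := by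
  classical
  let T : Finset P := insert (C.f u) (univ.image fun b : F => C.f (v + b • u))
  have h0 : ∀ b : F, v + b • u ≠ 0 := fun b => by
    have := C.comb_ne_zero hu hv hne (a := b) (b := 1) (Or.inr one_ne_zero)
    rwa [one_smul, add_comm] at this
  have hsub : T ⊆ D.line (C.f u) (C.f v) := by
    intro x hx
    rcases mem_insert.1 hx with rfl | hx
    · exact D.left_mem_line _ _
    · obtain ⟨b, -, rfl⟩ := mem_image.1 hx
      have := C.mem_line_comb hu hv hne b 1 (by rw [one_smul, add_comm]; exact h0 b)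
      rwa [one_smul, add_comm] at this
  have hcard : T.card = D.q + 1 := by
    rw [card_insert_of_notMem, card_image_of_injective, card_univ, C.card_eq]
    · intro b b' h
      obtain ⟨α, hα⟩ := C.eq_iff _ _ (h0 b) (h0 b') h
      by_contra hne'
      by_cases h1 : α = 1
      · rw [h1, one_smul, add_right_inj] at hα
        exact hne' (smul_left_injective F hu hα).symm
      refine C.comb_ne_zero hu hv hne (a := α * b' - b) (b := α - 1)
        (Or.inr (sub_ne_zero.2 h1)) ?_
      rw [← sub_eq_zero] at hα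
      rw [← hα, sub_smul, sub_smul, one_smul, mul_smul, smul_add]
      abel
    · simp only [mem_image, mem_univ, true_and, not_exists]
      intro b h
      obtain ⟨α, hα⟩ := C.eq_iff _ _ (h0 b) hu h
      refine C.comb_ne_zero hu hv hne (a := b - α) (b := 1) (Or.inr one_ne_zero) ?_
      rw [sub_smul, one_smul, hα]
      abel
  rw [← eq_of_subset_of_card_le hsub (by rw [hcard, S.q_spec hne])] at hp
  rcases mem_insert.1 hp with rfl | hp
  · exact ⟨1, 0, Or.inl one_ne_zero, by rw [one_smul, zero_smul, add_zero]⟩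
  · obtain ⟨b, -, rfl⟩ := mem_image.1 hp
    exact ⟨b, 1, Or.inr one_ne_zero, by rw [one_smul, add_comm]⟩

theorem exists_form (w : L) :
    ∃ φ : (Fin n → F) →ₗ[F] F, (∃ v, φ v ≠ 0) ∧ ∀ v, v ≠ 0 → (D.I (C.f v) w ↔ φ v = 0) := by
  classical
  let Z : Submodule F (Fin n → F) :=
    { carrier := {v | v = 0 ∨ D.I (C.f v) w}
      zero_mem' := Or.inl rfl
      add_mem' := by
        rintro u v hu hv
        by_cases hu0 : u = 0
        · rw [hu0, zero_add]; exact hv
        by_cases hv0 : v = 0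
        · rw [hv0, add_zero]; exact hu
        by_cases h0 : u + v = 0
        · exact Or.inl h0
        right
        by_cases hne : C.f u = C.f v
        · obtain ⟨α, rfl⟩ := C.eq_iff u v hu0 hv0 hne
          have e : α • v + v = (α + 1) • v := by rw [add_smul, one_smul]
          rw [e] at h0 ⊢
          rw [C.smul _ v (fun h => h0 (by rw [h, zero_smul])) hv0]
          exact hv.resolve_left hv0
        · exact D.mem_line.1 (C.add u v hu0 hv0 hne h0) w (hu.resolve_left hu0)
            (hv.resolve_left hv0)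
      smul_mem' := by
        rintro a v hv
        by_cases ha : a = 0
        · exact Or.inl (by rw [ha, zero_smul])
        by_cases hv0 : v = 0
        · exact Or.inl (by rw [hv0, smul_zero])
        exact Or.inr (by rw [C.smul a v ha hv0]; exact hv.resolve_left hv0) }
  have hZ : ∀ v, v ≠ 0 → (D.I (C.f v) w ↔ v ∈ Z) := fun v hv =>
    ⟨Or.inr, fun h => Or.resolve_left h hv⟩
  obtain ⟨v₀, hv₀, hv₀w⟩ : ∃ v, v ≠ 0 ∧ ¬ D.I (C.f v) w := by
    obtain ⟨p, hp⟩ : ∃ p, ¬ D.I p w := by
      by_contra hcon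
      push Not at hcon
      have h := card_le_card (fun p _ => D.mem_pts.2 (hcon p) : (univ : Finset P) ⊆ D.pts w)
      rw [card_univ, D.card_pts_univ, D.pts_card] at h
      have := D.k_le
      omega
    obtain ⟨v, hv, rfl⟩ := C.surj p
    exact ⟨v, hv, hp⟩
  have hv₀Z : v₀ ∉ Z := fun h => hv₀w ((hZ v₀ hv₀).2 h)
  have hex : ∀ x, ∃ β : F, x - β • v₀ ∈ Z := by
    intro x
    by_cases hx : x ∈ Z
    · exact ⟨0, by rwa [zero_smul, sub_zero]⟩
    have hx0 : x ≠ 0 := fun h => hx (h ▸ Z.zero_mem)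
    by_cases hne : C.f x = C.f v₀
    · obtain ⟨α, rfl⟩ := C.eq_iff x v₀ hx0 hv₀ hne
      exact ⟨α, by rw [sub_self]; exact Z.zero_mem⟩
    obtain ⟨p, hp, hpl⟩ := S.meet _ _ hne w
    obtain ⟨a, b, hab, rfl⟩ := C.of_mem_line hx0 hv₀ hne hpl
    have h1 := (hZ _ (C.comb_ne_zero hx0 hv₀ hne hab)).1 hp
    by_cases ha : a = 0
    · exfalso
      rw [ha, zero_smul, zero_add] at h1
      have hb : b ≠ 0 := hab.resolve_left fun h => h ha
      exact hv₀Z (by simpa [smul_smul, inv_mul_cancel₀ hb] using Z.smul_mem b⁻¹ h1)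
    · refine ⟨-(a⁻¹ * b), ?_⟩
      have := Z.smul_mem a⁻¹ h1
      rwa [smul_add, smul_smul, smul_smul, inv_mul_cancel₀ ha, one_smul, ← sub_neg_eq_add,
        ← neg_smul] at this
  have huniq : ∀ (x : Fin n → F) (β β' : F), x - β • v₀ ∈ Z → x - β' • v₀ ∈ Z → β = β' := by
    intro x β β' h h'
    by_contra hne
    have := Z.sub_mem h' h
    rw [sub_sub_sub_cancel_left, ← sub_smul] at this
    refine hv₀Z ?_
    simpa [smul_smul, inv_mul_cancel₀ (sub_ne_zero.2 hne)] using Z.smul_mem (β - β')⁻¹ this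
  choose φ hφ using hex
  refine ⟨{ toFun := φ, map_add' := fun x y => ?_, map_smul' := fun a x => ?_ },
    ⟨v₀, fun h => hv₀Z ?_⟩, fun v hv => ⟨fun h => ?_, fun h => ?_⟩⟩
  · refine huniq _ _ _ (hφ _) ?_
    rw [add_smul, add_sub_add_comm]
    exact Z.add_mem (hφ x) (hφ y)
  · refine huniq _ _ _ (hφ _) ?_
    rw [RingHom.id_apply, smul_eq_mul, mul_smul, ← smul_sub]
    exact Z.smul_mem a (hφ x)
  · have := hφ v₀
    rwa [show φ v₀ = 0 from h, zero_smul, sub_zero] at this
  · refine huniq v (φ v) 0 (hφ v) ?_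
    rw [zero_smul, sub_zero]
    exact (hZ v hv).1 h
  · refine (hZ v hv).2 ?_
    have := hφ v
    rwa [show φ v = 0 from h, zero_smul, sub_zero] at this

theorem exists_plane (φ : (Fin n → F) →ₗ[F] F) (hφ : ∃ v, φ v ≠ 0) :
    ∃ w : L, ∀ v, v ≠ 0 → (D.I (C.f v) w ↔ φ v = 0) := by
  classical
  obtain ⟨v₀, hv₀⟩ := hφ
  have hv₀0 : v₀ ≠ 0 := fun h => hv₀ (by rw [h, map_zero])
  set Fs := univ.filter fun p : P => ∃ v, v ≠ 0 ∧ φ v = 0 ∧ C.f v = p
  have hmem : ∀ v, v ≠ 0 → (C.f v ∈ Fs ↔ φ v = 0) := by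
    intro v hv
    simp only [Fs, mem_filter, mem_univ, true_and]
    refine ⟨fun ⟨u, hu, hu0, he⟩ => ?_, fun h => ⟨v, hv, h, rfl⟩⟩
    obtain ⟨α, rfl⟩ := C.eq_iff v u hv hu he.symm
    rw [map_smul, hu0, smul_zero]
  obtain ⟨w, hw⟩ := S.hyperplane_of Fs (fun a ha b hb hne c hc => by
    simp only [Fs, mem_filter, mem_univ, true_and] at ha hb
    obtain ⟨u, hu, hu0, rfl⟩ := ha
    obtain ⟨v, hv, hv0, rfl⟩ := hb
    obtain ⟨s, t, hst, rfl⟩ := C.of_mem_line hu hv hne hc
    rw [hmem _ (C.comb_ne_zero hu hv hne hst)]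
    simp [hu0, hv0]) (C.f v₀) (fun h => hv₀ ((hmem v₀ hv₀0).1 h)) (fun a b hab => by
    obtain ⟨u, hu, rfl⟩ := C.surj a
    obtain ⟨v, hv, rfl⟩ := C.surj b
    by_cases hu0 : φ u = 0
    · exact ⟨_, D.left_mem_line _ _, (hmem u hu).2 hu0⟩
    have h0 := C.comb_ne_zero hu hv hab (a := φ v) (b := -φ u) (Or.inr (neg_ne_zero.2 hu0))
    refine ⟨_, C.mem_line_comb hu hv hab (φ v) (-φ u) h0, (hmem _ h0).2 ?_⟩
    rw [map_add, map_smul, map_smul, smul_eq_mul, smul_eq_mul]
    ring)
  refine ⟨w, fun v hv => ?_⟩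
  rw [← SymDesign.mem_pts, hw]
  exact hmem v hv

/-- An elation acts as a transvection, once it does so at one point off the axis. -/
theorem elation_transvection {g : G} {c : P} {w : L} (hg : g ∈ D.elation c w) (hc : D.I c w)
    {φ : (Fin n → F) →ₗ[F] F} (hφ : ∀ v, v ≠ 0 → (D.I (C.f v) w ↔ φ v = 0)) {d x₀ : Fin n → F}
    (hd0 : φ d = 0) (hd : d ≠ 0 → C.f d = c) (hx₀ : φ x₀ ≠ 0)
    (hgx : g • C.f x₀ = C.f (x₀ + φ x₀ • d)) (v : Fin n → F) (hv : v ≠ 0) :
    g • C.f v = C.f (v + φ v • d) := by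
  have hne0 : ∀ x, φ x ≠ 0 → x + φ x • d ≠ 0 := fun x hx h => hx (by
    have := congrArg φ h
    rwa [map_add, map_smul, hd0, smul_zero, add_zero, map_zero] at this)
  have hoff : ∀ x, φ x ≠ 0 → x ≠ 0 ∧ ¬ D.I (C.f x) w := fun x hx =>
    ⟨fun h => hx (by rw [h, map_zero]),
      fun h => hx ((hφ x (fun e => hx (by rw [e, map_zero]))).1 h)⟩
  have step : ∀ x y, φ x ≠ 0 → φ y ≠ 0 → g • C.f x = C.f (x + φ x • d) →
      C.f y ∉ D.line c (C.f x) → g • C.f y = C.f (y + φ y • d) := by
    intro x y hx hy hgx hyl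
    obtain ⟨hx0, hxw⟩ := hoff x hx
    obtain ⟨hy0, hyw⟩ := hoff y hy
    have hcx : c ≠ C.f x := fun h => hxw (h ▸ hc)
    have hcy : c ≠ C.f y := fun h => hyw (h ▸ hc)
    have hxy : C.f x ≠ C.f y := fun h => hyl (h ▸ D.right_mem_line c (C.f x))
    set u := φ y • x + (-φ x) • y with hu
    have hu0 : u ≠ 0 := C.comb_ne_zero hx0 hy0 hxy (Or.inl hy)
    have hφu : φ u = 0 := by
      rw [hu, map_add, map_smul, map_smul, smul_eq_mul, smul_eq_mul]; ring
    have hfuw : D.I (C.f u) w := (hφ u hu0).2 hφu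
    have hgu : g • C.f u = C.f u := D.mem_ker.1 hg.2 _ hfuw
    have hul : C.f u ∈ D.line (C.f x) (C.f y) := C.mem_line_comb hx0 hy0 hxy _ _ hu0
    have hux : C.f x ≠ C.f u := fun h => hxw (h.symm ▸ hfuw)
    have hxu : D.line (C.f x) (C.f u) = D.line (C.f x) (C.f y) :=
      D.line_eq hxy (D.left_mem_line _ _) hul hux
    have hyxu : C.f y ∈ D.line (C.f x) (C.f u) := hxu.symm ▸ D.right_mem_line _ _
    set X := g • C.f x with hX
    have hXw : ¬ D.I X w := D.not_I_smul hg.2 hxw
    have hXu : X ≠ C.f u := fun h => hXw (h ▸ hfuw)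
    have h1 : g • C.f y ∈ D.line X (C.f u) := by
      have := (D.smul_mem_line g).2 hyxu
      rwa [hgu] at this
    have h2 : g • C.f y ∈ D.line c (C.f y) := D.elation_line hg _
    have h3 : C.f (y + φ y • d) ∈ D.line X (C.f u) := by
      obtain ⟨a, b, hab, hfy⟩ := C.of_mem_line hx0 hu0 hux hyxu
      obtain ⟨γ, hγ⟩ := C.eq_iff y _ hy0 (C.comb_ne_zero hx0 hu0 hux hab) hfy.symm
      have hφy : φ y = γ * (a * φ x) := by
        conv_lhs => rw [← hγ]
        rw [map_smul, map_add, map_smul, map_smul, hφu, smul_zero, add_zero, smul_eq_mul,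
          smul_eq_mul]
      have hy' : y + φ y • d = (γ * a) • (x + φ x • d) + (γ * b) • u := by
        rw [hφy, ← hγ]
        module
      rw [hy', hgx]
      refine C.mem_line_comb (hne0 x hx) hu0 (by rw [← hgx]; exact hXu) _ _ ?_
      rw [← hy']
      exact hne0 y hy
    have h4 : C.f (y + φ y • d) ∈ D.line c (C.f y) := by
      by_cases hd' : d = 0
      · rw [hd', smul_zero, add_zero]
        exact D.right_mem_line _ _
      rw [← hd hd'] at hcy ⊢
      have := C.mem_line_comb hd' hy0 hcy (φ y) 1 (by rw [one_smul, add_comm]; exact hne0 y hy)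
      rwa [one_smul, add_comm] at this
    by_contra hne
    have e : D.line X (C.f u) = D.line c (C.f y) := by
      rw [← D.line_eq hXu h1 h3 hne, D.line_eq hcy h2 h4 hne]
    have hcX : c ≠ X := fun h => hXw (h ▸ hc)
    have e2 : D.line c X = D.line c (C.f x) :=
      D.line_eq hcx (D.left_mem_line _ _) (D.elation_line hg _) hcX
    have e3 : D.line c X = D.line c (C.f y) :=
      D.line_eq hcy (D.left_mem_line _ _) (e ▸ D.left_mem_line X (C.f u)) hcX
    exact hyl (e2 ▸ e3.symm ▸ D.right_mem_line c (C.f y))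
  by_cases hv0 : φ v = 0
  · rw [hv0, zero_smul, add_zero]
    exact D.mem_ker.1 hg.2 _ ((hφ v hv).2 hv0)
  obtain ⟨hx00, hx₀w⟩ := hoff x₀ hx₀
  have hcx₀ : c ≠ C.f x₀ := fun h => hx₀w (h ▸ hc)
  by_cases hvl : C.f v ∈ D.line c (C.f x₀)
  · obtain ⟨p, hpw, hpl⟩ := S.exists_off hcx₀ w
    obtain ⟨x₁, hx₁0, rfl⟩ := C.surj p
    have hx₁ : φ x₁ ≠ 0 := fun h => hpw ((hφ x₁ hx₁0).2 h)
    refine step x₁ v hx₁ hv0 (step x₀ x₁ hx₀ hx₁ hgx hpl) fun h => hpl ?_
    have hcv : c ≠ C.f v := fun e => hv0 ((hφ v hv).1 (e ▸ hc))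
    have hcp : c ≠ C.f x₁ := fun e => hpw (e ▸ hc)
    have e1 := D.line_eq hcx₀ (D.left_mem_line _ _) hvl hcv
    have e2 := D.line_eq hcp (D.left_mem_line _ _) h hcv
    exact e1 ▸ e2.symm ▸ D.right_mem_line c (C.f x₁)
  · exact step x₀ v hx₀ hv0 hgx hvl

/-- A transvection is induced by an elation. -/
theorem exists_elation_of {φ : (Fin n → F) →ₗ[F] F} {d x₀ : Fin n → F} (hd : d ≠ 0) (hd0 : φ d = 0)
    (hx₀ : φ x₀ ≠ 0) :
    ∃ g : G, (∃ c w, D.I c w ∧ g ∈ D.elation c w) ∧
      ∀ v, v ≠ 0 → g • C.f v = C.f (v + φ v • d) := by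
  obtain ⟨w, hw⟩ := C.exists_plane φ ⟨x₀, hx₀⟩
  have hx00 : x₀ ≠ 0 := fun h => hx₀ (by rw [h, map_zero])
  have hc : D.I (C.f d) w := (hw d hd).2 hd0
  have hxw : ¬ D.I (C.f x₀) w := fun h => hx₀ ((hw x₀ hx00).1 h)
  have hne : C.f d ≠ C.f x₀ := fun h => hxw (h ▸ hc)
  have hy0 : φ x₀ • d + (1 : F) • x₀ ≠ 0 := C.comb_ne_zero hd hx00 hne (Or.inr one_ne_zero)
  have hy : C.f (x₀ + φ x₀ • d) ∈ D.line (C.f d) (C.f x₀) := by
    have := C.mem_line_comb hd hx00 hne _ _ hy0
    rwa [one_smul, add_comm] at this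
  rw [one_smul, add_comm] at hy0
  have hyd : C.f (x₀ + φ x₀ • d) ≠ C.f d := fun h => by
    have h1 : φ (x₀ + φ x₀ • d) = 0 := (hw _ hy0).1 (h ▸ hc)
    rw [map_add, map_smul, hd0, smul_zero, add_zero] at h1
    exact hx₀ h1
  obtain ⟨g, hg, hgx⟩ := S.exists_elation hc hxw hy hyd
  exact ⟨g, ⟨_, _, hc, hg⟩, C.elation_transvection hg hc hw hd0 (fun _ => rfl) hx₀ hgx⟩

/-- An elation is induced by a transvection. -/
theorem exists_transvection {g : G} {c : P} {w : L} (hc : D.I c w) (hg : g ∈ D.elation c w) :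
    ∃ (φ : (Fin n → F) →ₗ[F] F) (d : Fin n → F), φ d = 0 ∧
      ∀ v, v ≠ 0 → g • C.f v = C.f (v + φ v • d) := by
  obtain ⟨φ, ⟨x₀, hx₀⟩, hφ⟩ := C.exists_form w
  obtain ⟨d, hd, rfl⟩ := C.surj c
  have hd0 : φ d = 0 := (hφ d hd).1 hc
  have hx00 : x₀ ≠ 0 := fun h => hx₀ (by rw [h, map_zero])
  have hxw : ¬ D.I (C.f x₀) w := fun h => hx₀ ((hφ x₀ hx00).1 h)
  have hne : C.f d ≠ C.f x₀ := fun h => hxw (h ▸ hc)
  obtain ⟨a, b, hab, hfe⟩ := C.of_mem_line hd hx00 hne (D.elation_line hg (C.f x₀))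
  have hb : b ≠ 0 := by
    intro hb
    have ha : a ≠ 0 := hab.resolve_right fun h => h hb
    rw [hb, zero_smul, add_zero, C.smul a d ha hd] at hfe
    exact D.not_I_smul hg.2 hxw (hfe ▸ hc)
  set β := (φ x₀)⁻¹ * (b⁻¹ * a)
  have hd0' : φ (β • d) = 0 := by rw [map_smul, hd0, smul_zero]
  refine ⟨φ, β • d, hd0', C.elation_transvection hg hc hφ hd0' (fun h => ?_) hx₀ ?_⟩
  · exact C.smul β d (fun h0 => h (by rw [h0, zero_smul])) hd
  · rw [← hfe, ← C.smul b⁻¹ _ (inv_ne_zero hb) (C.comb_ne_zero hd hx00 hne hab), smul_add,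
      smul_smul, smul_smul, inv_mul_cancel₀ hb, one_smul, add_comm, smul_smul, ← mul_assoc,
      mul_inv_cancel₀ hx₀, one_mul]

/-- The identification of the points with a projective space. -/
noncomputable def equiv : ℙ F (Fin n → F) ≃ P :=
  Equiv.ofBijective
    (Projectivization.lift (fun v => C.f v.1) fun a b t h => by
      rw [h, C.smul t b.1 (fun ht => a.2 (by rw [h, ht, zero_smul])) b.2])
    ⟨fun x y => by
      induction x using Projectivization.ind with | _ v hv =>
      induction y using Projectivization.ind with | _ w hw =>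
      intro h
      exact (Projectivization.mk_eq_mk_iff' F v w hv hw).2 (C.eq_iff v w hv hw h),
    fun p => by
      obtain ⟨v, hv, rfl⟩ := C.surj p
      exact ⟨Projectivization.mk F v hv, rfl⟩⟩

theorem equiv_mk (v : Fin n → F) (hv : v ≠ 0) :
    C.equiv (Projectivization.mk F v hv) = C.f v := rfl

/-- The special linear group as permutations of the points. -/
noncomputable def perm : Matrix.SpecialLinearGroup (Fin n) F →* Equiv.Perm P :=
  C.equiv.permCongrHom.toMonoidHom.comp (MulAction.toPermHom _ _)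

theorem perm_apply (A : Matrix.SpecialLinearGroup (Fin n) F) (v : Fin n → F) (hv : v ≠ 0) :
    C.perm A (C.f v) = C.f (A.1 *ᵥ v) := by
  change C.equiv (A • C.equiv.symm (C.f v)) = _
  rw [← C.equiv_mk v hv, Equiv.symm_apply_apply, Projectivization.smul_mk, equiv_mk]
  rfl

end Coords

/-- The recognition theorem. -/
theorem Homog.recognise (S : Homog D) :
    ∃ (m : ℕ) (F : Type) (_ : Field F) (_ : Fintype F), 2 ≤ m ∧
      Nat.card P = (Fintype.card F ^ (m + 1) - 1) / (Fintype.card F - 1) ∧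
      ∃ N : Subgroup G, N.Normal ∧
        Nonempty (N ≃* Matrix.ProjectiveSpecialLinearGroup (Fin (m + 1)) F) ∧
        Subgroup.centralizer (N : Set G) = ⊥ := by
  classical
  obtain ⟨m, F, _, _, hm, ⟨C⟩⟩ := exists_coords S
  refine ⟨m, F, inferInstance, inferInstance, hm, ?_, ?_⟩
  · rw [← Nat.card_congr C.equiv, Projectivization.card'' F, Nat.card_fun, Nat.card_eq_fintype_card,
      Nat.card_eq_fintype_card, Fintype.card_fin]
  set N : Subgroup G := Subgroup.closure {g | ∃ c w, D.I c w ∧ g ∈ D.elation c w} with hN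
  have hmemN : ∀ {c w g}, D.I c w → g ∈ D.elation c w → g ∈ N := fun hc hg =>
    Subgroup.subset_closure ⟨_, _, hc, hg⟩
  have hnormal : N.Normal := by
    refine ⟨fun x hx g => ?_⟩
    rw [hN] at hx
    induction hx using Subgroup.closure_induction with
    | mem u hu =>
      obtain ⟨c, w, hc, hu⟩ := hu
      exact hmemN ((D.smul_iff g c w).2 hc) (D.elation_conj hu)
    | one => simp [one_mem]
    | mul u v _ _ hu hv =>
      rw [show g * (u * v) * g⁻¹ = g * u * g⁻¹ * (g * v * g⁻¹) by group]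
      exact mul_mem hu hv
    | inv u _ hu =>
      rw [show g * u⁻¹ * g⁻¹ = (g * u * g⁻¹)⁻¹ by group]
      exact inv_mem hu
  have h1 : N ≤ C.perm.range.comap (MulAction.toPermHom G P) := by
    rw [hN, Subgroup.closure_le]
    rintro g ⟨c, w, hc, hg⟩
    obtain ⟨φ, d, hd, hgv⟩ := C.exists_transvection hc hg
    let φv : Fin (m + 1) → F := fun i => φ fun j => if i = j then 1 else 0
    have hφv : ∀ v, φv ⬝ᵥ v = φ v := fun v => by
      rw [φ.pi_apply_eq_sum_univ v]
      exact sum_congr rfl fun i _ => (mul_comm _ _)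
    refine ⟨(⟨1 + vecMulVec d φv, ?_⟩ : Matrix.SpecialLinearGroup (Fin (m + 1)) F),
      Equiv.ext fun p => ?_⟩
    · rw [vecMulVec_eq Unit, det_one_add_replicateCol_mul_replicateRow, hφv, hd, add_zero]
    · obtain ⟨v, hv, rfl⟩ := C.surj p
      refine (C.perm_apply _ v hv).trans ?_
      change C.f ((1 + vecMulVec d φv) *ᵥ v) = g • C.f v
      rw [hgv v hv, add_mulVec, one_mulVec, vecMulVec_mulVec, hφv, op_smul_eq_smul]
  have h2 : C.perm.range ≤ N.map (MulAction.toPermHom G P) := by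
    rw [MonoidHom.range_eq_map, Subgroup.map_le_iff_le_comap]
    refine le_of_eq (Eq.symm (CfsgLib.Linear.sl_eq_top_of_transvections fun i j hij a => ?_))
    rw [Subgroup.mem_comap, Subgroup.mem_map]
    by_cases ha : a = 0
    · refine ⟨1, one_mem _, ?_⟩
      rw [ha, Matrix.SpecialLinearGroup.transvection_coeff_zero, map_one, map_one]
    obtain ⟨g, ⟨c, w, hc, hg⟩, hgv⟩ := C.exists_elation_of
      (φ := a • LinearMap.proj j) (d := Pi.single i 1) (x₀ := Pi.single j 1)
      (fun h => one_ne_zero (α := F) (by simpa using congrFun h i))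
      (by simp [hij.symm]) (by simpa using ha)
    refine ⟨g, hmemN hc hg, Equiv.ext fun p => ?_⟩
    obtain ⟨v, hv, rfl⟩ := C.surj p
    rw [C.perm_apply _ v hv, MulAction.toPermHom_apply, MulAction.toPerm_apply, hgv v hv]
    congr 1
    ext k
    rw [CfsgLib.Linear.transvection_smul_apply hij a v k]
    by_cases hk : k = i
    · subst hk
      simp
    · simp [hk]
  refine ⟨N, hnormal, ?_, (Subgroup.eq_bot_iff_forall _).2 fun g hg => ?_⟩
  · let τ : N →* Equiv.Perm P := (MulAction.toPermHom G P).comp N.subtype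
    have hτ : Function.Injective τ := by
      refine (injective_iff_map_eq_one τ).2 fun u hu => Subtype.ext (D.faithful u.1 fun p => ?_)
      exact Equiv.ext_iff.1 hu p
    let σ : Matrix.ProjectiveSpecialLinearGroup (Fin (m + 1)) F →* Equiv.Perm P :=
      C.equiv.permCongrHom.toMonoidHom.comp Projectivization.PSLAction.toPermHom
    have hσ : Function.Injective σ :=
      C.equiv.permCongrHom.injective.comp Matrix.ProjectiveSpecialLinearGroup.toPermHom_injective
    have hperm : σ.range = C.perm.range := by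
      ext x
      constructor
      · rintro ⟨y, rfl⟩
        obtain ⟨A, rfl⟩ := QuotientGroup.mk'_surjective _ y
        exact ⟨A, rfl⟩
      · rintro ⟨A, rfl⟩
        exact ⟨QuotientGroup.mk' _ A, rfl⟩
    have hrange : τ.range = σ.range := by
      rw [hperm, show τ.range = N.map (MulAction.toPermHom G P) by
        rw [MonoidHom.range_comp, Subgroup.range_subtype]]
      refine le_antisymm ?_ h2
      rw [Subgroup.map_le_iff_le_comap]
      exact h1
    exact ⟨(MonoidHom.ofInjective hτ).trans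
      ((MulEquiv.subgroupCongr hrange).trans (MonoidHom.ofInjective hσ).symm)⟩
  · refine D.faithful g fun c => ?_
    obtain ⟨w, hw⟩ : ∃ w, D.I c w := by
      obtain ⟨w, hw⟩ := card_pos.1 (by rw [D.blks_card]; have := D.two_le_k; omega :
        0 < (D.blks c).card)
      exact ⟨w, D.mem_blks.1 hw⟩
    obtain ⟨h, hh⟩ : ((univ.filter fun x => x ∈ D.elation c w).erase 1).Nonempty := by
      rw [← card_pos, card_erase_of_mem (by simp [one_mem]), S.elation_card hw]
      have := S.two_le_q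
      omega
    simp only [mem_erase, mem_filter, mem_univ, true_and] at hh
    have e : h = g * h * g⁻¹ := by
      rw [← Subgroup.mem_centralizer_iff.1 hg h (hmemN hw hh.2), mul_inv_cancel_right]
    have h2 : h ∈ D.elation (g • c) (g • w) := e ▸ D.elation_conj hh.2
    exact (S.centre_unique hh.2 h2 hw hh.1).symm

end Cfsg.Agent.SymDesignPG
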