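import Cfsg.Agent.SymDesignPG.Elation
import Cfsg.Agent.SymDesignPG.HuaField

/-!
# Translations and shears

Off a hyperplane `z₀`, with an origin `O`, points are translations. The elations fixing `z₀` with an
axis `z₁` through `O` act on the translations, and give for any two directions a regular family of
additive bijections satisfying the hypotheses of `exists_field`.
-/

set_option autoImplicit false
set_option linter.style.haveILetI false
set_option linter.unusedVariables false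

namespace Cfsg.Agent.SymDesignPG

open Finset MulAction

variable {G P L : Type*} [Group G] [MulAction G P] [MulAction G L] [Fintype P] [Fintype L]

namespace Homog

set_option linter.unusedSectionVars false

variable [Fintype G] {D : SymDesign G P L} (S : Homog D)
include S

/-- An element with two centres is trivial. -/
theorem centre_unique {a b : P} {z z' : L} {g : G} (hg : g ∈ D.elation a z)
    (hg' : g ∈ D.elation b z') (ha : D.I a z) (h1 : g ≠ 1) : a = b := by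
  by_contra hne
  have key : ∀ y, ¬ D.I y z → D.line a y = D.line b y := by
    intro y hy
    have hmv : g • y ≠ y := fun h => h1 (S.rigid hg ha hy h)
    have hay : a ≠ y := fun h => hy (h ▸ ha)
    have hby : b ≠ y := fun h => hmv (by rw [← h]; exact D.star_fix hg'.1)
    rw [← D.line_eq hay (D.elation_line hg y) (D.right_mem_line a y) hmv,
      D.line_eq hby (D.elation_line hg' y) (D.right_mem_line b y) hmv]
  obtain ⟨y₁, hy₁, -⟩ := S.exists_off hne z
  have hay : a ≠ y₁ := fun h => hy₁ (h ▸ ha)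
  obtain ⟨y₂, hy₂, hy₂'⟩ := S.exists_off hay z
  have hay2 : a ≠ y₂ := fun h => hy₂ (h ▸ ha)
  have e1 : D.line a b = D.line a y₁ :=
    D.line_eq hay (D.left_mem_line a y₁) ((key y₁ hy₁).symm ▸ D.left_mem_line b y₁) hne
  have e2 : D.line a b = D.line a y₂ :=
    D.line_eq hay2 (D.left_mem_line a y₂) ((key y₂ hy₂).symm ▸ D.left_mem_line b y₂) hne
  exact hy₂' (e1 ▸ e2.symm ▸ D.right_mem_line a y₂)

/-- A hyperplane fixed by an elation passes through the centre or is the axis. -/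
theorem fixed_axis {c : P} {z w : L} {g : G} (hg : g ∈ D.elation c z) (hc : D.I c z) (h1 : g ≠ 1)
    (hw : g • w = w) (hne : w ≠ z) : D.I c w := by
  by_contra hcw
  obtain ⟨x, hxw, hxz⟩ : ∃ x, D.I x w ∧ ¬ D.I x z := by
    by_contra hcon
    push Not at hcon
    exact hne (D.block_ext hcon)
  have hcx : c ≠ x := fun h => hcw (h ▸ hxw)
  have hgx : D.I (g • x) w := by
    have h := (D.smul_iff g x w).2 hxw
    rwa [hw] at h
  obtain ⟨p, -, huniq⟩ := S.toPSpace.existsUnique_meet hcx (z := w) (fun h => hcw h.1)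
  exact h1 (S.rigid hg hc hxz
    ((huniq _ ⟨hgx, D.elation_line hg x⟩).trans (huniq _ ⟨hxw, D.right_mem_line c x⟩).symm))

theorem conj_mem_transl {z : L} (g : G) {u : G} (hu : u ∈ D.transl z) :
    g * u * g⁻¹ ∈ D.transl (g • z) := by
  obtain ⟨c, hc, hu⟩ := S.mem_transl.1 hu
  exact S.mem_transl.2 ⟨g • c, (D.smul_iff g c z).2 hc, D.elation_conj hu⟩

theorem transl_ker {z : L} {u : G} (hu : u ∈ D.transl z) : u ∈ D.ker z := by
  obtain ⟨c, -, hu⟩ := S.mem_transl.1 hu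
  exact hu.2

theorem elation_mem_transl {c : P} {z : L} {u : G} (hc : D.I c z) (hu : u ∈ D.elation c z) :
    u ∈ D.transl z :=
  S.mem_transl.2 ⟨c, hc, hu⟩

end Homog

/-- The translations with axis `z`, written additively. -/
def Tr [Fintype G] {D : SymDesign G P L} (_S : Homog D) (z : L) := Additive (D.transl z)

namespace Tr

set_option linter.unusedSectionVars false

variable [Fintype G] {D : SymDesign G P L} {S : Homog D} {z : L}

noncomputable instance instAddCommGroup : AddCommGroup (Tr S z) :=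
  letI : CommGroup (D.transl z) :=
    { (inferInstance : Group (D.transl z)) with
      mul_comm := fun u v => Subtype.ext (S.transl_comm u.2 v.2) }
  inferInstanceAs (AddCommGroup (Additive (D.transl z)))

instance instFinite : Finite (Tr S z) := inferInstanceAs (Finite (Additive (D.transl z)))

/-- The underlying automorphism. -/
def val (t : Tr S z) : G := (Additive.toMul (α := D.transl z) t).1

/-- A translation from an automorphism. -/
def mk (u : G) (hu : u ∈ D.transl z) : Tr S z := Additive.ofMul (α := D.transl z) ⟨u, hu⟩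

@[simp] theorem val_mk (u : G) (hu : u ∈ D.transl z) : (mk u hu : Tr S z).val = u := rfl

theorem val_mem (t : Tr S z) : t.val ∈ D.transl z := (Additive.toMul (α := D.transl z) t).2

@[simp] theorem val_zero : (0 : Tr S z).val = 1 := rfl

@[simp] theorem val_add (s t : Tr S z) : (s + t).val = s.val * t.val := rfl

@[simp] theorem val_neg (t : Tr S z) : (-t).val = t.val⁻¹ := rfl

theorem val_inj {s t : Tr S z} (h : s.val = t.val) : s = t :=
  Additive.toMul.injective (Subtype.ext h)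

/-- The translations with a given centre. -/
def dir (S : Homog D) (z : L) (c : P) : AddSubgroup (Tr S z) where
  carrier := {t | t.val ∈ D.elation c z}
  zero_mem' := one_mem (D.elation c z)
  add_mem' := fun {s t} (hs : s.val ∈ D.elation c z) (ht : t.val ∈ D.elation c z) => mul_mem hs ht
  neg_mem' := fun {s} (hs : s.val ∈ D.elation c z) => inv_mem hs

@[simp] theorem mem_dir {c : P} {t : Tr S z} : t ∈ dir S z c ↔ t.val ∈ D.elation c z := Iff.rfl

theorem exists_dir (t : Tr S z) : ∃ c, D.I c z ∧ t ∈ dir S z c := S.mem_transl.1 t.val_mem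

theorem dir_unique {c c' : P} {t : Tr S z} (hc : D.I c z) (h : t ∈ dir S z c)
    (h' : t ∈ dir S z c') (ht : t ≠ 0) : c = c' :=
  S.centre_unique h h' hc fun e => ht (val_inj (e.trans val_zero.symm))

theorem eq_zero_of_dir {c c' : P} {t : Tr S z} (hc : D.I c z) (h : t ∈ dir S z c)
    (h' : t ∈ dir S z c') (hne : c ≠ c') : t = 0 :=
  by_contra fun ht => hne (dir_unique hc h h' ht)

/-- The point of a translation. -/
def pt (O : P) (t : Tr S z) : P := t.val • O

@[simp] theorem pt_zero (O : P) : (0 : Tr S z).pt O = O := one_smul G O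

theorem pt_add (O : P) (s t : Tr S z) : (s + t).pt O = s.val • t.pt O := mul_smul _ _ _

variable {O : P} (hO : ¬ D.I O z)
include hO

theorem pt_not_I (t : Tr S z) : ¬ D.I (t.pt O) z := D.not_I_smul (S.transl_ker t.val_mem) hO

theorem pt_inj {s t : Tr S z} (h : s.pt O = t.pt O) : s = t := by
  refine sub_eq_zero.1 (val_inj ?_)
  refine S.transl_fix_eq_one (s - t).val_mem hO ?_
  rw [sub_eq_add_neg, add_comm, val_add, mul_smul]
  change (-t).val • s.pt O = O
  rw [h, val_neg]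
  exact inv_smul_smul _ _

theorem pt_surj {p : P} (hp : ¬ D.I p z) : ∃ t : Tr S z, t.pt O = p := by
  obtain ⟨u, hu, hup⟩ := S.transl_trans hO hp
  exact ⟨mk u hu, hup⟩

theorem centre_mem_line {c : P} {d r : Tr S z} (hc : D.I c z) (hd : d ∈ dir S z c) (hd0 : d ≠ 0) :
    c ∈ D.line (r.pt O) ((d + r).pt O) := by
  have hcr : c ≠ r.pt O := fun h => pt_not_I hO r (h ▸ hc)
  have hne : r.pt O ≠ (d + r).pt O := fun h => hd0 (by simpa using pt_inj hO h)
  have h1 : (d + r).pt O ∈ D.line c (r.pt O) := by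
    rw [pt_add]
    exact D.elation_line (mem_dir.1 hd) _
  rw [D.line_eq hcr (D.right_mem_line _ _) h1 hne]
  exact D.left_mem_line _ _

theorem mem_dir_of_line {c : P} {d r : Tr S z} (hc : D.I c z)
    (h : c ∈ D.line (r.pt O) ((d + r).pt O)) : d ∈ dir S z c := by
  by_cases hd0 : d = 0
  · exact hd0 ▸ zero_mem _
  obtain ⟨c', hc', hd⟩ := exists_dir d
  have hne : r.pt O ≠ (d + r).pt O := fun h => hd0 (by simpa using pt_inj hO h)
  obtain ⟨p, -, huniq⟩ := S.toPSpace.existsUnique_meet hne (z := z) (fun h => pt_not_I hO r h.1)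
  rw [(huniq c ⟨hc, h⟩).trans (huniq c' ⟨hc', centre_mem_line hO hc' hd hd0⟩).symm]
  exact hd

theorem exists_mem_dir {c : P} (hc : D.I c z) {p : P} (hp : p ∈ D.line c O) (hpc : p ≠ c) :
    ∃ t ∈ dir S z c, t.pt O = p := by
  obtain ⟨g, hg, hgO⟩ := S.exists_elation hc hO hp hpc
  exact ⟨mk g (S.elation_mem_transl hc hg), hg, hgO⟩

omit hO in
theorem card_dir {c : P} (hc : D.I c z) : Nat.card (dir S z c) = D.q := by
  classical
  rw [← S.elation_card hc, ← Nat.card_eq_finsetCard]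
  exact Nat.card_congr
    { toFun := fun t => ⟨t.1.val, mem_filter.2 ⟨mem_univ _, t.2⟩⟩
      invFun := fun g => ⟨mk g.1 (S.elation_mem_transl hc (mem_filter.1 g.2).2),
        (mem_filter.1 g.2).2⟩
      left_inv := fun t => Subtype.ext (val_inj rfl)
      right_inv := fun g => rfl }

variable {z₁ : L} (hO₁ : D.I O z₁)
include hO₁

theorem axis_ne : z₁ ≠ z := fun h => hO (h ▸ hO₁)

theorem I_pt_iff {c : P} {t : Tr S z} (hc : D.I c z) (ht : t ∈ dir S z c) (ht0 : t ≠ 0) :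
    D.I (t.pt O) z₁ ↔ D.I c z₁ := by
  constructor
  · intro h
    have := centre_mem_line hO (r := 0) hc ht ht0
    rw [add_zero, pt_zero] at this
    exact D.mem_line.1 this z₁ hO₁ h
  · intro h
    have hfix : t.val • z₁ = z₁ := D.mem_star.1 (mem_dir.1 ht).1 z₁ h
    have := (D.smul_iff t.val O z₁).2 hO₁
    rwa [hfix] at this

theorem I_pt_fix {t : Tr S z} (h : D.I (t.pt O) z₁) : t.val • z₁ = z₁ := by
  by_cases ht0 : t = 0
  · rw [ht0, val_zero, one_smul]
  obtain ⟨c, hc, ht⟩ := exists_dir t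
  exact D.mem_star.1 (mem_dir.1 ht).1 z₁ ((I_pt_iff hO hO₁ hc ht ht0).1 h)

/-- The translations with their point in `z₁`. -/
def sub : AddSubgroup (Tr S z) where
  carrier := {t | D.I (t.pt O) z₁}
  zero_mem' := by simpa using hO₁
  add_mem' := fun {s t} (hs : D.I (s.pt O) z₁) (ht : D.I (t.pt O) z₁) => by
    have h := (D.smul_iff s.val (t.pt O) z₁).2 ht
    rw [I_pt_fix hO hO₁ hs] at h
    change D.I ((s + t).pt O) z₁
    rw [pt_add]
    exact h
  neg_mem' := fun {s} (hs : D.I (s.pt O) z₁) => by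
    have h := (D.smul_iff (-s).val O z₁).2 hO₁
    rw [val_neg, inv_smul_eq_iff.2 (I_pt_fix hO hO₁ hs).symm] at h
    exact h

@[simp] theorem mem_sub {t : Tr S z} : t ∈ sub hO hO₁ ↔ D.I (t.pt O) z₁ := Iff.rfl

theorem dir_le_sub {c : P} (hc : D.I c z) (hc₁ : D.I c z₁) : dir S z c ≤ sub hO hO₁ := fun t ht => by
  by_cases ht0 : t = 0
  · exact ht0 ▸ zero_mem _
  exact (I_pt_iff hO hO₁ hc ht ht0).2 hc₁

theorem dir_inf_sub {c : P} (hc : D.I c z) (hc₁ : ¬ D.I c z₁) {t : Tr S z} (ht : t ∈ dir S z c)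
    (ht₁ : t ∈ sub hO hO₁) : t = 0 :=
  by_contra fun ht0 => hc₁ ((I_pt_iff hO hO₁ hc ht ht0).1 ht₁)

theorem exists_decomp {a : P} (ha : D.I a z) (ha₁ : ¬ D.I a z₁) (t : Tr S z) :
    ∃ x ∈ dir S z a, t - x ∈ sub hO hO₁ := by
  have hap : a ≠ t.pt O := fun h => pt_not_I hO t (h ▸ ha)
  obtain ⟨y, hy₁, hy⟩ := S.meet a _ hap z₁
  have hya : y ≠ a := fun h => ha₁ (h ▸ hy₁)
  have hyz : ¬ D.I y z := fun h =>
    pt_not_I hO t (D.line_I hap hy (D.left_mem_line a _) hya h ha (D.right_mem_line a _))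
  obtain ⟨w, rfl⟩ := pt_surj (S := S) hO hyz
  refine ⟨t - w, ?_, by rw [sub_sub_cancel]; exact hy₁⟩
  by_cases htw : t = w
  · rw [htw, sub_self]; exact zero_mem _
  refine mem_dir_of_line hO (r := w) ha ?_
  rw [sub_add_cancel, D.line_eq hap hy (D.right_mem_line a _) fun h => htw (pt_inj hO h).symm]
  exact D.left_mem_line a _

end Tr

section Shear

set_option linter.unusedSectionVars false

variable [Fintype G] {D : SymDesign G P L} {S : Homog D} {z : L}

open scoped Classical in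
/-- Conjugation by `g`, minus the identity. -/
noncomputable def shear (g : G) : Tr S z →+ Tr S z :=
  if h : g • z = z then
    AddMonoidHom.mk' (fun t => Tr.mk (g * t.val * g⁻¹) (by
      have h1 := S.conj_mem_transl g t.val_mem
      rwa [h] at h1) - t) fun s t => by
      rw [sub_add_sub_comm]
      refine congrArg (· - (s + t)) (Tr.val_inj ?_)
      simp [mul_assoc]
  else 0

theorem shear_val {g : G} (h : g • z = z) (t : Tr S z) :
    (shear g t + t).val = g * t.val * g⁻¹ := by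
  rw [shear, dif_pos h, AddMonoidHom.mk'_apply, sub_add_cancel, Tr.val_mk]

theorem shear_eq_iff {g : G} (h : g • z = z) {t s : Tr S z} :
    shear g t = s ↔ g * t.val * g⁻¹ = s.val * t.val := by
  rw [← shear_val h, ← Tr.val_add]
  exact ⟨fun e => by rw [e], fun e => add_right_cancel (Tr.val_inj e)⟩

variable {O : P} {z₁ : L} (hO : ¬ D.I O z) (hO₁ : D.I O z₁)
include hO hO₁

theorem elation_fix {b : P} (hb : D.I b z) {g : G} (hg : g ∈ D.elation b z₁) : g • z = z :=
  D.mem_star.1 hg.1 z hb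

theorem shear_pt {g : G} (h : g • z = z) (hgO : g • O = O) (t : Tr S z) :
    (shear g t + t).pt O = g • t.pt O := by
  change (shear g t + t).val • O = g • t.val • O
  rw [shear_val h, mul_smul, mul_smul, inv_smul_eq_iff.2 hgO.symm]

theorem shear_mem_dir {b : P} (hb : D.I b z) {g : G} (hg : g ∈ D.elation b z₁) (t : Tr S z) :
    shear g t ∈ Tr.dir S z b := by
  have h := elation_fix hO hO₁ hb hg
  have e : (shear g t).val = g * t.val * g⁻¹ * t.val⁻¹ := by
    rw [eq_mul_inv_iff_mul_eq, ← shear_val h, Tr.val_add]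
  refine Subgroup.mem_inf.2 ⟨?_, S.transl_ker (shear g t).val_mem⟩
  rw [e, show g * t.val * g⁻¹ * t.val⁻¹ = g * (t.val * g⁻¹ * t.val⁻¹) by group]
  refine mul_mem hg.1 ?_
  have hfix : t.val • b = b := D.mem_ker.1 (S.transl_ker t.val_mem) b hb
  have := D.dual.ker_conj (g := t.val) (inv_mem hg.1)
  rwa [hfix] at this

theorem shear_sub {b : P} (hb : D.I b z) {g : G} (hg : g ∈ D.elation b z₁) {t : Tr S z}
    (ht : t ∈ Tr.sub hO hO₁) : shear g t = 0 := by
  have h := shear_pt hO hO₁ (elation_fix hO hO₁ hb hg) (D.mem_ker.1 hg.2 O hO₁) t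
  rw [D.mem_ker.1 hg.2 _ ht] at h
  simpa using Tr.pt_inj hO h

theorem shear_comm {b : P} (hb : D.I b z) {g : G} (hg : g ∈ D.elation b z₁) {t : Tr S z}
    (ht : t ∈ Tr.sub hO hO₁) : g * t.val = t.val * g := by
  have h := (shear_eq_iff (elation_fix hO hO₁ hb hg)).1 (shear_sub hO hO₁ hb hg ht)
  rw [Tr.val_zero, one_mul, mul_inv_eq_iff_eq_mul] at h
  exact h

theorem shear_one : shear (S := S) (z := z) (1 : G) = 0 := by
  ext t
  rw [shear_eq_iff (one_smul G z)]
  simp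

theorem shear_mul {b c : P} (hb : D.I b z) (hb₁ : D.I b z₁) (hc : D.I c z) (hc₁ : D.I c z₁)
    {g h : G} (hg : g ∈ D.elation b z₁) (hh : h ∈ D.elation c z₁) :
    shear (S := S) (z := z) (g * h) = shear g + shear h := by
  ext t
  have hgz := elation_fix hO hO₁ hb hg
  have hhz := elation_fix hO hO₁ hc hh
  rw [shear_eq_iff (by rw [mul_smul, hhz, hgz]), AddMonoidHom.add_apply, add_comm (shear g t)]
  calc g * h * t.val * (g * h)⁻¹ = g * (h * t.val * h⁻¹) * g⁻¹ := by group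
    _ = g * ((shear h t).val * t.val) * g⁻¹ := by rw [(shear_eq_iff hhz).1 rfl]
    _ = (g * (shear h t).val * g⁻¹) * (g * t.val * g⁻¹) := by group
    _ = (shear h t).val * ((shear g t).val * t.val) := by
      rw [(shear_eq_iff hgz (t := t)).1 rfl, shear_comm hO hO₁ hb hg
        (Tr.dir_le_sub hO hO₁ hc hc₁ (shear_mem_dir hO hO₁ hc hh t)), mul_inv_cancel_right]
    _ = (shear h t + shear g t).val * t.val := by rw [Tr.val_add, mul_assoc]

theorem shear_inj {b c : P} (hb : D.I b z) (hb₁ : D.I b z₁) (hc : D.I c z) (hc₁ : D.I c z₁)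
    {g h : G} (hg : g ∈ D.elation b z₁) (hh : h ∈ D.elation c z₁) {t : Tr S z}
    (ht : t ∉ Tr.sub hO hO₁) (he : shear g t = shear h t) : g = h := by
  have e : g • t.pt O = h • t.pt O := by
    rw [← shear_pt hO hO₁ (elation_fix hO hO₁ hb hg) (D.mem_ker.1 hg.2 O hO₁),
      ← shear_pt hO hO₁ (elation_fix hO hO₁ hc hh) (D.mem_ker.1 hh.2 O hO₁), he]
  have := S.transl_fix_eq_one (u := h⁻¹ * g)
    (mul_mem (inv_mem (S.elation_mem_transl hc₁ hh)) (S.elation_mem_transl hb₁ hg)) ht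
    (by rw [mul_smul, e, inv_smul_smul])
  exact (inv_mul_eq_one.1 this).symm

theorem exists_shear {b : P} (hb : D.I b z) (hb₁ : D.I b z₁) {t w : Tr S z}
    (ht : t ∉ Tr.sub hO hO₁) (hw : w ∈ Tr.dir S z b) :
    ∃ g ∈ D.elation b z₁, shear g t = w := by
  by_cases hw0 : w = 0
  · exact ⟨1, one_mem _, by rw [shear_one hO hO₁, hw0, AddMonoidHom.zero_apply]⟩
  have hl := Tr.centre_mem_line hO (r := t) hb hw hw0
  have hne : t.pt O ≠ (w + t).pt O := fun h => hw0 (by simpa using Tr.pt_inj hO h)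
  have hbt : b ≠ t.pt O := fun h => Tr.pt_not_I hO t (h ▸ hb)
  have hy : (w + t).pt O ∈ D.line b (t.pt O) := by
    rw [D.line_eq hne hl (D.left_mem_line _ _) hbt]
    exact D.right_mem_line _ _
  obtain ⟨g, hg, hgt⟩ := S.exists_elation hb₁ ht hy fun h => Tr.pt_not_I hO (w + t) (h.symm ▸ hb)
  refine ⟨g, hg, add_right_cancel (Tr.pt_inj hO ?_ : shear g t + t = w + t)⟩
  rw [shear_pt hO hO₁ (elation_fix hO hO₁ hb hg) (D.mem_ker.1 hg.2 O hO₁), hgt]

/-- The shears between two directions. -/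
noncomputable def shearFam (a b : P) (hb : D.I b z) (hb₁ : D.I b z₁) :
    AddSubgroup (Tr.dir S z a →+ Tr.dir S z b) where
  carrier := {f | ∃ g ∈ D.elation b z₁, ∀ x, (f x).1 = shear g x.1}
  zero_mem' := ⟨1, one_mem _, fun x => by simp [shear_one hO hO₁]⟩
  add_mem' := by
    rintro f f' ⟨g, hg, hf⟩ ⟨g', hg', hf'⟩
    exact ⟨g * g', mul_mem hg hg', fun x => by
      rw [AddMonoidHom.add_apply, AddSubgroup.coe_add, hf, hf',
        shear_mul hO hO₁ hb hb₁ hb hb₁ hg hg', AddMonoidHom.add_apply]⟩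
  neg_mem' := by
    rintro f ⟨g, hg, hf⟩
    refine ⟨g⁻¹, inv_mem hg, fun x => ?_⟩
    rw [AddMonoidHom.neg_apply, AddSubgroup.coe_neg, hf, neg_eq_iff_add_eq_zero,
      ← AddMonoidHom.add_apply, ← shear_mul hO hO₁ hb hb₁ hb hb₁ hg (inv_mem hg), mul_inv_cancel,
      shear_one hO hO₁, AddMonoidHom.zero_apply]

theorem mem_shearFam {a b : P} (hb : D.I b z) (hb₁ : D.I b z₁)
    {f : Tr.dir S z a →+ Tr.dir S z b} :
    f ∈ shearFam hO hO₁ a b hb hb₁ ↔ ∃ g ∈ D.elation b z₁, ∀ x, (f x).1 = shear g x.1 :=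
  Iff.rfl

/-- The member of the family given by an elation. -/
noncomputable def shearMap (a : P) {b : P} (hb : D.I b z) {g : G} (hg : g ∈ D.elation b z₁) :
    Tr.dir S z a →+ Tr.dir S z b :=
  ((shear g).comp (Tr.dir S z a).subtype).codRestrict _ fun x => shear_mem_dir hO hO₁ hb hg x.1

theorem shearMap_mem (a : P) {b : P} (hb : D.I b z) (hb₁ : D.I b z₁) {g : G}
    (hg : g ∈ D.elation b z₁) :
    shearMap (S := S) hO hO₁ a hb hg ∈ shearFam hO hO₁ a b hb hb₁ :=
  ⟨g, hg, fun _ => rfl⟩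

theorem shearFam_reg {a b : P} (ha : D.I a z) (ha₁ : ¬ D.I a z₁) (hb : D.I b z)
    (hb₁ : D.I b z₁) (x : Tr.dir S z a) (hx : x ≠ 0) (y : Tr.dir S z b) :
    ∃ f ∈ shearFam hO hO₁ a b hb hb₁, f x = y := by
  obtain ⟨g, hg, hgx⟩ := exists_shear hO hO₁ hb hb₁
    (fun h => hx (Subtype.ext (Tr.dir_inf_sub hO hO₁ ha ha₁ x.2 h))) y.2
  exact ⟨shearMap hO hO₁ a hb hg, shearMap_mem hO hO₁ a hb hb₁ hg, Subtype.ext hgx⟩

theorem shearFam_left_inv {a b : P} {z₂ : L} (hO₂ : D.I O z₂) (ha : D.I a z) (ha₁ : ¬ D.I a z₁)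
    (hb : D.I b z) (hb₁ : D.I b z₁) (ha₂ : D.I a z₂) (hb₂ : ¬ D.I b z₂)
    {f : Tr.dir S z a →+ Tr.dir S z b} (hf : f ∈ shearFam hO hO₁ a b hb hb₁) (hf0 : f ≠ 0) :
    ∃ f' ∈ shearFam hO hO₂ b a ha ha₂, f'.comp f = .id _ := by
  obtain ⟨g, hg, hfg⟩ := hf
  have hg1 : g ≠ 1 := fun e => hf0 (by
    ext x
    simp [hfg, e, shear_one hO hO₁])
  have hab : a ≠ b := fun e => ha₁ (e ▸ hb₁)
  have hga : g • a ≠ a := fun e => hg1 (S.rigid hg hb₁ ha₁ e)
  have hgz := elation_fix hO hO₁ hb hg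
  have hga_z : D.I (g • a) z := (D.I_smul_left hgz).2 ha
  obtain ⟨h, hh, hhb⟩ := S.exists_elation ha₂ hb₂
    (show g • a ∈ D.line a b by rw [D.line_comm]; exact D.elation_line hg a) hga
  refine ⟨shearMap hO hO₂ b ha hh, shearMap_mem hO hO₂ b ha ha₂ hh, ?_⟩
  refine AddMonoidHom.ext fun x => Subtype.ext ?_
  change shear h (f x).1 = x.1
  have hhz := elation_fix hO hO₂ ha hh
  have h1 : (f x).1 + x.1 ∈ Tr.dir S z (g • a) := by
    rw [Tr.mem_dir, hfg, shear_val hgz]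
    have := D.elation_conj (g := g) (Tr.mem_dir.1 x.2)
    rwa [hgz] at this
  have h2 : shear h (f x).1 + (f x).1 ∈ Tr.dir S z (g • a) := by
    rw [Tr.mem_dir, shear_val hhz, ← hhb]
    have := D.elation_conj (g := h) (Tr.mem_dir.1 (f x).2)
    rwa [hhz] at this
  have h3 := sub_mem h2 h1
  rw [add_comm (f x).1 x.1, add_sub_add_right_eq_sub] at h3
  exact sub_eq_zero.1
    (Tr.eq_zero_of_dir ha (sub_mem (shear_mem_dir hO hO₂ ha hh _) x.2) h3 hga.symm)

omit hO hO₁ in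
theorem comp_eq_id_comm {a b : P} (ha : D.I a z) (hb : D.I b z)
    {f : Tr.dir S z a →+ Tr.dir S z b} {f' : Tr.dir S z b →+ Tr.dir S z a}
    (h : f'.comp f = .id _) : f.comp f' = .id _ := by
  have hinj : Function.Injective f := fun u v e => by
    have h1 := DFunLike.congr_fun h u
    have h2 := DFunLike.congr_fun h v
    simp only [AddMonoidHom.comp_apply, AddMonoidHom.id_apply] at h1 h2
    rw [← h1, ← h2, e]
  have hcard : Nat.card (Tr.dir S z a) = Nat.card (Tr.dir S z b) := by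
    rw [Tr.card_dir ha, Tr.card_dir hb]
  obtain ⟨-, hsurj⟩ := (Nat.bijective_iff_injective_and_card f).2 ⟨hinj, hcard⟩
  refine AddMonoidHom.ext fun y => ?_
  obtain ⟨x, rfl⟩ := hsurj y
  exact congrArg f (DFunLike.congr_fun h x)

theorem shear_pair {a b : P} {z₂ : L} (hO₂ : D.I O z₂) (ha : D.I a z) (ha₁ : ¬ D.I a z₁)
    (hb : D.I b z) (hb₁ : D.I b z₁) (ha₂ : D.I a z₂) (hb₂ : ¬ D.I b z₂) :
    InvPair (shearFam (S := S) hO hO₁ a b hb hb₁) (shearFam hO hO₂ b a ha ha₂) where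
  invL f hf hf0 := by
    obtain ⟨f', hf', h⟩ := shearFam_left_inv hO hO₁ hO₂ ha ha₁ hb hb₁ ha₂ hb₂ hf hf0
    exact ⟨f', hf', h, comp_eq_id_comm ha hb h⟩
  invR f hf hf0 := by
    obtain ⟨f', hf', h⟩ := shearFam_left_inv hO hO₂ hO₁ hb hb₂ ha ha₂ hb₁ ha₁ hf hf0
    exact ⟨f', hf', comp_eq_id_comm hb ha h, h⟩

/-- The commutator of an elation fixing all lines through `O` with a translation. -/
theorem comm_mem {b : P} (hb : D.I b z) (hb₁ : D.I b z₁) {σ : G} (hσ : σ ∈ D.elation O z₁)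
    {u : Tr S z} (hu : u ∈ Tr.dir S z b) :
    u.val * σ * u.val⁻¹ * σ⁻¹ ∈ D.elation b z₁ := by
  have hσb : σ • b = b := D.mem_ker.1 hσ.2 b hb₁
  have huz : u.val • z₁ = z₁ := Tr.I_pt_fix hO hO₁ (Tr.dir_le_sub hO hO₁ hb hb₁ hu)
  refine Subgroup.mem_inf.2 ⟨?_, ?_⟩
  · rw [show u.val * σ * u.val⁻¹ * σ⁻¹ = u.val * (σ * u.val⁻¹ * σ⁻¹) by group]
    refine mul_mem hu.1 ?_
    have := D.dual.ker_conj (g := σ) (inv_mem hu.1)
    rwa [hσb] at this
  · refine mul_mem ?_ (inv_mem hσ.2)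
    have := D.ker_conj (g := u.val) hσ.2
    rwa [huz] at this

/-- The inverses of the evaluations. -/
noncomputable def evalInv {a b : P} (hb : D.I b z) (hb₁ : D.I b z₁) {σ : G}
    (hσ : σ ∈ D.elation O z₁) :
    Tr.dir S z b →+ shearFam (S := S) hO hO₁ a b hb hb₁ :=
  AddMonoidHom.mk'
    (fun u => ⟨shearMap hO hO₁ a hb (comm_mem hO hO₁ hb hb₁ hσ u.2),
      shearMap_mem hO hO₁ a hb hb₁ _⟩)
    fun u v => by
      refine Subtype.ext (AddMonoidHom.ext fun x => Subtype.ext ?_)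
      change shear ((u + v).1.val * σ * (u + v).1.val⁻¹ * σ⁻¹) x.1 =
        shear (u.1.val * σ * u.1.val⁻¹ * σ⁻¹) x.1 + shear (v.1.val * σ * v.1.val⁻¹ * σ⁻¹) x.1
      have hc := shear_comm hO hO₁ hb (comm_mem hO hO₁ hb hb₁ hσ v.2)
        (Tr.dir_le_sub hO hO₁ hb hb₁ u.2)
      rw [← AddMonoidHom.add_apply, add_comm (shear _),
        ← shear_mul hO hO₁ hb hb₁ hb hb₁ (comm_mem hO hO₁ hb hb₁ hσ v.2)
          (comm_mem hO hO₁ hb hb₁ hσ u.2), AddSubgroup.coe_add, Tr.val_add]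
      congr 2
      calc u.1.val * v.1.val * σ * (u.1.val * v.1.val)⁻¹ * σ⁻¹
          = u.1.val * (v.1.val * σ * v.1.val⁻¹ * σ⁻¹) * σ * u.1.val⁻¹ * σ⁻¹ := by group
        _ = v.1.val * σ * v.1.val⁻¹ * σ⁻¹ * (u.1.val * σ * u.1.val⁻¹ * σ⁻¹) := by
            rw [← hc]; group

theorem evalInv_apply {a b : P} (hb : D.I b z) (hb₁ : D.I b z₁) {σ : G}
    (hσ : σ ∈ D.elation O z₁) (u : Tr.dir S z b) (x : Tr.dir S z a) :
    ((evalInv hO hO₁ hb hb₁ hσ u).1 x).1 = shear (u.1.val * σ * u.1.val⁻¹ * σ⁻¹) x.1 := rfl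

theorem evalInv_spec {a b : P} (ha : D.I a z) (hb : D.I b z) (hb₁ : D.I b z₁) {σ : G}
    (hσ : σ ∈ D.elation O z₁) {x : Tr.dir S z a} (hx : σ • a = x.1.pt O) (u : Tr.dir S z b) :
    (evalInv hO hO₁ hb hb₁ hσ u).1 x = u := by
  refine Subtype.ext (add_right_cancel (b := x.1) (Tr.pt_inj hO ?_))
  have hK := comm_mem hO hO₁ hb hb₁ hσ u.2
  rw [evalInv_apply, shear_pt hO hO₁ (elation_fix hO hO₁ hb hK) (D.mem_ker.1 hK.2 O hO₁),
    Tr.pt_add, ← hx]
  have hua : u.1.val⁻¹ • a = a := D.mem_ker.1 (inv_mem (S.transl_ker u.1.val_mem)) a ha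
  simp [mul_smul, hua]

/-- All hypotheses of `exists_field` hold. -/
theorem exists_field_shear {a b : P} {z₂ : L} (hO₂ : D.I O z₂) (ha : D.I a z)
    (ha₁ : ¬ D.I a z₁) (hb : D.I b z) (hb₁ : D.I b z₁) (ha₂ : D.I a z₂) (hb₂ : ¬ D.I b z₂)
    {E : Tr.dir S z a →+ Tr.dir S z b} (hE : E ∈ shearFam hO hO₁ a b hb hb₁) (hE0 : E ≠ 0) :
    ∃ K : Subring (AddMonoid.End (Tr.dir S z a)), IsField K ∧
      (∀ f ∈ shearFam hO hO₁ a b hb hb₁, ∃ k : Tr.dir S z a →+ Tr.dir S z a,
        k ∈ K ∧ f = E.comp k) ∧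
      ∀ k : Tr.dir S z a →+ Tr.dir S z a, k ∈ K → E.comp k ∈ shearFam hO hO₁ a b hb hb₁ := by
  set M := shearFam (S := S) hO hO₁ a b hb hb₁
  have hOa : O ≠ a := fun h => hO (h ▸ ha)
  have hOb : O ≠ b := fun h => hO (h ▸ hb)
  have hpair := shear_pair (S := S) hO hO₁ hO₂ ha ha₁ hb hb₁ ha₂ hb₂
  have hσσ : ∀ {σ τ : G} (hσ : σ ∈ D.elation O z₁) (hτ : τ ∈ D.elation O z₁) (u : Tr.dir S z b)
      (x : Tr.dir S z a), (evalInv hO hO₁ hb hb₁ hσ u).1 x + (evalInv hO hO₁ hb hb₁ hτ u).1 x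
        = (evalInv hO hO₁ hb hb₁ (mul_mem hσ hτ) u).1 x := by
    intro σ τ hσ hτ u x
    refine Subtype.ext ?_
    rw [AddSubgroup.coe_add, evalInv_apply, evalInv_apply, evalInv_apply,
      ← AddMonoidHom.add_apply, ← shear_mul hO hO₁ hb hb₁ hb hb₁
        (comm_mem hO hO₁ hb hb₁ hσ u.2) (comm_mem hO hO₁ hb hb₁ hτ u.2)]
    congr 2
    have hc := S.elation_comm_ne hO₁ hb₁ hOb hσ (comm_mem hO hO₁ hb hb₁ hτ u.2)
    calc u.1.val * σ * u.1.val⁻¹ * σ⁻¹ * (u.1.val * τ * u.1.val⁻¹ * τ⁻¹)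
        = u.1.val * σ * u.1.val⁻¹ * σ⁻¹ *
            (σ * (u.1.val * τ * u.1.val⁻¹ * τ⁻¹) * σ⁻¹) := by rw [hc, mul_inv_cancel_right]
      _ = u.1.val * (σ * τ) * u.1.val⁻¹ * (σ * τ)⁻¹ := by group
  let C : AddSubgroup (Tr.dir S z b →+ M) :=
    { carrier := {c | ∃ (σ : G) (hσ : σ ∈ D.elation O z₁), ∀ u x,
        (c u).1 x = (evalInv hO hO₁ hb hb₁ hσ u).1 x}
      zero_mem' := ⟨1, one_mem _, fun u x => Subtype.ext (by
        rw [evalInv_apply]; simp [shear_one hO hO₁])⟩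
      add_mem' := by
        rintro c c' ⟨σ, hσ, hc⟩ ⟨τ, hτ, hc'⟩
        refine ⟨σ * τ, mul_mem hσ hτ, fun u x => ?_⟩
        rw [AddMonoidHom.add_apply, AddSubgroup.coe_add, AddMonoidHom.add_apply, hc, hc', hσσ]
      neg_mem' := by
        rintro c ⟨σ, hσ, hc⟩
        refine ⟨σ⁻¹, inv_mem hσ, fun u x => ?_⟩
        rw [AddMonoidHom.neg_apply, AddSubgroup.coe_neg, AddMonoidHom.neg_apply, hc,
          neg_eq_iff_add_eq_zero, hσσ hσ (inv_mem hσ) u x]
        refine Subtype.ext ?_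
        rw [evalInv_apply]
        simp [shear_one hO hO₁] }
  refine exists_field hpair (shearFam_reg hO hO₁ ha ha₁ hb hb₁) C (fun x hx => ?_)
    (fun c hc hc0 => ?_) hE hE0
  · have hx0 : x.1 ≠ 0 := fun h => hx (Subtype.ext h)
    have hne : O ≠ x.1.pt O := fun h => hx0 (Tr.pt_inj hO (h.symm.trans (Tr.pt_zero O).symm))
    have hl := Tr.centre_mem_line hO (r := 0) ha x.2 hx0
    rw [add_zero, Tr.pt_zero] at hl
    have hy : x.1.pt O ∈ D.line O a := by
      rw [D.line_eq hne (D.left_mem_line _ _) hl hOa]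
      exact D.right_mem_line _ _
    obtain ⟨σ, hσ, hσa⟩ := S.exists_elation hO₁ ha₁ hy hne.symm
    exact ⟨evalInv hO hO₁ hb hb₁ hσ, ⟨σ, hσ, fun _ _ => rfl⟩,
      evalInv_spec hO hO₁ ha hb hb₁ hσ hσa⟩
  · obtain ⟨σ, hσ, hcσ⟩ := hc
    have hσ1 : σ ≠ 1 := by
      rintro rfl
      refine hc0 (AddMonoidHom.ext fun u => Subtype.ext (AddMonoidHom.ext fun x => ?_))
      rw [hcσ]
      refine Subtype.ext ?_
      rw [evalInv_apply]
      simp [shear_one hO hO₁]
    have hmv : σ • a ≠ a := fun h => hσ1 (S.rigid hσ hO₁ ha₁ h)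
    have hl : σ • a ∈ D.line a O := D.line_comm O a ▸ D.elation_line hσ a
    obtain ⟨x, hx, hxa⟩ := Tr.exists_mem_dir hO ha hl hmv
    refine ⟨⟨x, hx⟩, fun h => ?_, fun u => ?_⟩
    · have h' : x = 0 := congrArg Subtype.val h
      rw [h', Tr.pt_zero] at hxa
      exact hOa (MulAction.injective σ ((D.star_fix hσ.1).trans hxa))
    · rw [hcσ]
      exact evalInv_spec hO hO₁ ha hb hb₁ hσ hxa.symm u

end Shear

end Cfsg.Agent.SymDesignPG
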