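import Cfsg.Agent.SymDesignPG.Kernel

/-!
# Projective spaces as symmetric designs

Points `P`, hyperplanes `L`. A line is the set of points common to all hyperplanes through two
given points; the space hypothesis is that every line meets every hyperplane (Dembowski–Wagner).
We derive the Veblen–Young axiom and recognise hyperplanes among subspaces.
-/

set_option autoImplicit false
set_option linter.style.haveILetI false

namespace Cfsg.Agent.SymDesignPG

open Finset MulAction

variable {G P L : Type*} [Group G] [MulAction G P] [MulAction G L] [Fintype P] [Fintype L]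

namespace SymDesign

open scoped Classical in
/-- The line through two points. -/
noncomputable def line (D : SymDesign G P L) (a b : P) : Finset P :=
  univ.filter fun c => ∀ w, D.I a w → D.I b w → D.I c w

/-- The order. -/
def q (D : SymDesign G P L) : ℕ := (D.v - D.lam) / (D.k - D.lam) - 1

/-- The automorphisms fixing every hyperplane through a point. -/
def star (D : SymDesign G P L) (a : P) : Subgroup G := D.dual.ker a

variable (D : SymDesign G P L)
include D

@[simp] theorem mem_line {a b c : P} :
    c ∈ D.line a b ↔ ∀ w, D.I a w → D.I b w → D.I c w := by simp [line]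

theorem mem_star {a : P} {g : G} : g ∈ D.star a ↔ ∀ w, D.I a w → g • w = w :=
  D.dual.mem_ker

theorem star_fix {a : P} {g : G} (hg : g ∈ D.star a) : g • a = a := D.dual.ker_fix hg

theorem left_mem_line (a b : P) : a ∈ D.line a b := by simp +contextual

theorem right_mem_line (a b : P) : b ∈ D.line a b := by simp +contextual

theorem line_comm (a b : P) : D.line a b = D.line b a := by
  ext c
  simp only [mem_line]
  exact ⟨fun h w h1 h2 => h w h2 h1, fun h w h1 h2 => h w h2 h1⟩

theorem line_eq {a b c d : P} (hab : a ≠ b) (hc : c ∈ D.line a b) (hd : d ∈ D.line a b)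
    (hcd : c ≠ d) : D.line c d = D.line a b := by
  classical
  have h : D.blks a ∩ D.blks b = D.blks c ∩ D.blks d := by
    refine eq_of_subset_of_card_le (fun w hw => ?_) ?_
    · simp only [mem_inter, mem_blks] at hw ⊢
      exact ⟨D.mem_line.1 hc w hw.1 hw.2, D.mem_line.1 hd w hw.1 hw.2⟩
    · rw [D.blks_inter_card hab, D.blks_inter_card hcd]
  have h' : ∀ w, (D.I a w ∧ D.I b w) ↔ (D.I c w ∧ D.I d w) := fun w => by
    have := Finset.ext_iff.1 h w
    simpa using this
  ext x
  simp only [mem_line]
  exact ⟨fun hx w h1 h2 => hx w ((h' w).1 ⟨h1, h2⟩).1 ((h' w).1 ⟨h1, h2⟩).2,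
    fun hx w h1 h2 => hx w ((h' w).2 ⟨h1, h2⟩).1 ((h' w).2 ⟨h1, h2⟩).2⟩

/-- A line with two points in a hyperplane lies in it. -/
theorem line_I {a b c d x : P} {w : L} (hab : a ≠ b) (hc : c ∈ D.line a b) (hd : d ∈ D.line a b)
    (hcd : c ≠ d) (hcw : D.I c w) (hdw : D.I d w) (hx : x ∈ D.line a b) : D.I x w := by
  rw [← D.line_eq hab hc hd hcd] at hx
  exact D.mem_line.1 hx w hcw hdw

theorem smul_mem_line {a b c : P} (g : G) : g • c ∈ D.line (g • a) (g • b) ↔ c ∈ D.line a b := by
  simp only [mem_line]
  constructor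
  · intro h w ha hb
    exact (D.smul_iff g c w).1 (h (g • w) ((D.smul_iff g a w).2 ha) ((D.smul_iff g b w).2 hb))
  · intro h w ha hb
    rw [← smul_inv_smul g w, D.smul_iff] at ha hb ⊢
    exact h _ ha hb

theorem star_mem_line {a : P} {g : G} (hg : g ∈ D.star a) (b : P) : g • b ∈ D.line a b := by
  rw [mem_line]
  intro w ha hb
  have h := (D.smul_iff g b w).2 hb
  rwa [D.mem_star.1 hg w ha] at h

end SymDesign

/-- Every line meets every hyperplane. -/
structure PSpace (D : SymDesign G P L) : Prop where
  meet : ∀ a b : P, a ≠ b → ∀ z : L, ∃ c, D.I c z ∧ c ∈ D.line a b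

namespace PSpace

set_option linter.unusedSectionVars false

variable {D : SymDesign G P L} (S : PSpace D)
include S

/-- A line not in a hyperplane meets it exactly once. -/
theorem existsUnique_meet {a b : P} (hab : a ≠ b) {z : L} (h : ¬ (D.I a z ∧ D.I b z)) :
    ∃! c, D.I c z ∧ c ∈ D.line a b := by
  obtain ⟨c, hc, hc'⟩ := S.meet a b hab z
  refine ⟨c, ⟨hc, hc'⟩, fun d hd => by_contra fun hne => h ?_⟩
  exact ⟨D.line_I hab hd.2 hc' hne hd.1 hc (D.left_mem_line a b),
    D.line_I hab hd.2 hc' hne hd.1 hc (D.right_mem_line a b)⟩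

theorem line_card_mul {a b : P} (hab : a ≠ b) :
    (D.line a b).card * (D.k - D.lam) = D.v - D.lam := by
  classical
  have h := sum_card_bipartiteAbove_eq_sum_card_bipartiteBelow
    (r := fun c w => D.I c w) (s := D.line a b) (t := (univ : Finset L))
  have hA : ∀ c ∈ D.line a b, ((univ : Finset L).bipartiteAbove (fun c w => D.I c w) c).card
      = D.k := by
    intro c _
    rw [← D.blks_card c]
    congr 1
  have hB : ∀ w ∈ (univ : Finset L), ((D.line a b).bipartiteBelow (fun c w => D.I c w) w).card
      = if D.I a w ∧ D.I b w then (D.line a b).card else 1 := by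
    intro w _
    split_ifs with hw
    · congr 1
      rw [bipartiteBelow, filter_true_of_mem]
      exact fun c hc => D.mem_line.1 hc w hw.1 hw.2
    · obtain ⟨c, hc, huniq⟩ := S.existsUnique_meet hab hw
      rw [card_eq_one]
      refine ⟨c, ?_⟩
      ext d
      simp only [bipartiteBelow, mem_filter, mem_singleton]
      exact ⟨fun hd => huniq d ⟨hd.2, hd.1⟩, fun hd => hd ▸ ⟨hc.2, hc.1⟩⟩
  rw [sum_const_nat hA, sum_congr rfl hB, sum_ite, sum_const, sum_const, smul_eq_mul, smul_eq_mul,
    mul_one] at h
  have e1 : (univ.filter fun w => D.I a w ∧ D.I b w).card = D.lam := by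
    rw [← D.blks_inter_card hab]
    congr 1
    ext w
    simp
  have e2 := card_filter_add_card_filter_not (s := (univ : Finset L)) (fun w => D.I a w ∧ D.I b w)
  rw [card_univ, D.card_blks_univ, e1] at e2
  rw [e1] at h
  have hl := D.lam_lt
  zify [hl.le, show D.lam ≤ D.v by omega] at h e2 ⊢
  linarith

theorem q_spec {a b : P} (hab : a ≠ b) : (D.line a b).card = D.q + 1 := by
  have h := S.line_card_mul hab
  have hl := D.lam_lt
  have hpos : 0 < (D.line a b).card := card_pos.2 ⟨a, D.left_mem_line a b⟩
  have : (D.v - D.lam) / (D.k - D.lam) = (D.line a b).card := by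
    rw [← h, Nat.mul_div_cancel _ (by omega)]
  rw [SymDesign.q, this]
  omega

theorem exists_ne (a : P) : ∃ b, a ≠ b := by
  have : 1 < Fintype.card P := by rw [D.card_pts_univ]; have := D.k_le; omega
  obtain ⟨b, hb⟩ := Fintype.exists_ne_of_one_lt_card this a
  exact ⟨b, hb.symm⟩

theorem params : D.k = D.q * D.lam + 1 ∧ D.v = D.q * D.k + 1 ∧ 2 ≤ D.q := by
  obtain ⟨a⟩ : Nonempty P := Fintype.card_pos_iff.1 (by
    rw [D.card_pts_univ]; have := D.k_le; omega)
  obtain ⟨b, hab⟩ := S.exists_ne a
  have h := S.line_card_mul hab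
  rw [S.q_spec hab] at h
  have e := D.lam_mul'
  have hl := D.lam_lt
  have hk := D.k_le
  have hl1 := D.lam_pos
  zify [hl.le, show D.lam ≤ D.v by omega] at h
  zify at hl hk hl1
  have h1 : (D.k : ℤ) = D.q * D.lam + 1 := by
    refine mul_left_cancel₀ (show (D.k : ℤ) - D.lam ≠ 0 by omega) ?_
    linear_combination -((D.lam : ℤ) * h) - e
  have h2 : (D.v : ℤ) = D.q * D.k + 1 := by linear_combination h1 - h
  refine ⟨by exact_mod_cast h1, by exact_mod_cast h2, ?_⟩
  by_contra hq
  interval_cases hq' : D.q <;> omega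

theorem two_le_q : 2 ≤ D.q := S.params.2.2

/-- There is a point off a given line and a given hyperplane. -/
theorem exists_off {a b : P} (hab : a ≠ b) (z : L) : ∃ c, ¬ D.I c z ∧ c ∉ D.line a b := by
  classical
  obtain ⟨c, hc⟩ : ∃ c, c ∉ D.pts z ∪ D.line a b := by
    by_contra hcon
    push Not at hcon
    have h1 := card_le_card (fun c _ => hcon c : (univ : Finset P) ⊆ D.pts z ∪ D.line a b)
    have h2 : (D.pts z ∩ D.line a b).Nonempty := by
      obtain ⟨c, hc, hc'⟩ := S.meet a b hab z
      exact ⟨c, mem_inter.2 ⟨D.mem_pts.2 hc, hc'⟩⟩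
    have h3 := card_union_add_card_inter (D.pts z) (D.line a b)
    have h4 := card_pos.2 h2
    rw [card_univ, D.card_pts_univ] at h1
    rw [D.pts_card, S.q_spec hab] at h3
    obtain ⟨-, hv, hq⟩ := S.params
    have hk := D.two_le_k
    nlinarith [Nat.mul_le_mul hq hk]
  rw [mem_union, not_or, SymDesign.mem_pts] at hc
  exact ⟨c, hc⟩

/-- **The Veblen–Young axiom.** -/
theorem veblen {a b c d e : P} (hab : a ≠ b) (hc : c ∉ D.line a b) (hd : d ∈ D.line a b)
    (he : e ∈ D.line a c) (hde : d ≠ e) :
    ∃ x, x ∈ D.line b c ∧ x ∈ D.line d e := by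
  classical
  by_cases hdb : d = b
  · exact ⟨b, D.left_mem_line b c, hdb ▸ D.left_mem_line d e⟩
  by_cases hec : e = c
  · exact ⟨c, D.right_mem_line b c, hec ▸ D.right_mem_line d e⟩
  have hac : a ≠ c := fun h => hc (h ▸ D.left_mem_line a b)
  have hbc : b ≠ c := fun h => hc (h ▸ D.right_mem_line a b)
  by_contra hcon
  push Not at hcon
  set Y := D.blks d ∩ D.blks e with hY
  set F := Y.filter (fun w => D.I b w ∧ D.I c w) with hF
  have habc : ∀ w ∈ F, D.I a w ∧ D.I b w ∧ D.I c w := by
    intro w hw
    simp only [F, Y, mem_filter, mem_inter, SymDesign.mem_blks] at hw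
    exact ⟨D.line_I hab (D.right_mem_line a b) hd (Ne.symm hdb) hw.2.1 hw.1.1 (D.left_mem_line a b),
      hw.2⟩
  -- triples
  have htriple : ∀ {u u' x : P}, u ≠ u' → x ∉ D.line u u' →
      D.q * ((D.blks u ∩ D.blks u').filter (fun w => D.I x w)).card + 1 = D.lam := by
    intro u u' x huu hx
    have h := sum_card_bipartiteAbove_eq_sum_card_bipartiteBelow
      (r := fun y w => D.I y w) (s := D.line u u') (t := D.blks x)
    have hA : ∀ y ∈ D.line u u', ((D.blks x).bipartiteAbove (fun y w => D.I y w) y).card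
        = D.lam := by
      intro y hy
      rw [← D.blks_inter_card (show x ≠ y from fun h => hx (h ▸ hy))]
      congr 1
      ext w
      simp [bipartiteAbove]
    have hB : ∀ w ∈ D.blks x, ((D.line u u').bipartiteBelow (fun y w => D.I y w) w).card
        = if D.I u w ∧ D.I u' w then D.q + 1 else 1 := by
      intro w _
      split_ifs with hw
      · rw [← S.q_spec huu]
        congr 1
        rw [bipartiteBelow, filter_true_of_mem]
        exact fun y hy => D.mem_line.1 hy w hw.1 hw.2
      · obtain ⟨y, hy, huniq⟩ := S.existsUnique_meet huu hw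
        rw [card_eq_one]
        refine ⟨y, ?_⟩
        ext y'
        simp only [bipartiteBelow, mem_filter, mem_singleton]
        exact ⟨fun hd => huniq y' ⟨hd.2, hd.1⟩, fun hd => hd ▸ ⟨hy.2, hy.1⟩⟩
    rw [sum_const_nat hA, sum_congr rfl hB, sum_ite, sum_const, sum_const, smul_eq_mul,
      smul_eq_mul, mul_one, S.q_spec huu] at h
    have e1 := card_filter_add_card_filter_not (s := D.blks x) (fun w => D.I u w ∧ D.I u' w)
    rw [D.blks_card] at e1
    have e2 : (D.blks x).filter (fun w => D.I u w ∧ D.I u' w)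
        = (D.blks u ∩ D.blks u').filter (fun w => D.I x w) := by
      ext w
      simp only [mem_filter, mem_inter, SymDesign.mem_blks]
      tauto
    rw [e2] at h e1
    obtain ⟨hk, -, -⟩ := S.params
    nlinarith
  have hdcab : c ∉ D.line d e := hcon c (D.right_mem_line b c)
  have hbde : b ∉ D.line d e := hcon b (D.left_mem_line b c)
  have h := sum_card_bipartiteAbove_eq_sum_card_bipartiteBelow
    (r := fun x w => D.I x w) (s := D.line b c) (t := Y)
  have hA : ∀ x ∈ D.line b c, D.q * (Y.bipartiteAbove (fun x w => D.I x w) x).card + 1 = D.lam :=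
    fun x hx => htriple hde (hcon x hx)
  have hB : ∀ w ∈ Y, ((D.line b c).bipartiteBelow (fun x w => D.I x w) w).card
      = if D.I b w ∧ D.I c w then D.q + 1 else 1 := by
    intro w _
    split_ifs with hw
    · rw [← S.q_spec hbc]
      congr 1
      rw [bipartiteBelow, filter_true_of_mem]
      exact fun y hy => D.mem_line.1 hy w hw.1 hw.2
    · obtain ⟨y, hy, huniq⟩ := S.existsUnique_meet hbc hw
      rw [card_eq_one]
      refine ⟨y, ?_⟩
      ext y'
      simp only [bipartiteBelow, mem_filter, mem_singleton]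
      exact ⟨fun hd => huniq y' ⟨hd.2, hd.1⟩, fun hd => hd ▸ ⟨hy.2, hy.1⟩⟩
  have hFcard : D.q * F.card + 1 = D.lam := by
    have h0 := htriple hab hc
    suffices F = (D.blks a ∩ D.blks b).filter (fun w => D.I c w) by rw [this]; exact h0
    ext w
    constructor
    · intro hw
      have := habc w hw
      simp [this]
    · intro hw
      simp only [mem_filter, mem_inter, SymDesign.mem_blks] at hw
      simp only [F, Y, mem_filter, mem_inter, SymDesign.mem_blks]
      exact ⟨⟨D.mem_line.1 hd w hw.1.1 hw.1.2, D.mem_line.1 he w hw.1.1 hw.2⟩, hw.1.2, hw.2⟩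
  obtain ⟨hk, -, hq⟩ := S.params
  have hconst : ∀ x ∈ D.line b c, (Y.bipartiteAbove (fun x w => D.I x w) x).card = F.card := by
    intro x hx
    have := hA x hx
    exact Nat.eq_of_mul_eq_mul_left (show 0 < D.q by omega) (by omega)
  rw [sum_const_nat hconst, sum_congr rfl hB, sum_ite, sum_const, sum_const, smul_eq_mul,
    smul_eq_mul, mul_one, S.q_spec hbc, ← hF] at h
  have e1 := card_filter_add_card_filter_not (s := Y) (fun w => D.I b w ∧ D.I c w)
  rw [← hF, hY, D.blks_inter_card hde] at e1
  rw [← hY] at e1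
  have hl1 := D.lam_pos
  nlinarith

/-- A proper subspace meeting every line is a hyperplane. -/
theorem hyperplane_of (F : Finset P) (hsub : ∀ a ∈ F, ∀ b ∈ F, a ≠ b → ∀ c ∈ D.line a b, c ∈ F)
    (x₀ : P) (hproper : x₀ ∉ F) (hmeet : ∀ a b : P, a ≠ b → ∃ c ∈ D.line a b, c ∈ F) :
    ∃ z, D.pts z = F := by
  classical
  -- the projection from a point off `F`
  have hproj : ∀ x, x ∉ F → ∀ T : Finset P, x ∈ T →
      (∀ c ∈ T, c ≠ x → D.line x c ⊆ T) → D.q * (F ∩ T).card + 1 = T.card := by
    intro x hx T hxT hT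
    have hex : ∀ y ∈ T.erase x, ∃ c, c ∈ F ∩ T ∧ c ∈ D.line x y := by
      intro y hy
      obtain ⟨c, hc, hcF⟩ := hmeet x y (ne_of_mem_erase hy).symm
      exact ⟨c, mem_inter.2 ⟨hcF, hT y (mem_of_mem_erase hy) (ne_of_mem_erase hy) hc⟩, hc⟩
    choose! f hf hfl using hex
    have h := card_eq_sum_card_fiberwise (f := f) (s := T.erase x) (t := F ∩ T) hf
    rw [sum_const_nat (m := D.q) fun c hc => ?_, card_erase_of_mem hxT] at h
    · have := card_pos.2 ⟨x, hxT⟩
      rw [mul_comm] at h
      omega
    rw [mem_inter] at hc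
    have hcx : c ≠ x := fun h => hx (h ▸ hc.1)
    have : (T.erase x).filter (fun y => f y = c) = (D.line x c).erase x := by
      ext y
      simp only [mem_filter, mem_erase]
      constructor
      · rintro ⟨⟨hyx, hyT⟩, rfl⟩
        refine ⟨hyx, ?_⟩
        rw [D.line_eq hyx.symm (D.left_mem_line x y) (hfl y (mem_erase.2 ⟨hyx, hyT⟩))
          hcx.symm]
        exact D.right_mem_line x y
      · rintro ⟨hyx, hy⟩
        have hyT : y ∈ T := hT c hc.2 hcx hy
        have hy' : y ∈ T.erase x := mem_erase.2 ⟨hyx, hyT⟩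
        refine ⟨⟨hyx, hyT⟩, ?_⟩
        by_contra hne
        have h1 : D.line x y = D.line x c :=
          D.line_eq hcx.symm (D.left_mem_line x c) hy hyx.symm
        have h2 : f y ∈ D.line x c := h1 ▸ hfl y hy'
        have h3 : D.line (f y) c = D.line x c := D.line_eq hcx.symm h2 (D.right_mem_line x c) hne
        exact hx (hsub _ (mem_inter.1 (hf y hy')).1 c hc.1 hne x (h3 ▸ D.left_mem_line x c))
    rw [this, card_erase_of_mem (D.left_mem_line x c), S.q_spec hcx.symm]
    omega
  obtain ⟨hk, hv, hq⟩ := S.params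
  have hFk : F.card = D.k := by
    have h := hproj x₀ hproper univ (mem_univ _) (fun _ _ _ => subset_univ _)
    rw [inter_univ, card_univ, D.card_pts_univ, hv] at h
    exact Nat.eq_of_mul_eq_mul_left (show 0 < D.q by omega) (by omega)
  by_contra hcon
  push Not at hcon
  have hall : ∀ z, (F ∩ D.pts z).card = D.lam := by
    intro z
    obtain ⟨x, hx, hxF⟩ : ∃ x ∈ D.pts z, x ∉ F := by
      by_contra h'
      push Not at h'
      exact hcon z (eq_of_subset_of_card_le h' (by rw [hFk, D.pts_card]))
    have h := hproj x hxF (D.pts z) hx (fun c hc hcx y hy => by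
      rw [SymDesign.mem_pts] at hx hc ⊢
      exact D.mem_line.1 hy z hx hc)
    rw [D.pts_card, hk] at h
    exact Nat.eq_of_mul_eq_mul_left (show 0 < D.q by omega) (by omega)
  have h := sum_card_bipartiteAbove_eq_sum_card_bipartiteBelow
    (r := fun c w => D.I c w) (s := F) (t := (univ : Finset L))
  rw [sum_const_nat (m := D.k) (fun c _ => ?_), sum_const_nat (m := D.lam) (fun w _ => ?_),
    card_univ, D.card_blks_univ, hFk] at h
  · have e := D.lam_mul'
    have hl := D.lam_lt
    zify at h hl
    nlinarith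
  · rw [← hall w]
    congr 1
    ext p
    simp [bipartiteBelow]
  · rw [← D.blks_card c]
    congr 1

end PSpace

/-- The dual design of a design with transitive kernels is a projective space. -/
theorem pspace_dual [Fintype G] {D : SymDesign G P L} (A : Axial D) : PSpace D.dual :=
  ⟨fun B E hne x => by
    obtain ⟨X, hX, hXp⟩ := A.exists_meet B E (Ne.symm hne) x
    exact ⟨X, hX, D.dual.mem_line.2 hXp⟩⟩

theorem star_dual_transitive [Fintype G] {D : SymDesign G P L} (A : Axial D) (a : L) (z z' : P)
    (hz : ¬ D.dual.I a z) (hz' : ¬ D.dual.I a z') : ∃ g ∈ D.dual.star a, g • z = z' :=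
  A.ker_transitive a z z' hz hz'

end Cfsg.Agent.SymDesignPG
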